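import Groth.Agent.Lib.Cliff28.EvenLocal
import Mathlib.Algebra.Azumaya.Defs
import Mathlib.RingTheory.OrzechProperty
import Mathlib.LinearAlgebra.FreeModule.Finite.Matrix

/-!
# The Clifford algebra of a regular form of even rank over a local ring is Azumaya

`GrothLib.Cliff28.exists_conj_of_algEquiv`: hence its automorphisms are inner.
-/

set_option autoImplicit false
set_option linter.unusedSectionVars false

open CliffordAlgebra QuadraticMap TensorProduct

namespace GrothLib.Cliff28

universe u v

section Exterior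

variable {R : Type u} [CommRing R] {M : Type v} [AddCommGroup M] [Module R M]

local notation "C₀" => CliffordAlgebra (0 : QuadraticForm R M)

variable {I : Type*} [Finite I] (b : Module.Basis I R M)

theorem proj_comp_contract {i j : I} (h : i ≠ j) :
    proj b i ∘ₗ contractLeft (b.coord j) = contractLeft (b.coord j) ∘ₗ proj b i := by
  refine LinearMap.ext fun x => ?_
  rw [LinearMap.comp_apply, LinearMap.comp_apply, proj_apply, proj_apply,
    contractLeft_comm (b.coord j) (b.coord i), contractLeft_ι_mul (d := b.coord j), b.coord_apply,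
    b.repr_self, Finsupp.single_eq_of_ne h.symm, zero_smul, zero_sub, map_neg, neg_neg]

theorem projs_comp_contract {j : I} : ∀ {l : List I}, j ∉ l →
    (l.map (proj b)).prod ∘ₗ contractLeft (b.coord j) =
      contractLeft (b.coord j) ∘ₗ (l.map (proj b)).prod
  | [], _ => rfl
  | i :: l, h => by
    simp only [List.mem_cons, not_or] at h
    rw [List.map_cons, List.prod_cons, Module.End.mul_eq_comp, LinearMap.comp_assoc,
      projs_comp_contract h.2, ← LinearMap.comp_assoc, proj_comp_contract b (Ne.symm h.1),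
      LinearMap.comp_assoc]

include b in
/-- Exterior products and contractions generate the endomorphisms of an exterior algebra. -/
theorem end_eq_top (A : Subalgebra R (Module.End R C₀))
    (hι : ∀ v, LinearMap.mulLeft R (ι (0 : QuadraticForm R M) v) ∈ A)
    (hd : ∀ d : Module.Dual R M, contractLeft d ∈ A) : A = ⊤ := by
  classical
  haveI := Fintype.ofFinite I
  have hL : ∀ y, LinearMap.mulLeft R (y : C₀) ∈ A := fun y => by
    induction y using CliffordAlgebra.induction with
    | algebraMap r =>
      have : LinearMap.mulLeft R (algebraMap R C₀ r) = algebraMap R (Module.End R C₀) r :=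
        LinearMap.ext fun x => by simp [Algebra.smul_def]
      rw [this]; exact A.algebraMap_mem r
    | ι v => exact hι v
    | mul a c ha hc =>
      rw [LinearMap.mulLeft_mul, ← Module.End.mul_eq_comp]; exact A.mul_mem ha hc
    | add a c ha hc =>
      have : LinearMap.mulLeft R (a + c) = LinearMap.mulLeft R a + LinearMap.mulLeft R c :=
        LinearMap.ext fun x => add_mul a c x
      rw [this]; exact A.add_mem ha hc
  have hproj : ∀ i, proj b i ∈ A := fun i => A.mul_mem (hd _) (hL _)
  suffices H : ∀ (k : ℕ) (l : List I), l.Nodup → l.length + k = Fintype.card I →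
      ∀ f : Module.End R C₀, f ∘ₗ (l.map (proj b)).prod ∈ A by
    refine eq_top_iff.mpr fun f _ => ?_
    have := H (Fintype.card I) [] List.nodup_nil (by simp) f
    simpa [Module.End.one_eq_id] using this
  intro k
  induction k with
  | zero =>
    intro l hl hlen f
    have hall : ∀ i, i ∈ l := fun i => by
      have : l.toFinset = Finset.univ := Finset.eq_univ_of_card _
        (by rw [List.toFinset_card_of_nodup hl]; omega)
      exact List.mem_toFinset.mp (this ▸ Finset.mem_univ i)
    have hdead : ∀ (l : List I) (i : I), i ∈ l → l.Nodup → ∀ x,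
        contractLeft (b.coord i) ((l.map (proj b)).prod x) = 0 := by
      intro l i hi hl x
      induction l with
      | nil => simp at hi
      | cons j l ih =>
        obtain ⟨hj, hl⟩ := List.nodup_cons.mp hl
        rw [List.map_cons, List.prod_cons, Module.End.mul_apply]
        rcases List.mem_cons.mp hi with rfl | hi
        · rw [proj_apply, contractLeft_contractLeft]
        · have hji : j ≠ i := fun h => hj (h ▸ hi)
          have := LinearMap.congr_fun (proj_comp_contract b hji) ((l.map (proj b)).prod x)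
          rw [LinearMap.comp_apply, LinearMap.comp_apply, ih hi hl, map_zero] at this
          exact this.symm
    have : f ∘ₗ (l.map (proj b)).prod = LinearMap.mulLeft R (f 1) ∘ₗ (l.map (proj b)).prod :=
      LinearMap.ext fun x => by
        obtain ⟨r, hr⟩ := scalar_of_forall_contract b _ fun i => hdead l i (hall i) hl x
        rw [LinearMap.comp_apply, LinearMap.comp_apply, hr, LinearMap.mulLeft_apply,
          Algebra.algebraMap_eq_smul_one, map_smul, mul_smul_comm, mul_one]
    rw [this, ← Module.End.mul_eq_comp]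
    exact A.mul_mem (hL _) (A.list_prod_mem fun p hp => by
      obtain ⟨i, -, rfl⟩ := List.mem_map.mp hp; exact hproj i)
  | succ k ih =>
    intro l hl hlen f
    obtain ⟨j, hj⟩ : ∃ j, j ∉ l := by
      by_contra! h
      have := Finset.card_le_card (fun i _ => List.mem_toFinset.mpr (h i) :
        (Finset.univ : Finset I) ⊆ l.toFinset)
      rw [List.toFinset_card_of_nodup hl, Finset.card_univ] at this
      omega
    have hjl : (j :: l).Nodup := List.nodup_cons.mpr ⟨hj, hl⟩
    have hlen' : (j :: l).length + k = Fintype.card I := by rw [List.length_cons]; omega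
    set e := LinearMap.mulLeft R (ι (0 : QuadraticForm R M) (b j)) with he
    have hsplit : f ∘ₗ (l.map (proj b)).prod =
        f ∘ₗ ((j :: l).map (proj b)).prod +
          (f ∘ₗ e) ∘ₗ ((j :: l).map (proj b)).prod ∘ₗ contractLeft (b.coord j) := by
      refine LinearMap.ext fun x => ?_
      have h1 := LinearMap.congr_fun (projs_comp_contract b hj) x
      simp only [LinearMap.comp_apply] at h1
      simp only [List.map_cons, List.prod_cons, Module.End.mul_apply, LinearMap.comp_apply,
        LinearMap.add_apply, h1, he, LinearMap.mulLeft_apply, proj_eq_sub,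
        contractLeft_contractLeft, mul_zero, sub_zero, ← map_add, sub_add_cancel]
    rw [hsplit]
    refine A.add_mem (ih _ hjl hlen' f) ?_
    rw [← LinearMap.comp_assoc, ← Module.End.mul_eq_comp _ (contractLeft (b.coord j))]
    exact A.mul_mem (ih _ hjl hlen' _) (hd _)

end Exterior

section Azumaya

variable {R : Type u} [CommRing R] {M : Type v} [AddCommGroup M] [Module R M] [Module.Free R M]
  [Module.Finite R M] (Q : QuadraticForm R M)

theorem free_clifford : Module.Free R (CliffordAlgebra Q) := by
  classical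
  obtain ⟨B, hB⟩ := exists_changeForm Q
  let b := (Module.Free.chooseBasis R M).reindex (Fintype.equivFin _)
  exact Module.Free.of_basis (b.ExteriorAlgebra.map (changeFormEquiv hB).symm)

theorem finite_clifford : Module.Finite R (CliffordAlgebra Q) := by
  classical
  obtain ⟨B, hB⟩ := exists_changeForm Q
  let b := (Module.Free.chooseBasis R M).reindex (Fintype.equivFin _)
  exact Module.Finite.of_basis (b.ExteriorAlgebra.map (changeFormEquiv hB).symm)

variable {Q}

theorem mulLeftRight_bijective [IsLocalRing R] (hQ : QuadGrp.IsRegular Q) {m : ℕ}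
    {ζ : CliffordAlgebra Q} (Z : IsArf Q m ζ) :
    Function.Bijective (AlgHom.mulLeftRight R (CliffordAlgebra Q)) := by
  classical
  set T := AlgHom.mulLeftRight R (CliffordAlgebra Q)
  obtain ⟨B, hB⟩ := exists_changeForm Q
  obtain ⟨z', hz'⟩ := Z.isUnit_z
  have happ : ∀ a c x, T (a ⊗ₜ MulOpposite.op c) x = a * x * c := fun a c x => by
    simp [T, AlgHom.mulLeftRight_apply]
  have hcontract : ∀ d : Module.Dual R M, (contractLeft d : Module.End R (CliffordAlgebra Q)) ∈ T.range := by
    intro d
    obtain ⟨w, rfl⟩ := hQ.2 d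
    refine ⟨ι Q w ⊗ₜ MulOpposite.op 1 -
      (z' : CliffordAlgebra Q) ⊗ₜ MulOpposite.op ((↑z'⁻¹ : CliffordAlgebra Q) * ι Q w),
      LinearMap.ext fun x => ?_⟩
    change T (_ - _) x = _
    rw [map_sub, LinearMap.sub_apply, happ, happ, mul_one, hz', twisted_mul Z.z_anti, ← hz']
    rw [mul_assoc (involute x), ← mul_assoc (z' : CliffordAlgebra Q), Units.mul_inv, one_mul,
      sub_eq_iff_eq_add, add_comm]
    exact ι_mul_eq Q w x
  let ψ := LinearEquiv.conjAlgEquiv R (changeFormEquiv hB)
  let b := (Module.Free.chooseBasis R M).reindex (Fintype.equivFin _)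
  have htop : T.range.map ψ.toAlgHom = ⊤ := by
    refine end_eq_top b _ (fun v => ?_) (fun d => ?_)
    · refine ⟨LinearMap.mulLeft R (ι Q v) + contractLeft (B v), T.range.add_mem ?_ (hcontract _),
        LinearMap.ext fun x => ?_⟩
      · exact ⟨ι Q v ⊗ₜ MulOpposite.op 1, LinearMap.ext fun x => by
          change T _ x = _
          rw [happ, mul_one]; rfl⟩
      · change changeForm hB (ι Q v * (changeFormEquiv hB).symm x +
          contractLeft (B v) ((changeFormEquiv hB).symm x)) = ι _ v * x
        rw [map_add, changeForm_ι_mul, changeForm_contractLeft, ← changeFormEquiv_apply hB,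
          LinearEquiv.apply_symm_apply, sub_add_cancel]
    · refine ⟨contractLeft d, hcontract d, LinearMap.ext fun x => ?_⟩
      change changeForm hB (contractLeft d ((changeFormEquiv hB).symm x)) = contractLeft d x
      rw [changeForm_contractLeft, ← changeFormEquiv_apply hB, LinearEquiv.apply_symm_apply]
  have hsurj : Function.Surjective T := by
    intro f
    have : ψ f ∈ T.range.map ψ.toAlgHom := htop ▸ Algebra.mem_top
    obtain ⟨g, ⟨t, rfl⟩, hg⟩ := this
    exact ⟨t, ψ.injective hg⟩
  haveI := free_clifford Q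
  haveI := finite_clifford Q
  haveI : Module.Free R (CliffordAlgebra Q)ᵐᵒᵖ := Module.Free.of_equiv (MulOpposite.opLinearEquiv R)
  haveI : Module.Finite R (CliffordAlgebra Q)ᵐᵒᵖ := Module.Finite.equiv (MulOpposite.opLinearEquiv R)
  haveI : Nontrivial R := inferInstance
  let e : Module.End R (CliffordAlgebra Q) ≃ₗ[R] CliffordAlgebra Q ⊗[R] (CliffordAlgebra Q)ᵐᵒᵖ :=
    LinearEquiv.ofFinrankEq _ _ (by
      rw [Module.finrank_linearMap, Module.finrank_tensorProduct,
        (MulOpposite.opLinearEquiv R (M := CliffordAlgebra Q)).finrank_eq])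
  refine ⟨?_, hsurj⟩
  have := OrzechProperty.injective_of_surjective_endomorphism (e.toLinearMap ∘ₗ T.toLinearMap)
    (e.surjective.comp hsurj)
  exact Function.Injective.of_comp this

end Azumaya

section Inner

variable {R : Type u} [CommRing R] [IsLocalRing R] {C : Type*} [Ring C] [Algebra R C] [Module.Free R C]
  [Module.Finite R C] [Nontrivial C]

theorem exists_conj_of_algEquiv (hC : Function.Bijective (AlgHom.mulLeftRight R C))
    (hcentre : ∀ x : C, (∀ y, y * x = x * y) → ∃ r, x = algebraMap R C r) (γ : C ≃ₐ[R] C) :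
    ∃ u : Cˣ, ∀ y, γ y * u = u * y := by
  classical
  let β := Module.Free.chooseBasis R C
  let β' := β.map (MulOpposite.opLinearEquiv R)
  have key : ∀ δ : C ≃ₐ[R] C, ∃ c : Module.Free.ChooseBasisIndex R C → C,
      (∑ i, c i * β i = 1) ∧ ∀ i y, δ y * c i = c i * y := by
    intro δ
    obtain ⟨t, ht⟩ := hC.2 δ.toLinearMap
    set c := TensorProduct.equivFinsuppOfBasisRight β' (M := C) t with hc
    have htc : t = ∑ i, c i ⊗ₜ[R] β' i := by
      have := (TensorProduct.equivFinsuppOfBasisRight β' (M := C)).symm_apply_apply t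
      rw [← hc, TensorProduct.equivFinsuppOfBasisRight_symm_apply, Finsupp.sum_fintype _ _ (by simp)] at this
      exact this.symm
    have hδ : ∀ z, δ z = ∑ i, c i * z * β i := fun z => by
      rw [← AlgEquiv.toLinearMap_apply, ← ht, htc, map_sum, LinearMap.sum_apply]
      simp [β', AlgHom.mulLeftRight_apply]
    refine ⟨c, by simpa using (hδ 1).symm, fun i y => ?_⟩
    have h0 : ∑ i, (c i * y - δ y * c i) ⊗ₜ[R] β' i = 0 := hC.1 <| LinearMap.ext fun z => by
      rw [map_zero, map_sum, LinearMap.sum_apply, LinearMap.zero_apply]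
      have : ∑ i, c i * (y * z) * β i - ∑ i, δ y * (c i * z * β i) = 0 := by
        rw [← hδ, map_mul, ← Finset.mul_sum, ← hδ, sub_self]
      rw [← this, ← Finset.sum_sub_distrib]
      exact Finset.sum_congr rfl fun i _ => by
        simp [β', AlgHom.mulLeftRight_apply, sub_mul, mul_assoc]
    have := Finsupp.ext_iff.mp (congrArg (TensorProduct.equivFinsuppOfBasisRight β' (M := C)) h0) i
    simp only [map_sum, map_zero, TensorProduct.equivFinsuppOfBasisRight_apply_tmul,
      β'.repr_self, Finsupp.coe_finsetSum, Finset.sum_apply, Finsupp.mapRange_apply,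
      Finsupp.single_apply, Finsupp.zero_apply] at this
    rw [Finset.sum_eq_single i (fun k _ hk => by simp [hk]) (by simp)] at this
    simp only [if_true, one_smul] at this
    exact (sub_eq_zero.mp this).symm
  obtain ⟨c, hc1, hc⟩ := key γ
  obtain ⟨c', hc'1, hc'⟩ := key γ.symm
  have hr : ∀ i j, ∃ r, c' i * c j = algebraMap R C r := fun i j => hcentre _ fun y => by
    rw [← mul_assoc, show y * c' i = c' i * γ y by simpa using hc' i (γ y), mul_assoc, hc, ← mul_assoc]
  choose r hr using hr
  obtain ⟨i, j, hij⟩ : ∃ i j, IsUnit (r i j) := by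
    by_contra! h
    have hone : (1 : C) ∈ IsLocalRing.maximalIdeal R • (⊤ : Submodule R C) := by
      rw [← hc'1]
      refine Submodule.sum_mem _ fun i _ => ?_
      rw [← mul_one (c' i), ← hc1, Finset.mul_sum, Finset.sum_mul]
      refine Submodule.sum_mem _ fun j _ => ?_
      rw [← mul_assoc, hr, ← Algebra.smul_def, smul_mul_assoc]
      exact Submodule.smul_mem_smul (h i j) trivial
    have htop : (⊤ : Submodule R C) ≤ IsLocalRing.maximalIdeal R • ⊤ := fun x _ => by
      rw [← mul_one x]
      refine Submodule.smul_induction_on (p := fun y => x * y ∈ IsLocalRing.maximalIdeal R • (⊤ : Submodule R C))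
        hone (fun a ha n _ => ?_) (fun a b ha hb => ?_)
      · rw [mul_smul_comm]; exact Submodule.smul_mem_smul ha trivial
      · rw [mul_add]; exact add_mem ha hb
    have := Submodule.eq_bot_of_le_smul_of_le_jacobson_bot (IsLocalRing.maximalIdeal R) ⊤
      Module.Finite.fg_top htop (IsLocalRing.jacobson_eq_maximalIdeal ⊥ bot_ne_top).ge
    exact one_ne_zero ((Submodule.mem_bot R).mp (this ▸ Submodule.mem_top : (1 : C) ∈ (⊥ : Submodule R C)))
  obtain ⟨e, he⟩ := hij
  set d := (↑e⁻¹ : R) • c' i with hd
  have hl : d * c j = 1 := by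
    rw [hd, smul_mul_assoc, hr, ← he, Algebra.smul_def, ← map_mul, Units.inv_mul, map_one]
  have hinj : Function.Injective (LinearMap.mulLeft R d) := by
    refine OrzechProperty.injective_of_surjective_endomorphism _ fun y => ⟨c j * y, ?_⟩
    rw [LinearMap.mulLeft_apply, ← mul_assoc, hl, one_mul]
  have hrr : c j * d = 1 := hinj (by simp [← mul_assoc, hl])
  exact ⟨⟨c j, d, hrr, hl⟩, hc j⟩

end Inner

section Clifford

variable {R : Type u} [CommRing R] [IsLocalRing R] {M : Type v} [AddCommGroup M] [Module R M]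
  [Module.Free R M] [Module.Finite R M] {Q : QuadraticForm R M} {m : ℕ}

theorem exists_conj_clifford (hQ : QuadGrp.IsRegular Q) (hM : Module.finrank R M = 2 * m)
    (γ : CliffordAlgebra Q ≃ₐ[R] CliffordAlgebra Q) :
    ∃ u : (CliffordAlgebra Q)ˣ, ∀ y, γ y * u = u * y := by
  obtain ⟨ζ, Z⟩ := exists_arf m Q hM hQ
  haveI := free_clifford Q
  haveI := finite_clifford Q
  haveI : Nontrivial (CliffordAlgebra Q) := (algebraMap_injective Q).nontrivial
  exact exists_conj_of_algEquiv (mulLeftRight_bijective hQ Z)
    (fun x hx => Z.scalar_of_commute hQ fun v => hx _) γ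

theorem mem_GPin'_of_conj {u : (CliffordAlgebra Q)ˣ} {g : M ≃ₗ[R] M}
    (h : ∀ v, (u : CliffordAlgebra Q) * ι Q v * ↑u⁻¹ = ι Q (g v)) : u ∈ QuadGrp.GPin' Q := by
  rw [QuadGrp.mem_GPin']
  ext x
  constructor
  · intro hx
    obtain ⟨y, ⟨v, rfl⟩, rfl⟩ : ∃ y ∈ LinearMap.range (ι Q), ConjAct.toConjAct u • y = x := hx
    exact ⟨g v, by rw [ConjAct.units_smul_def, ConjAct.ofConjAct_toConjAct, h]⟩
  · rintro ⟨v, rfl⟩
    refine ⟨ι Q (g.symm v), ⟨_, rfl⟩, ?_⟩
    change ConjAct.toConjAct u • ι Q (g.symm v) = ι Q v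
    rw [ConjAct.units_smul_def, ConjAct.ofConjAct_toConjAct, h, LinearEquiv.apply_symm_apply]

theorem exists_lift_of_mem_O (hQ : QuadGrp.IsRegular Q) (hM : Module.finrank R M = 2 * m)
    {g : M ≃ₗ[R] M} (hg : g ∈ QuadGrp.O Q) :
    ∃ u ∈ QuadGrp.GPin' Q, (∀ v, (u : CliffordAlgebra Q) * ι Q v * ↑u⁻¹ = ι Q (g v)) ∧
      ∀ y, map (QuadGrp.isometryOfMem Q g hg) y * u = u * y := by
  let γ := equivOfIsometry (Q₁ := Q) (Q₂ := Q) { g with map_app' := hg }
  obtain ⟨u, hu⟩ := exists_conj_clifford hQ hM γ
  have hγ : ∀ y, γ y = map (QuadGrp.isometryOfMem Q g hg) y := fun y => by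
    rfl
  have h : ∀ v, (u : CliffordAlgebra Q) * ι Q v * ↑u⁻¹ = ι Q (g v) := fun v => by
    rw [← hu, hγ, map_apply_ι, mul_assoc, Units.mul_inv, mul_one, QuadGrp.isometryOfMem_apply]
  exact ⟨u, mem_GPin'_of_conj h, h, fun y => (hγ y) ▸ hu y⟩

theorem IsArf.odd_twist {ζ : CliffordAlgebra Q} (Z : IsArf Q m ζ) {y : CliffordAlgebra Q}
    (hy : y ∈ evenOdd Q 1) : y * ζ = (1 - ζ) * y := by
  induction y, hy using odd_induction with
  | ι v => exact Z.twist v
  | add a c ha hc iha ihc => rw [add_mul, iha, ihc, mul_add]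
  | ι_mul_ι_mul a c x hx ih =>
    rw [mul_assoc, ih, ← mul_assoc, ← mul_assoc]
    congr 1
    exact ((Commute.one_left _).sub_left (Z.commute_even (ι_mul_ι_mem_evenOdd_zero Q a c))).eq.symm

theorem exists_gSpin_lift (hQ : QuadGrp.IsRegular Q) (hm : 1 ≤ m)
    (hM : Module.finrank R M = 2 * m) {g : M ≃ₗ[R] M} (hg : g ∈ QuadGrp.SOeven Q) :
    ∃ u ∈ QuadGrp.GSpin Q, ∀ v, (u : CliffordAlgebra Q) * ι Q v * ↑u⁻¹ = ι Q (g v) := by
  obtain ⟨ζ, Z⟩ := exists_arf m Q hM hQ
  have hgO : g ∈ QuadGrp.O Q := hg.choose
  have hfix := (Z.mem_SOeven_iff hQ hm hM hgO).mp hg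
  obtain ⟨u, hu, hconj, hint⟩ := exists_lift_of_mem_O hQ hM hgO
  obtain ⟨e, he, h0, h1⟩ := isLocHomog_of_mem hQ hM hu
  refine ⟨u, ⟨⟨hu, ⟨e, he, h0, h1⟩⟩, ?_⟩, hconj⟩
  rcases IsLocalRing.isUnit_or_isUnit_one_sub_self e with h | h
  · obtain rfl : e = 1 := h.mul_left_cancel (he.eq.trans (mul_one e).symm)
    change (u : CliffordAlgebra Q) ∈ evenOdd Q 0
    rwa [one_smul] at h0
  · obtain rfl : e = 0 := h.mul_left_cancel (by rw [sub_mul, one_mul, he.eq, sub_self, mul_zero])
    rw [sub_zero, one_smul] at h1
    have hz := hint ζ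
    rw [hfix, Z.odd_twist h1] at hz
    exact absurd (u.isUnit.mul_right_cancel hz) (Z.ne_one_sub hQ hm hM)

end Clifford

end GrothLib.Cliff28
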