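import Groth.Agent.Lib.Cliff28.BaseChange
import Mathlib.LinearAlgebra.CliffordAlgebra.Even
import Mathlib.LinearAlgebra.CliffordAlgebra.EvenEquiv
import Mathlib.RingTheory.Flat.Basic

/-!
# Clifford algebras and base change, without inverting two
-/

set_option autoImplicit false
set_option linter.unusedSectionVars false

open CliffordAlgebra TensorProduct

namespace GrothLib.Cliff28

universe u v

variable {R : Type u} [CommRing R] {M : Type v} [AddCommGroup M] [Module R M]

section Parts

variable (Q : QuadraticForm R M)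

/-- The homogeneous part of degree `i`. -/
noncomputable def part (i : ZMod 2) : CliffordAlgebra Q →ₗ[R] ↥(evenOdd Q i) :=
  (DFinsupp.lapply i).comp (DirectSum.decomposeLinearEquiv (evenOdd Q)).toLinearMap

theorem part_of_mem {i : ZMod 2} {x : CliffordAlgebra Q} (hx : x ∈ evenOdd Q i) :
    (part Q i x : CliffordAlgebra Q) = x :=
  DirectSum.decompose_of_mem_same (evenOdd Q) hx

theorem part_of_mem_ne {i j : ZMod 2} {x : CliffordAlgebra Q} (hx : x ∈ evenOdd Q j) (h : j ≠ i) :
    part Q i x = 0 :=
  Subtype.ext (DirectSum.decompose_of_mem_ne (evenOdd Q) hx h)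

theorem part_add_part (x : CliffordAlgebra Q) :
    (part Q 0 x : CliffordAlgebra Q) + part Q 1 x = x := by
  obtain ⟨x0, h0, x1, h1, rfl⟩ := exists_even_add_odd Q x
  rw [map_add, map_add, Submodule.coe_add, Submodule.coe_add, part_of_mem Q h0, part_of_mem Q h1,
    part_of_mem_ne Q h1 (by decide), part_of_mem_ne Q h0 (by decide)]
  simp

end Parts

section Even

variable {N : Type*} [AddCommGroup N] [Module R N] {Q : QuadraticForm R M} {Q' : QuadraticForm R N}

theorem map_equiv_even (e : Q.IsometryEquiv Q') :
    (CliffordAlgebra.even Q).map (equivOfIsometry e).toAlgHom = CliffordAlgebra.even Q' := by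
  refine le_antisymm ?_ fun y hy => ⟨(equivOfIsometry e).symm y, ?_, (equivOfIsometry e).apply_symm_apply y⟩
  · rintro _ ⟨x, hx, rfl⟩
    exact map_mem_evenOdd e.toIsometry 0 hx
  · exact map_mem_evenOdd e.symm.toIsometry 0 hy

/-- Isometric forms have isomorphic even algebras. -/
noncomputable def evenEquivOfIsometry (e : Q.IsometryEquiv Q') :
    CliffordAlgebra.even Q ≃ₐ[R] CliffordAlgebra.even Q' :=
  ((CliffordAlgebra.even Q).equivMapOfInjective _ (equivOfIsometry e).injective).trans
    (Subalgebra.equivOfEq _ _ (map_equiv_even e))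

end Even

section BaseChange

variable [Module.Free R M] (A : Type u) [CommRing A] [Algebra R A] (Q : QuadraticForm R M)

local notation "QA" => QuadGrp.baseChangeForm A Q

/-- The comparison map. -/
noncomputable def bcLift : A ⊗[R] CliffordAlgebra Q →ₐ[A] CliffordAlgebra QA :=
  Algebra.TensorProduct.lift (Algebra.ofId A _)
    { toRingHom := bcA A Q
      commutes' := fun r => by
        change bcA A Q (algebraMap R _ r) = _
        rw [bcA, bc_algebraMap, ← IsScalarTower.algebraMap_apply] }
    fun a x => Algebra.commutes a _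

theorem bcLift_tmul (a : A) (x : CliffordAlgebra Q) :
    bcLift A Q (a ⊗ₜ[R] x) = a • bcA A Q x :=
  (Algebra.TensorProduct.lift_tmul ..).trans (Algebra.smul_def a (bcA A Q x)).symm

/-- The inverse. -/
noncomputable def bcUnlift : CliffordAlgebra QA →ₐ[A] A ⊗[R] CliffordAlgebra Q :=
  CliffordAlgebra.lift _ ⟨(ι Q).baseChange A, fun w => by
    let f := (ι Q).baseChange A
    have key : LinearMap.BilinMap.toQuadraticMap ((LinearMap.mul A (A ⊗[R] CliffordAlgebra Q)).compl₁₂ f f) =
        (Algebra.linearMap A (A ⊗[R] CliffordAlgebra Q)).compQuadraticMap QA := by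
      refine baseChange_ext fun v => ?_
      simp only [LinearMap.BilinMap.toQuadraticMap_apply, LinearMap.compl₁₂_apply,
        LinearMap.mul_apply', LinearMap.compQuadraticMap_apply, Algebra.linearMap_apply, f,
        LinearMap.baseChange_tmul, Algebra.TensorProduct.tmul_mul_tmul, ι_sq_scalar, mul_one]
      rw [show QA ((1 : A) ⊗ₜ[R] v) = algebraMap R A (Q v) from baseChangeForm_unitσ A Q v,
        Algebra.TensorProduct.algebraMap_apply, Algebra.algebraMap_eq_smul_one, TensorProduct.tmul_smul,
        TensorProduct.smul_tmul', ← Algebra.algebraMap_eq_smul_one]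
      rfl
    exact QuadraticMap.congr_fun key w⟩

theorem bcUnlift_ι (a : A) (v : M) :
    bcUnlift A Q (ι QA (a ⊗ₜ[R] v)) = a ⊗ₜ[R] ι Q v :=
  (CliffordAlgebra.lift_ι_apply ..).trans (LinearMap.baseChange_tmul ..)

/-- The Clifford algebra commutes with base change. -/
noncomputable def bcEquiv : A ⊗[R] CliffordAlgebra Q ≃ₐ[A] CliffordAlgebra QA :=
  AlgEquiv.ofAlgHom (bcLift A Q) (bcUnlift A Q)
    (CliffordAlgebra.hom_ext (TensorProduct.AlgebraTensorModule.curry_injective (LinearMap.ext_ring
      (LinearMap.ext fun v => by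
        change bcLift A Q (bcUnlift A Q (ι QA ((1 : A) ⊗ₜ[R] v))) = ι QA ((1 : A) ⊗ₜ[R] v)
        rw [bcUnlift_ι, bcLift_tmul, one_smul, bcA, bc_ι, unitσ_apply]))))
    (Algebra.TensorProduct.ext (by ext)
      (CliffordAlgebra.hom_ext (LinearMap.ext fun v => by
        change bcUnlift A Q (bcLift A Q ((1 : A) ⊗ₜ[R] ι Q v)) = (1 : A) ⊗ₜ[R] ι Q v
        rw [bcLift_tmul, one_smul, bcA, bc_ι, unitσ_apply, bcUnlift_ι])))

theorem bcEquiv_apply (x : A ⊗[R] CliffordAlgebra Q) : bcEquiv A Q x = bcLift A Q x := rfl

theorem bcLift_map_mem (i : ZMod 2) (z : A ⊗[R] ↥(evenOdd Q i)) :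
    bcLift A Q (LinearMap.baseChange A (evenOdd Q i).subtype z) ∈ evenOdd QA i := by
  induction z using TensorProduct.induction_on with
  | zero => rw [map_zero, map_zero]; exact zero_mem _
  | tmul a x =>
    rw [LinearMap.baseChange_tmul, bcLift_tmul]
    exact Submodule.smul_mem _ _ (bc_mem_evenOdd _ _ _ _ i x.2)
  | add z w hz hw => rw [map_add, map_add]; exact add_mem hz hw

/-- The comparison map on even parts. -/
noncomputable def bcEvenHom : A ⊗[R] ↥(CliffordAlgebra.even Q) →ₐ[A] ↥(CliffordAlgebra.even QA) :=
  ((bcLift A Q).comp (Algebra.TensorProduct.map (AlgHom.id A A) (CliffordAlgebra.even Q).val)).codRestrict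
    _ fun z => by
      have h : ∀ z, Algebra.TensorProduct.map (AlgHom.id A A) (CliffordAlgebra.even Q).val z =
          LinearMap.baseChange A (evenOdd Q 0).subtype z := fun z => by
        induction z using TensorProduct.induction_on with
        | zero => exact (map_zero _).trans (LinearMap.baseChange A (evenOdd Q 0).subtype).map_zero.symm
        | tmul a x => rfl
        | add z w hz hw =>
          rw [map_add, hz, hw]
          exact ((LinearMap.baseChange A (evenOdd Q 0).subtype).map_add z w).symm
      change bcLift A Q (Algebra.TensorProduct.map (AlgHom.id A A) (CliffordAlgebra.even Q).val z) ∈ _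
      rw [h]
      exact bcLift_map_mem A Q 0 z

theorem bcEvenHom_bijective [Module.Flat R A] : Function.Bijective (bcEvenHom A Q) := by
  refine ⟨fun z w h => ?_, fun y => ?_⟩
  · have h' := congrArg Subtype.val h
    exact Module.Flat.lTensor_preserves_injective_linearMap (M := A) (evenOdd Q 0).subtype
      Subtype.val_injective ((bcEquiv A Q).injective h')
  · obtain ⟨t, ht⟩ := (bcEquiv A Q).surjective y
    let e := LinearMap.baseChange A (evenOdd Q 0).subtype
    let o := LinearMap.baseChange A (evenOdd Q 1).subtype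
    have hsum : e.comp ((part Q 0).baseChange A) + o.comp ((part Q 1).baseChange A) = LinearMap.id := by
      refine TensorProduct.AlgebraTensorModule.curry_injective (LinearMap.ext_ring (LinearMap.ext fun x => ?_))
      simp [e, o, ← TensorProduct.tmul_add, part_add_part]
    let t0 := (part Q 0).baseChange A t
    let t1 := (part Q 1).baseChange A t
    have hdec : (y : CliffordAlgebra QA) + 0 = bcLift A Q (e t0) + bcLift A Q (o t1) := by
      rw [add_zero, ← map_add, ← ht, bcEquiv_apply]
      exact congrArg _ (LinearMap.congr_fun hsum t).symm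
    obtain ⟨h0, -⟩ := even_odd_unique QA y.2 (zero_mem _) (bcLift_map_mem A Q 0 t0)
      (bcLift_map_mem A Q 1 t1) hdec
    refine ⟨t0, Subtype.ext ?_⟩
    rw [h0]
    rfl

end BaseChange

end GrothLib.Cliff28
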