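import Groth.Agent.Lib.Cliff28.Contract
import Groth.Prelude.Def_QuadGrp
import Mathlib.RingTheory.Localization.AtPrime.Basic
import Mathlib.RingTheory.TensorProduct.Free
import Mathlib.RingTheory.Localization.BaseChange
import Mathlib.RingTheory.Localization.Ideal

/-!
# Change of rings for Clifford algebras

`GrothLib.Cliff28.bc`: the ring map of Clifford algebras along a semilinear isometry, and the
detection of elements of a Clifford algebra of a free module after localisation at the primes.
-/

set_option autoImplicit false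
set_option linter.unusedSectionVars false

open CliffordAlgebra TensorProduct

namespace GrothLib.Cliff28

section MapLemmas

variable {R : Type*} [CommRing R] {M N : Type*} [AddCommGroup M] [Module R M] [AddCommGroup N]
  [Module R N] {P : QuadraticForm R M} {Q : QuadraticForm R N}

theorem map_contractLeft (j : P →qᵢ Q) (d : Module.Dual R N) (y : CliffordAlgebra P) :
    contractLeft d (map j y) = map j (contractLeft (d.comp j.toLinearMap) y) := by
  induction y using CliffordAlgebra.left_induction with
  | algebraMap r => simp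
  | add x y hx hy => simp only [map_add, hx, hy]
  | ι_mul x w hx =>
    rw [map_mul, map_apply_ι, contractLeft_ι_mul, hx, contractLeft_ι_mul, map_sub, map_smul,
      map_mul, map_apply_ι]
    rfl

theorem map_involute (j : P →qᵢ Q) (y : CliffordAlgebra P) :
    involute (map j y) = map j (involute y) := by
  have : (involute : CliffordAlgebra Q →ₐ[R] _).comp (map j) = (map j).comp involute :=
    hom_ext (by ext m; simp)
  exact AlgHom.congr_fun this y

theorem map_star (j : P →qᵢ Q) (y : CliffordAlgebra P) : star (map j y) = map j (star y) := by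
  induction y using CliffordAlgebra.left_induction with
  | algebraMap r => simp
  | add x y hx hy => simp only [map_add, star_add, hx, hy]
  | ι_mul x w hx => simp only [map_mul, star_mul, map_apply_ι, star_ι, hx, map_neg]

theorem map_mem_evenOdd (j : P →qᵢ Q) (i : ZMod 2) {y : CliffordAlgebra P}
    (hy : y ∈ evenOdd P i) : map j y ∈ evenOdd Q i := by
  induction y, hy using evenOdd_induction with
  | range_ι_pow v h =>
    fin_cases i
    · change v ∈ LinearMap.range (ι P) ^ 0 at h
      rw [pow_zero] at h
      obtain ⟨r, rfl⟩ := Submodule.mem_one.mp h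
      rw [AlgHom.commutes]
      change _ ∈ evenOdd Q (0 : ZMod 2)
      exact SetLike.algebraMap_mem_graded _ _
    · change v ∈ LinearMap.range (ι P) ^ 1 at h
      rw [pow_one] at h
      obtain ⟨w, rfl⟩ := h
      rw [map_apply_ι]; exact ι_mem_evenOdd_one _ _
  | add x y hx hy ihx ihy => rw [map_add]; exact add_mem ihx ihy
  | ι_mul_ι_mul a b x hx ih =>
    rw [map_mul, map_mul, map_apply_ι, map_apply_ι]
    simpa using SetLike.mul_mem_graded (ι_mul_ι_mem_evenOdd_zero Q (j a) (j b)) ih

end MapLemmas

section Semilinear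

variable {R' R : Type*} [CommRing R'] [CommRing R] {f : R' →+* R}
  {M' M : Type*} [AddCommGroup M'] [Module R' M'] [AddCommGroup M] [Module R M]
  (Q' : QuadraticForm R' M') (Q : QuadraticForm R M) (σ : M' →ₛₗ[f] M)
  (hσ : ∀ v, Q (σ v) = f (Q' v))

/-- The ring map of Clifford algebras along a semilinear isometry. -/
noncomputable def bc : CliffordAlgebra Q' →+* CliffordAlgebra Q :=
  letI : Algebra R' (CliffordAlgebra Q) :=
    ((algebraMap R (CliffordAlgebra Q)).comp f).toAlgebra' fun r x => Algebra.commutes (f r) x
  (lift Q' ⟨⟨⟨fun v => ι Q (σ v), fun v w => by rw [map_add, map_add]⟩,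
      fun r v => by
        change ι Q (σ (r • v)) = algebraMap R (CliffordAlgebra Q) (f r) * ι Q (σ v)
        rw [σ.map_smulₛₗ, LinearMap.map_smul, Algebra.smul_def]⟩,
    fun v => by
      change ι Q (σ v) * ι Q (σ v) = algebraMap R (CliffordAlgebra Q) (f (Q' v))
      rw [ι_sq_scalar, hσ]⟩).toRingHom

theorem bc_ι (v : M') : bc Q' Q σ hσ (ι Q' v) = ι Q (σ v) := by
  letI : Algebra R' (CliffordAlgebra Q) :=
    ((algebraMap R (CliffordAlgebra Q)).comp f).toAlgebra' fun r x => Algebra.commutes (f r) x
  exact lift_ι_apply _ _ _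

theorem bc_algebraMap (r : R') :
    bc Q' Q σ hσ (algebraMap R' _ r) = algebraMap R (CliffordAlgebra Q) (f r) := by
  letI : Algebra R' (CliffordAlgebra Q) :=
    ((algebraMap R (CliffordAlgebra Q)).comp f).toAlgebra' fun r x => Algebra.commutes (f r) x
  exact AlgHom.commutes _ r

theorem bc_smul (r : R') (x : CliffordAlgebra Q') :
    bc Q' Q σ hσ (r • x) = f r • bc Q' Q σ hσ x := by
  rw [Algebra.smul_def, map_mul, bc_algebraMap, Algebra.smul_def]

theorem bc_contractLeft (d' : Module.Dual R' M') (d : Module.Dual R M)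
    (hd : ∀ v, d (σ v) = f (d' v)) (x : CliffordAlgebra Q') :
    bc Q' Q σ hσ (contractLeft d' x) = contractLeft d (bc Q' Q σ hσ x) := by
  induction x using CliffordAlgebra.left_induction with
  | algebraMap r => simp [bc_algebraMap]
  | add x y hx hy => simp only [map_add, hx, hy]
  | ι_mul x w hx =>
    rw [contractLeft_ι_mul, map_sub, bc_smul, map_mul, bc_ι, hx, map_mul, bc_ι, contractLeft_ι_mul,
      hd]

theorem bc_involute (x : CliffordAlgebra Q') :
    bc Q' Q σ hσ (involute x) = involute (bc Q' Q σ hσ x) := by
  induction x using CliffordAlgebra.left_induction with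
  | algebraMap r => simp [bc_algebraMap]
  | add x y hx hy => simp only [map_add, hx, hy]
  | ι_mul x w hx => simp only [map_mul, involute_ι, map_neg, bc_ι, hx]

theorem bc_star (x : CliffordAlgebra Q') : bc Q' Q σ hσ (star x) = star (bc Q' Q σ hσ x) := by
  induction x using CliffordAlgebra.left_induction with
  | algebraMap r => simp [bc_algebraMap]
  | add x y hx hy => simp only [map_add, star_add, hx, hy]
  | ι_mul x w hx => simp only [map_mul, star_mul, star_ι, map_neg, bc_ι, hx]

theorem bc_mem_evenOdd (i : ZMod 2) {y : CliffordAlgebra Q'} (hy : y ∈ evenOdd Q' i) :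
    bc Q' Q σ hσ y ∈ evenOdd Q i := by
  induction y, hy using evenOdd_induction with
  | range_ι_pow v h =>
    fin_cases i
    · change v ∈ LinearMap.range (ι Q') ^ 0 at h
      rw [pow_zero] at h
      obtain ⟨r, rfl⟩ := Submodule.mem_one.mp h
      rw [bc_algebraMap]
      change _ ∈ evenOdd Q (0 : ZMod 2)
      exact SetLike.algebraMap_mem_graded _ _
    · change v ∈ LinearMap.range (ι Q') ^ 1 at h
      rw [pow_one] at h
      obtain ⟨w, rfl⟩ := h
      rw [bc_ι]; exact ι_mem_evenOdd_one _ _
  | add x y hx hy ihx ihy => rw [map_add]; exact add_mem ihx ihy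
  | ι_mul_ι_mul a b x hx ih =>
    rw [map_mul, map_mul, bc_ι, bc_ι]
    simpa using SetLike.mul_mem_graded (ι_mul_ι_mem_evenOdd_zero Q (σ a) (σ b)) ih

/-- Naturality in isometries. -/
theorem bc_map (g' : Q' →qᵢ Q') (g : Q →qᵢ Q) (hg : ∀ v, g (σ v) = σ (g' v))
    (x : CliffordAlgebra Q') : bc Q' Q σ hσ (map g' x) = map g (bc Q' Q σ hσ x) := by
  induction x using CliffordAlgebra.left_induction with
  | algebraMap r => simp [bc_algebraMap]
  | add x y hx hy => simp only [map_add, hx, hy]
  | ι_mul x w hx => simp only [map_mul, map_apply_ι, bc_ι, hx, hg]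

end Semilinear

section Algebra

variable {R : Type*} [CommRing R] {M : Type*} [AddCommGroup M] [Module R M] [Module.Free R M]
  (A : Type*) [CommRing A] [Algebra R A] (Q : QuadraticForm R M)

/-- The unit `M → A ⊗ M` as a semilinear map. -/
noncomputable def unitσ : M →ₛₗ[algebraMap R A] A ⊗[R] M where
  toFun v := 1 ⊗ₜ v
  map_add' v w := TensorProduct.tmul_add _ _ _
  map_smul' r v := by
    rw [TensorProduct.tmul_smul, algebraMap_smul]

theorem unitσ_apply (v : M) : unitσ A v = (1 : A) ⊗ₜ[R] v := rfl

theorem baseChangeForm_unitσ (v : M) :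
    QuadGrp.baseChangeForm A Q (unitσ A v) = algebraMap R A (Q v) := by
  rw [unitσ_apply, QuadGrp.baseChangeForm, LinearMap.compQuadraticMap_apply,
    QuadGrp.baseChange_tmul]
  simp [Algebra.smul_def]

/-- The change of rings of the Clifford algebra of a free module. -/
noncomputable abbrev bcA : CliffordAlgebra Q →+* CliffordAlgebra (QuadGrp.baseChangeForm A Q) :=
  bc Q (QuadGrp.baseChangeForm A Q) (unitσ A) (baseChangeForm_unitσ A Q)

theorem polar_unitσ (v w : M) :
    QuadraticMap.polar (QuadGrp.baseChangeForm A Q) (unitσ A v) (unitσ A w) =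
      algebraMap R A (QuadraticMap.polar Q v w) := by
  simp only [QuadraticMap.polar, ← map_add, baseChangeForm_unitσ, map_sub]

/-- An element commuting with the image of the vectors is central. -/
theorem commute_ι_of_unitσ {x : CliffordAlgebra (QuadGrp.baseChangeForm A Q)} (c : A)
    (h : ∀ v : M, ι _ (unitσ A v) * x = c • (x * ι _ (unitσ A v))) (w : A ⊗[R] M) :
    ι _ w * x = c • (x * ι _ w) := by
  induction w using TensorProduct.induction_on with
  | zero => simp
  | tmul a m =>
    rw [show a ⊗ₜ[R] m = a • unitσ A m by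
      rw [unitσ_apply, TensorProduct.smul_tmul', smul_eq_mul, mul_one],
      map_smul, smul_mul_assoc, mul_smul_comm, h, smul_comm]
  | add x y hx hy => rw [map_add, add_mul, mul_add, hx, hy, smul_add]

/-- An element commuting with the images of products of two vectors commutes with the even part. -/
theorem commute_even_of_unitσ {x : CliffordAlgebra (QuadGrp.baseChangeForm A Q)}
    (h : ∀ v w : M, Commute x (ι _ (unitσ A v) * ι _ (unitσ A w)))
    {y : CliffordAlgebra (QuadGrp.baseChangeForm A Q)}
    (hy : y ∈ evenOdd (QuadGrp.baseChangeForm A Q) 0) : Commute x y := by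
  have hpair : ∀ v w : A ⊗[R] M, Commute x (ι _ v * ι _ w) := by
    intro v w
    induction v using TensorProduct.induction_on with
    | zero => simp
    | tmul a m =>
      induction w using TensorProduct.induction_on with
      | zero => simp
      | tmul a' m' =>
        have e : ∀ (a : A) (m : M), a ⊗ₜ[R] m = a • unitσ A m := fun a m => by
          rw [unitσ_apply, TensorProduct.smul_tmul', smul_eq_mul, mul_one]
        rw [e, e, map_smul, map_smul, smul_mul_assoc, mul_smul_comm]
        exact ((h m m').smul_right a').smul_right a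
      | add w w' hw hw' => rw [map_add, mul_add]; exact hw.add_right hw'
    | add v v' hv hv' => rw [map_add, add_mul]; exact hv.add_right hv'
  induction y, hy using even_induction with
  | algebraMap r => exact Algebra.commute_algebraMap_right r x
  | add a b ha hb iha ihb => exact iha.add_right ihb
  | ι_mul_ι_mul a b z hz ih => exact (hpair a b).mul_right ih

end Algebra

section Localization

variable {R : Type*} [CommRing R] {M : Type*} [AddCommGroup M] [Module R M] [Module.Free R M]
  [Module.Finite R M] (Q : QuadraticForm R M)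

theorem bcA_contractLeft_coord {I : Type*} (A : Type*) [CommRing A] [Algebra R A]
    (b : Module.Basis I R M) (i : I) (x : CliffordAlgebra Q) :
    bcA A Q (contractLeft (b.coord i) x) = contractLeft ((b.baseChange A).coord i) (bcA A Q x) :=
  bc_contractLeft _ _ _ _ _ _ (fun v => by
    simp [unitσ_apply, Module.Basis.coord_apply, Module.Basis.baseChange_repr_tmul,
      Algebra.smul_def]) x

/-- An element of a Clifford algebra of a finite free module which vanishes after localising at
every prime vanishes. -/
theorem eq_zero_of_localizations {x : CliffordAlgebra Q}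
    (h : ∀ (P : Ideal R) [P.IsPrime], bcA (Localization.AtPrime P) Q x = 0) : x = 0 := by
  refine eq_zero_of_stable (Module.Free.chooseBasis R M) Q
    (fun x => ∀ (P : Ideal R) [P.IsPrime], bcA (Localization.AtPrime P) Q x = 0)
    (fun i x hx P _ => ?_) (fun r hr => ?_) h
  · rw [bcA_contractLeft_coord, hx P, map_zero]
  · refine by_contra fun hr0 => ?_
    have : (R ∙ r).annihilator ≠ ⊤ := by
      rw [Ne, Ideal.eq_top_iff_one, Submodule.mem_annihilator_span_singleton, one_smul]
      exact hr0
    obtain ⟨P, hP, hle⟩ := Ideal.exists_le_maximal _ this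
    have h0 := hr P
    rw [bc_algebraMap, ← map_zero (algebraMap (Localization.AtPrime P) _)] at h0
    have := algebraMap_injective _ h0
    rw [IsLocalization.map_eq_zero_iff P.primeCompl] at this
    obtain ⟨⟨t, ht⟩, htr⟩ := this
    exact ht (hle ((Submodule.mem_annihilator_span_singleton _ _).mpr htr))

/-- An element killed in a localisation is torsion. -/
theorem exists_smul_eq_zero (P : Ideal R) [P.IsPrime] {x : CliffordAlgebra Q}
    (h : bcA (Localization.AtPrime P) Q x = 0) : ∃ t ∉ P, t • x = 0 := by
  refine of_stable (Module.Free.chooseBasis R M) Q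
    (fun x => bcA (Localization.AtPrime P) Q x = 0) (fun x => ∃ t ∉ P, t • x = 0)
    (fun i x hx => ?_) (fun r hr => ?_) (fun i x hx hT => ?_) h
  · rw [bcA_contractLeft_coord, hx, map_zero]
  · rw [bc_algebraMap, ← map_zero (algebraMap (Localization.AtPrime P) _)] at hr
    have := algebraMap_injective _ hr
    rw [IsLocalization.map_eq_zero_iff P.primeCompl] at this
    obtain ⟨⟨t, ht⟩, htr⟩ := this
    exact ⟨t, ht, by rw [← algebraMap_smul R t, Algebra.smul_def, Algebra.algebraMap_self,
      RingHom.id_apply, ← map_mul, htr, map_zero]⟩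
  · obtain ⟨t, ht, h0⟩ := hT
    refine ⟨t • x, ?_, ?_, fun j hj => ?_, ?_⟩
    · change bcA _ Q (t • x) = 0
      rw [bc_smul, hx, smul_zero]
    · rw [map_smul, h0]
    · rw [map_smul, hj, smul_zero]
    · rintro ⟨s, hs, hs0⟩
      exact ⟨s * t, fun hst => (‹P.IsPrime›.mem_or_mem hst).elim hs ht, by rw [mul_smul, hs0]⟩

theorem exists_bcA_eq (P : Ideal R) [P.IsPrime]
    (x : CliffordAlgebra (QuadGrp.baseChangeForm (Localization.AtPrime P) Q)) :
    ∃ s ∉ P, ∃ y, algebraMap R (Localization.AtPrime P) s • x = bcA _ Q y := by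
  set A := Localization.AtPrime P
  induction x using CliffordAlgebra.induction with
  | algebraMap a =>
    obtain ⟨⟨r, ⟨s, hs⟩⟩, h⟩ := IsLocalization.surj P.primeCompl a
    refine ⟨s, hs, algebraMap R _ r, ?_⟩
    rw [bc_algebraMap, Algebra.smul_def, ← map_mul, ← h, mul_comm]
  | ι w =>
    induction w using TensorProduct.induction_on with
    | zero => exact ⟨1, fun h => ‹P.IsPrime›.ne_top ((Ideal.eq_top_iff_one P).mpr h), 0, by simp⟩
    | tmul a m =>
      obtain ⟨⟨r, ⟨s, hs⟩⟩, h⟩ := IsLocalization.surj P.primeCompl a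
      refine ⟨s, hs, ι Q (r • m), ?_⟩
      have h' : a * algebraMap R A s = algebraMap R A r := h
      rw [bc_ι, ← map_smul, unitσ_apply, TensorProduct.smul_tmul', smul_eq_mul, mul_comm, h',
        TensorProduct.tmul_smul, ← algebraMap_smul A r ((1 : A) ⊗ₜ[R] m),
        TensorProduct.smul_tmul', smul_eq_mul, mul_one]
    | add v w hv hw =>
      obtain ⟨s, hs, y, hy⟩ := hv
      obtain ⟨t, ht, z, hz⟩ := hw
      refine ⟨s * t, fun h => (‹P.IsPrime›.mem_or_mem h).elim hs ht, t • y + s • z, ?_⟩
      rw [map_add, map_add, bc_smul, bc_smul, ← hy, ← hz, map_mul, smul_add, mul_smul, mul_smul,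
        smul_comm (algebraMap R A t) (algebraMap R A s)]
  | mul x y hx hy =>
    obtain ⟨s, hs, y1, h1⟩ := hx
    obtain ⟨t, ht, y2, h2⟩ := hy
    refine ⟨s * t, fun h => (‹P.IsPrime›.mem_or_mem h).elim hs ht, y1 * y2, ?_⟩
    rw [map_mul, map_mul, ← h1, ← h2, smul_mul_smul_comm]
  | add x y hx hy =>
    obtain ⟨s, hs, y1, h1⟩ := hx
    obtain ⟨t, ht, y2, h2⟩ := hy
    refine ⟨s * t, fun h => (‹P.IsPrime›.mem_or_mem h).elim hs ht, t • y1 + s • y2, ?_⟩
    rw [map_add, bc_smul, bc_smul, ← h1, ← h2, map_mul, smul_add, mul_smul, mul_smul,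
      smul_comm (algebraMap R A t) (algebraMap R A s)]

end Localization

end GrothLib.Cliff28
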