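import Mathlib.RingTheory.Jacobson.Ring
import Mathlib.RingTheory.Spectrum.Prime.Topology
import Mathlib.RingTheory.TensorProduct.Basic
import Mathlib.FieldTheory.IsAlgClosed.AlgebraicClosure
import Mathlib.RingTheory.LocalRing.ResidueField.Ideal
import Mathlib.AlgebraicGeometry.Fiber

/-!
# Connected fibres from paths between geometric points
-/

set_option autoImplicit false
set_option linter.style.haveILetI false

universe u

open TensorProduct

namespace GrothLib.Cliff28

/-- A finitely generated algebra over an algebraically closed field on whose points every idempotent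
is constant has connected spectrum. -/
theorem connectedSpace_of_constant_idempotents {K D : Type u} [Field K] [IsAlgClosed K] [CommRing D]
    [Algebra K D] [Algebra.FiniteType K D] (χ₀ : D →ₐ[K] K)
    (h : ∀ c : D, IsIdempotentElem c → ∀ χ : D →ₐ[K] K, (χ c = 0 ↔ χ₀ c = 0)) :
    ConnectedSpace (PrimeSpectrum D) := by
  haveI : Nontrivial D := χ₀.toRingHom.domain_nontrivial
  have key : ∀ c : D, IsIdempotentElem c → χ₀ c = 0 → c = 0 := by
    intro c hc h0
    have hu : IsUnit (1 - c) := by
      by_contra hnu
      obtain ⟨I, hI, hmem⟩ := exists_max_ideal_of_mem_nonunits hnu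
      letI : Field (D ⧸ I) := Ideal.Quotient.field I
      haveI : Module.Finite K (D ⧸ I) := finite_of_finite_type_of_isJacobsonRing K (D ⧸ I)
      let e : K ≃ₐ[K] D ⧸ I := AlgEquiv.ofBijective (Algebra.ofId K (D ⧸ I))
        IsAlgClosed.algebraMap_bijective_of_isIntegral
      let χ : D →ₐ[K] K := e.symm.toAlgHom.comp (Ideal.Quotient.mkₐ K I)
      have h1 : χ (1 - c) = 0 := by
        change e.symm (Ideal.Quotient.mk I (1 - c)) = 0
        rw [Ideal.Quotient.eq_zero_iff_mem.mpr hmem, map_zero]
      rw [map_sub, map_one, (h c hc χ).mpr h0, sub_zero] at h1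
      exact one_ne_zero h1
    exact hu.mul_right_eq_zero.mp (by rw [sub_mul, one_mul, hc.eq, sub_self])
  haveI : Nonempty (PrimeSpectrum D) := inferInstance
  refine { toPreconnectedSpace := preconnectedSpace_iff_clopen.mpr fun s hs => ?_, toNonempty := inferInstance }
  obtain ⟨c, hc, rfl⟩ := PrimeSpectrum.exists_idempotent_basicOpen_eq_of_isClopen hs
  rcases (IsIdempotentElem.iff_eq_zero_or_one.mp (hc.map χ₀)) with h0 | h1
  · left
    rw [key c hc h0, PrimeSpectrum.basicOpen_zero]
    rfl
  · right
    rw [show c = 1 from (sub_eq_zero.mp (key (1 - c) hc.one_sub (by rw [map_sub, map_one, h1, sub_self]))).symm,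
      PrimeSpectrum.basicOpen_one]
    rfl

/-- The preimage of a prime is connected when the geometric points above it are joined by paths. -/
theorem isConnected_preimage_singleton {R C : Type u} [CommRing R] [CommRing C] [Algebra R C]
    [Algebra.FiniteType R C]
    (H : ∀ (K : Type u) [Field K] [IsAlgClosed K] [Algebra R K], ∃ x₀ : C →ₐ[R] K,
      ∀ val : (C →ₐ[R] K) → Prop,
        (∀ (A : Type u) [CommRing A] [IsDomain A] [Algebra K A] [Algebra R A] [IsScalarTower R K A]
          (X : C →ₐ[R] A) (e₀ e₁ : A →ₐ[K] K),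
          val ((e₀.restrictScalars R).comp X) ↔ val ((e₁.restrictScalars R).comp X)) →
        ∀ x, (val x ↔ val x₀))
    (s : PrimeSpectrum R) :
    IsConnected (PrimeSpectrum.comap (algebraMap R C) ⁻¹' {s}) := by
  let K := AlgebraicClosure s.asIdeal.ResidueField
  obtain ⟨x₀, hx₀⟩ := H K
  let ev : (C →ₐ[R] K) → (K ⊗[R] C →ₐ[K] K) := fun x =>
    Algebra.TensorProduct.lift (AlgHom.id K K) x fun _ _ => Commute.all _ _
  have hev : ∀ χ : K ⊗[R] C →ₐ[K] K,
      χ = ev ((χ.restrictScalars R).comp Algebra.TensorProduct.includeRight) := fun χ => by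
    refine Algebra.TensorProduct.ext (AlgHom.ext fun k => ?_) (AlgHom.ext fun c => ?_)
    · simpa [ev] using χ.commutes k
    · simp [ev]
  haveI : ConnectedSpace (PrimeSpectrum (K ⊗[R] C)) := by
    refine connectedSpace_of_constant_idempotents (ev x₀) fun c hc χ => ?_
    rw [hev χ]
    refine hx₀ (fun x => ev x c = 0) (fun A _ _ _ _ _ X e₀ e₁ => ?_) _
    let Y : K ⊗[R] C →ₐ[K] A :=
      Algebra.TensorProduct.lift (Algebra.ofId K A) X fun _ _ => Commute.all _ _
    have hY : ∀ e : A →ₐ[K] K, ev ((e.restrictScalars R).comp X) = e.comp Y := fun e => by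
      refine Algebra.TensorProduct.ext (AlgHom.ext fun k => ?_) (AlgHom.ext fun c => ?_) <;>
        simp [ev, Y]
    rw [hY, hY, AlgHom.comp_apply, AlgHom.comp_apply]
    rcases IsIdempotentElem.iff_eq_zero_or_one.mp (hc.map Y) with h | h <;> rw [h] <;> simp
  have himg : PrimeSpectrum.comap (algebraMap R C) ⁻¹' {s} =
      Set.range (PrimeSpectrum.comap
        (Algebra.TensorProduct.includeRight : C →ₐ[R] K ⊗[R] C).toRingHom) := by
    refine Set.Subset.antisymm (fun p hp => ?_) ?_
    · have hps : s.asIdeal = p.asIdeal.comap (algebraMap R C) :=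
        (congrArg PrimeSpectrum.asIdeal hp).symm
      let Ω := AlgebraicClosure p.asIdeal.ResidueField
      let π : C →+* Ω := (algebraMap p.asIdeal.ResidueField Ω).comp (algebraMap C _)
      let j : s.asIdeal.ResidueField →+* Ω := (algebraMap p.asIdeal.ResidueField Ω).comp
        (Ideal.ResidueField.map s.asIdeal p.asIdeal (algebraMap R C) hps)
      letI : Algebra s.asIdeal.ResidueField Ω := j.toAlgebra
      let σ : K →ₐ[s.asIdeal.ResidueField] Ω := IsAlgClosed.lift
      letI : Algebra R Ω := (π.comp (algebraMap R C)).toAlgebra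
      let f : K →ₐ[R] Ω :=
        { σ.toRingHom with
          commutes' := fun r => by
            change σ (algebraMap R K r) = π (algebraMap R C r)
            rw [IsScalarTower.algebraMap_apply R s.asIdeal.ResidueField K, AlgHom.commutes]
            change j (algebraMap R _ r) = π (algebraMap R C r)
            simp [j, π] }
      let g : C →ₐ[R] Ω := { π with commutes' := fun r => rfl }
      let ψ := Algebra.TensorProduct.productMap f g
      haveI : (RingHom.ker ψ.toRingHom).IsPrime := RingHom.ker_isPrime _
      refine ⟨⟨RingHom.ker ψ.toRingHom, inferInstance⟩, PrimeSpectrum.ext (Ideal.ext fun c => ?_)⟩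
      change ψ (Algebra.TensorProduct.includeRight c) = 0 ↔ c ∈ p.asIdeal
      rw [show ψ (Algebra.TensorProduct.includeRight c) = π c by simp [ψ]; rfl]
      change algebraMap p.asIdeal.ResidueField Ω (algebraMap C _ c) = 0 ↔ _
      rw [map_eq_zero_iff _ (algebraMap p.asIdeal.ResidueField Ω).injective,
        Ideal.algebraMap_residueField_eq_zero]
    · rintro _ ⟨q, rfl⟩
      refine PrimeSpectrum.ext (Ideal.ext fun r => ?_)
      change Algebra.TensorProduct.includeRight (R := R) (A := K) (algebraMap R C r) ∈ q.asIdeal ↔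
        r ∈ s.asIdeal
      rw [AlgHom.commutes, IsScalarTower.algebraMap_apply R K (K ⊗[R] C),
        IsScalarTower.algebraMap_apply R s.asIdeal.ResidueField K]
      have hq : (q.asIdeal.comap (algebraMap K (K ⊗[R] C))).comap
          (algebraMap s.asIdeal.ResidueField K) = ⊥ :=
        (Ideal.eq_bot_or_top _).resolve_right (Ideal.IsPrime.ne_top inferInstance)
      change algebraMap R s.asIdeal.ResidueField r ∈
        (q.asIdeal.comap (algebraMap K (K ⊗[R] C))).comap (algebraMap s.asIdeal.ResidueField K) ↔ _
      rw [hq, Ideal.mem_bot, Ideal.algebraMap_residueField_eq_zero]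
  rw [himg]
  exact isConnected_range (PrimeSpectrum.continuous_comap _)

open AlgebraicGeometry CategoryTheory in
theorem connectedSpace_fiber_of_iso {R C : Type u} [CommRing R] [CommRing C] [Algebra R C]
    {G : Over (Spec (CommRingCat.of R))} (u : Spec (CommRingCat.of C) ⟶ G.left) [IsIso u]
    (hu : u ≫ G.hom = Spec.map (CommRingCat.ofHom (algebraMap R C)))
    (h : ∀ s : PrimeSpectrum R, _root_.IsConnected (PrimeSpectrum.comap (algebraMap R C) ⁻¹' {s}))
    (s : ↥(Spec (CommRingCat.of R))) : ConnectedSpace ↥(G.hom.fiber s) := by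
  have hp : _root_.IsConnected (G.hom ⁻¹' {s}) := by
    rw [← Set.image_preimage_eq (G.hom ⁻¹' {s}) (f := u) (u.homeomorph.surjective)]
    refine _root_.IsConnected.image ?_ _ u.continuous.continuousOn
    rw [← Set.preimage_comp]
    have e : (G.hom : G.left → Spec (CommRingCat.of R)) ∘ u =
        PrimeSpectrum.comap (algebraMap R C) := funext fun y => by
      change G.hom (u y) = _
      rw [← Scheme.Hom.comp_apply, hu]
      rfl
    rw [e]
    exact h s
  haveI := isConnected_iff_connectedSpace.mp hp
  exact (G.hom.fiberHomeo s).symm.surjective.connectedSpace (G.hom.fiberHomeo s).symm.continuous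

end GrothLib.Cliff28
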