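import Mathlib.LinearAlgebra.CliffordAlgebra.Contraction
import Mathlib.LinearAlgebra.CliffordAlgebra.Grading
import Mathlib.LinearAlgebra.CliffordAlgebra.Even
import Mathlib.LinearAlgebra.CliffordAlgebra.Star
import Mathlib.LinearAlgebra.ExteriorAlgebra.Basis
import Mathlib.LinearAlgebra.QuadraticForm.Basis
import Mathlib.Tactic.NoncommRing
import Mathlib.Tactic.Abel

/-!
# Contractions on Clifford algebras of free modules

`GrothLib.Cliff28`: the left contractions detect elements of a Clifford algebra of a finite free
module: an element killed by all contractions is a scalar, so that a contraction-stable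
subset is trivial as soon as its scalars are.  No hypothesis on `2`.
-/

set_option autoImplicit false
set_option linter.unusedSectionVars false

open CliffordAlgebra

namespace GrothLib.Cliff28

variable {R : Type*} [CommRing R] {M : Type*} [AddCommGroup M] [Module R M]

section General

variable (Q : QuadraticForm R M)

theorem ι_mul_eq (v : M) (x : CliffordAlgebra Q) :
    ι Q v * x = involute x * ι Q v + contractLeft (Q.polarBilin v) x := by
  induction x using CliffordAlgebra.left_induction with
  | algebraMap r => rw [AlgHom.commutes, contractLeft_algebraMap, add_zero, Algebra.commutes]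
  | add x y hx hy => rw [mul_add, hx, hy, map_add, map_add, add_mul]; abel
  | ι_mul x w hx =>
    rw [← mul_assoc, ι_mul_ι_comm v w, sub_mul, ← Algebra.smul_def, mul_assoc, hx, map_mul,
      involute_ι, contractLeft_ι_mul, QuadraticMap.polarBilin_apply_apply]
    noncomm_ring

theorem involute_contractLeft (d : Module.Dual R M) (x : CliffordAlgebra Q) :
    involute (contractLeft d x) = -contractLeft d (involute x) := by
  induction x using CliffordAlgebra.left_induction with
  | algebraMap r => simp
  | add x y hx hy => simp only [map_add, hx, hy]; abel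
  | ι_mul x w hx =>
    simp only [contractLeft_ι_mul, map_sub, map_smul, map_mul, involute_ι, hx, neg_mul, map_neg]
    noncomm_ring

theorem contractLeft_mem_evenOdd (d : Module.Dual R M) (i : ZMod 2) {x : CliffordAlgebra Q}
    (hx : x ∈ evenOdd Q i) : contractLeft d x ∈ evenOdd Q (i + 1) := by
  have h2 : (1 : ZMod 2) + 1 = 0 := rfl
  induction x, hx using evenOdd_induction with
  | range_ι_pow v h =>
    fin_cases i
    · change v ∈ LinearMap.range (ι Q) ^ 0 at h
      rw [pow_zero] at h
      obtain ⟨r, rfl⟩ := Submodule.mem_one.mp h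
      rw [contractLeft_algebraMap]; exact zero_mem _
    · change v ∈ LinearMap.range (ι Q) ^ 1 at h
      rw [pow_one] at h
      obtain ⟨w, rfl⟩ := h
      rw [contractLeft_ι]
      change _ ∈ evenOdd Q ((1 : ZMod 2) + 1)
      rw [h2]
      exact SetLike.algebraMap_mem_graded _ _
  | add x y hx hy ihx ihy => rw [map_add]; exact add_mem ihx ihy
  | ι_mul_ι_mul a b x hx ih =>
    rw [mul_assoc, contractLeft_ι_mul, contractLeft_ι_mul, mul_sub, mul_smul_comm]
    refine sub_mem (Submodule.smul_mem _ _ ?_) (sub_mem (Submodule.smul_mem _ _ ?_) ?_)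
    · rw [add_comm]; exact SetLike.mul_mem_graded (ι_mem_evenOdd_one Q b) hx
    · rw [add_comm]; exact SetLike.mul_mem_graded (ι_mem_evenOdd_one Q a) hx
    · have := SetLike.mul_mem_graded (ι_mul_ι_mem_evenOdd_zero Q a b) ih
      rwa [zero_add, mul_assoc] at this

theorem eq_zero_of_mem_zero_of_mem_one {x : CliffordAlgebra Q} (h0 : x ∈ evenOdd Q 0)
    (h1 : x ∈ evenOdd Q 1) : x = 0 := by
  have := Submodule.mem_inf.mpr ⟨h0, h1⟩
  rwa [(evenOdd_isCompl Q).inf_eq_bot, Submodule.mem_bot] at this

theorem exists_even_add_odd (x : CliffordAlgebra Q) :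
    ∃ x0 ∈ evenOdd Q 0, ∃ x1 ∈ evenOdd Q 1, x = x0 + x1 := by
  have := (evenOdd_isCompl Q).sup_eq_top ▸ Submodule.mem_top (x := x)
  obtain ⟨x0, h0, x1, h1, h⟩ := Submodule.mem_sup.mp this
  exact ⟨x0, h0, x1, h1, h.symm⟩

theorem even_odd_unique {x0 x1 y0 y1 : CliffordAlgebra Q} (h0 : x0 ∈ evenOdd Q 0)
    (h1 : x1 ∈ evenOdd Q 1) (k0 : y0 ∈ evenOdd Q 0) (k1 : y1 ∈ evenOdd Q 1)
    (h : x0 + x1 = y0 + y1) : x0 = y0 ∧ x1 = y1 := by
  have e : x0 - y0 = y1 - x1 := by
    rw [sub_eq_sub_iff_add_eq_add, h, add_comm]
  have := eq_zero_of_mem_zero_of_mem_one Q (sub_mem h0 k0) (e ▸ sub_mem k1 h1)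
  exact ⟨sub_eq_zero.mp this, (sub_eq_zero.mp (e ▸ this)).symm⟩

theorem ι_mul_of_even {v : M} {x : CliffordAlgebra Q} (hx : x ∈ evenOdd Q 0)
    (h : contractLeft (Q.polarBilin v) x = 0) : ι Q v * x = x * ι Q v := by
  rw [ι_mul_eq, h, add_zero, involute_eq_of_mem_even hx]

theorem contractLeft_eq_zero_of_even {v : M} {x : CliffordAlgebra Q} (hx : x ∈ evenOdd Q 0)
    (h : ι Q v * x = x * ι Q v) : contractLeft (Q.polarBilin v) x = 0 := by
  rwa [ι_mul_eq, involute_eq_of_mem_even hx, add_eq_left] at h

end General

section Free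

variable [Module.Free R M] (Q : QuadraticForm R M)

theorem exists_changeForm :
    ∃ B : LinearMap.BilinForm R M, B.toQuadraticMap = (0 : QuadraticForm R M) - Q :=
  LinearMap.BilinMap.toQuadraticMap_surjective _

theorem algebraMap_injective : Function.Injective (algebraMap R (CliffordAlgebra Q)) := by
  obtain ⟨B, hB⟩ := exists_changeForm Q
  intro r s h
  have := congrArg (changeForm hB) h
  rw [changeForm_algebraMap, changeForm_algebraMap] at this
  exact (ExteriorAlgebra.algebraMap_leftInverse M).injective this

theorem ι_injective : Function.Injective (ι Q) := by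
  obtain ⟨B, hB⟩ := exists_changeForm Q
  intro v w h
  have := congrArg (changeForm hB) h
  rw [changeForm_ι, changeForm_ι] at this
  exact ExteriorAlgebra.ι_leftInverse.injective this

theorem smul_one_eq_zero {r : R} (h : r • (1 : CliffordAlgebra Q) = 0) : r = 0 := by
  rw [← Algebra.algebraMap_eq_smul_one] at h
  exact algebraMap_injective Q (h.trans (map_zero _).symm)

theorem smul_eq_zero_of_isUnit {r : R} {x : CliffordAlgebra Q} (hx : IsUnit x) (h : r • x = 0) :
    r = 0 := by
  obtain ⟨u, rfl⟩ := hx
  refine smul_one_eq_zero Q ?_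
  rw [← u.mul_inv, ← smul_mul_assoc, h, zero_mul]

theorem algebraMap_mem_odd {r : R} (h : algebraMap R (CliffordAlgebra Q) r ∈ evenOdd Q 1) :
    r = 0 :=
  algebraMap_injective Q
    ((eq_zero_of_mem_zero_of_mem_one Q (SetLike.algebraMap_mem_graded _ _) h).trans (map_zero _).symm)

end Free

section Basis

variable {I : Type*} [Finite I] (b : Module.Basis I R M)

/-- The projection `x ↦ dᵢ⌋(eᵢ ∧ x)` of the exterior algebra. -/
noncomputable def proj (i : I) :
    CliffordAlgebra (0 : QuadraticForm R M) →ₗ[R] CliffordAlgebra (0 : QuadraticForm R M) :=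
  contractLeft (b.coord i) ∘ₗ LinearMap.mulLeft R (ι _ (b i))

theorem proj_apply (i : I) (x : CliffordAlgebra (0 : QuadraticForm R M)) :
    proj b i x = contractLeft (b.coord i) (ι _ (b i) * x) := rfl

theorem proj_eq_sub (i : I) (x : CliffordAlgebra (0 : QuadraticForm R M)) :
    proj b i x = x - ι _ (b i) * contractLeft (b.coord i) x := by
  rw [proj_apply, contractLeft_ι_mul, b.coord_apply, b.repr_self, Finsupp.single_eq_same, one_smul]

theorem proj_ι_mul (i j : I) (x : CliffordAlgebra (0 : QuadraticForm R M)) (h : j ≠ i) :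
    proj b i (ι _ (b j) * x) = ι _ (b j) * proj b i x := by
  have hsw : ι (0 : QuadraticForm R M) (b i) * ι _ (b j) = -(ι _ (b j) * ι _ (b i)) := by
    rw [eq_neg_iff_add_eq_zero, ι_mul_ι_add_swap]; simp [QuadraticMap.polar]
  rw [proj_apply, ← mul_assoc, hsw, neg_mul, mul_assoc, map_neg, contractLeft_ι_mul, b.coord_apply,
    b.repr_self, Finsupp.single_eq_of_ne h.symm, zero_smul, zero_sub, neg_neg, proj_apply]

theorem proj_ι_mul_self (i : I) (x : CliffordAlgebra (0 : QuadraticForm R M)) :
    proj b i (ι _ (b i) * x) = 0 := by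
  rw [proj_apply, ← mul_assoc, ι_sq_scalar]; simp

theorem projs_ι_mul (i : I) (x : CliffordAlgebra (0 : QuadraticForm R M)) :
    ∀ l : List I, i ∈ l → l.Nodup → (l.map (proj b)).prod (ι _ (b i) * x) = 0 := by
  intro l
  induction l generalizing x with
  | nil => simp
  | cons j l ih =>
    intro hi hl
    obtain ⟨hj, hl⟩ := List.nodup_cons.mp hl
    rw [List.map_cons, List.prod_cons, Module.End.mul_apply]
    rcases List.mem_cons.mp hi with rfl | hi
    · suffices ∀ (m : List I), i ∉ m →
          (m.map (proj b)).prod (ι _ (b i) * x) = ι _ (b i) * (m.map (proj b)).prod x by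
        rw [this l hj, proj_ι_mul_self]
      intro m
      induction m with
      | nil => simp
      | cons k m ihm =>
        intro hk
        simp only [List.mem_cons, not_or] at hk
        rw [List.map_cons, List.prod_cons, Module.End.mul_apply, Module.End.mul_apply, ihm hk.2,
          proj_ι_mul b k i _ hk.1]
    · rw [ih x hi hl, map_zero]

variable (Q : QuadraticForm R M)

include b in
theorem scalar_of_forall_contract {x : CliffordAlgebra Q}
    (h : ∀ i, contractLeft (b.coord i) x = 0) : ∃ r, x = algebraMap R _ r := by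
  classical
  haveI := Fintype.ofFinite I
  haveI : Module.Free R M := Module.Free.of_basis b
  obtain ⟨B, hB⟩ := exists_changeForm Q
  set y := changeForm hB x with hy
  have hy0 : ∀ i, contractLeft (b.coord i) y = 0 := fun i => by
    rw [hy, ← changeForm_contractLeft, h i, map_zero]
  set L := Finset.univ.toList (α := I) with hL
  have h1 : ∀ l : List I, (l.map (proj b)).prod y = y := by
    intro l
    induction l with
    | nil => simp
    | cons j l ih =>
      rw [List.map_cons, List.prod_cons, Module.End.mul_apply, ih, proj_eq_sub, hy0, mul_zero,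
        sub_zero]
  have h2 : ∀ z, ∃ r, (L.map (proj b)).prod z = algebraMap R _ r := by
    intro z
    induction z using CliffordAlgebra.left_induction with
    | algebraMap r =>
      refine ⟨r, ?_⟩
      have : ∀ l : List I, (l.map (proj b)).prod (algebraMap R _ r) = algebraMap R _ r := by
        intro l
        induction l with
        | nil => simp
        | cons j l ih =>
          rw [List.map_cons, List.prod_cons, Module.End.mul_apply, ih, proj_eq_sub,
            contractLeft_algebraMap, mul_zero, sub_zero]
      exact this L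
    | add z w hz hw =>
      obtain ⟨r, hr⟩ := hz
      obtain ⟨s, hs⟩ := hw
      exact ⟨r + s, by rw [map_add, hr, hs, map_add]⟩
    | ι_mul z v _ =>
      refine ⟨0, ?_⟩
      conv_lhs => rw [← b.sum_repr v]
      simp only [map_sum, Finset.sum_mul, map_smul, smul_mul_assoc, map_zero]
      exact Finset.sum_eq_zero fun i _ => by
        rw [projs_ι_mul b i z L (by simp [hL]) (Finset.nodup_toList _), smul_zero]
  obtain ⟨r, hr⟩ := h2 y
  rw [h1] at hr
  refine ⟨r, (changeFormEquiv hB).injective ?_⟩
  rw [changeFormEquiv_apply, changeFormEquiv_apply, changeForm_algebraMap]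
  exact hr

include b in
/-- Master detection principle: for a predicate stable under the contractions, a property `T`
(e.g. vanishing, or being torsion) holding on scalars holds everywhere. -/
theorem of_stable (P T : CliffordAlgebra Q → Prop)
    (hd : ∀ i x, P x → P (contractLeft (b.coord i) x))
    (hsc : ∀ r : R, P (algebraMap R _ r) → T (algebraMap R _ r))
    (hstep : ∀ i x, P x → T (contractLeft (b.coord i) x) →
      ∃ x', P x' ∧ contractLeft (b.coord i) x' = 0 ∧
        (∀ j, contractLeft (b.coord j) x = 0 → contractLeft (b.coord j) x' = 0) ∧ (T x' → T x))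
    {x : CliffordAlgebra Q} (hx : P x) : T x := by
  classical
  suffices H : ∀ s : Finset I, ∀ x, P x → (∀ i, i ∉ s → contractLeft (b.coord i) x = 0) → T x by
    letI := Fintype.ofFinite I
    exact H Finset.univ x hx fun i hi => absurd (Finset.mem_univ i) hi
  intro s
  induction s using Finset.induction_on with
  | empty =>
    intro x hx h
    obtain ⟨r, rfl⟩ := scalar_of_forall_contract b Q fun i => h i (Finset.notMem_empty i)
    exact hsc r hx
  | insert i s hi ih =>
    intro x hx h
    have hT : T (contractLeft (b.coord i) x) := by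
      refine ih _ (hd i x hx) fun j hj => ?_
      by_cases hij : j = i
      · rw [hij, contractLeft_contractLeft]
      · rw [contractLeft_comm, h j (by simp [hij, hj]), map_zero, neg_zero]
    obtain ⟨x', hx', h0, hkeep, hback⟩ := hstep i x hx hT
    refine hback (ih x' hx' fun j hj => ?_)
    by_cases hij : j = i
    · rwa [hij]
    · exact hkeep j (h j (by simp [hij, hj]))

include b in
/-- A contraction-stable set meeting the scalars trivially is trivial. -/
theorem eq_zero_of_stable (P : CliffordAlgebra Q → Prop)
    (hd : ∀ i x, P x → P (contractLeft (b.coord i) x))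
    (hsc : ∀ r : R, P (algebraMap R _ r) → r = 0)
    {x : CliffordAlgebra Q} (hx : P x) : x = 0 :=
  of_stable b Q P (· = 0) hd (fun r hr => by rw [hsc r hr, map_zero])
    (fun i x hx hi => ⟨x, hx, hi, fun _ h => h, id⟩) hx

end Basis

end GrothLib.Cliff28
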