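import Groth.Agent.Lib.Cliff28.Tangent

/-!
# The relative dimension of orthogonal groups
-/

set_option autoImplicit false

universe u

namespace GrothLib.Cliff28

open Matrix GrothLib.QuadHalfDisc GrothLib.QuadTable GrothLib.QuadCoord AlgebraicGeometry

section Chart

variable {R : Type u} [CommRing R] {n : ℕ} {a : Sym2 (Fin n) → R} {s : Bool}
  {K : Type u} [Field K] [Algebra R K]

/-- `Y` of the tangent vector `g (1 + ε Y)`. -/
noncomputable def tangentCoord (g : Matrix (Fin n) (Fin n) K) :
    (Coord a s → K) →ₗ[K] Matrix (Fin n) (Fin n) K where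
  toFun d := g⁻¹ * Matrix.of fun i j => d (Ideal.Quotient.mk _ (genMat R n i j))
  map_add' d d' := by rw [← Matrix.mul_add]; rfl
  map_smul' k d := by rw [RingHom.id_apply, ← Matrix.mul_smul]; rfl

theorem inl_mul_inr (g Y : Matrix (Fin n) (Fin n) K) :
    (g.map TrivSqZeroExt.inl : Matrix _ _ (DualNumber K)) * Y.map TrivSqZeroExt.inr =
      (g * Y).map TrivSqZeroExt.inr := by
  refine Matrix.ext fun i j => ?_
  simp only [Matrix.mul_apply, Matrix.map_apply, TrivSqZeroExt.inl_mul_inr, smul_eq_mul]
  exact (map_sum (TrivSqZeroExt.inrHom K K) _ _).symm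

theorem tab_map_inr (M : Matrix (Fin n) (Fin n) K) :
    tab (M.map TrivSqZeroExt.inr : Matrix _ _ (DualNumber K)) =
      fun p => TrivSqZeroExt.inr (tab M p) := by
  funext p
  induction p using Sym2.ind with
  | _ k l =>
    simp only [tab_mk, Matrix.map_apply]
    split_ifs
    exacts [rfl, (TrivSqZeroExt.inr_add K _ _).symm]

/-- The points over the dual numbers above a point. -/
theorem isPoint_dual_iff {g : Matrix (Fin n) (Fin n) K} (hg : IsPoint a s K g)
    (Y : Matrix (Fin n) (Fin n) K) :
    IsPoint a s (DualNumber K) (g.map TrivSqZeroExt.inl + (g * Y).map TrivSqZeroExt.inr) ↔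
      tab (polarMat (fun p => algebraMap R K (a p)) * Y) = 0 ∧ (s = true → Y.trace = 0) := by
  set aK : Sym2 (Fin n) → K := fun p => algebraMap R K (a p) with haK
  set ι : K →+* DualNumber K := TrivSqZeroExt.inlHom K K with hι
  let I : Ideal (DualNumber K) := RingHom.ker (TrivSqZeroExt.fstHom K K K).toRingHom
  have hI : ∀ x ∈ I, ∀ y ∈ I, x * y = 0 := fun x hx y hy => by
    replace hx : x.fst = 0 := hx
    replace hy : y.fst = 0 := hy
    refine TrivSqZeroExt.ext ?_ ?_
    · simp [hx]
    · simp [hx, hy]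
  have hY : ∀ i j, (Y.map TrivSqZeroExt.inr : Matrix _ _ (DualNumber K)) i j ∈ I := fun i j => by
    change TrivSqZeroExt.fst (TrivSqZeroExt.inr (Y i j) : DualNumber K) = 0
    simp
  have hG : g.map TrivSqZeroExt.inl + (g * Y).map TrivSqZeroExt.inr =
      g.map ι * (1 + Y.map TrivSqZeroExt.inr) := by
    rw [Matrix.mul_add, Matrix.mul_one]
    exact congrArg _ (inl_mul_inr g Y).symm
  have haε : (fun p => algebraMap R (DualNumber K) (a p)) = fun p => ι (aK p) := rfl
  have ht : transform (fun p => ι (aK p)) (g.map ι) = fun p => ι (aK p) :=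
    funext fun p => by rw [← map_transform, hg.table]
  have htab : transform (fun p => ι (aK p)) (g.map ι * (1 + Y.map TrivSqZeroExt.inr)) =
      (fun p => ι (aK p)) + fun p => TrivSqZeroExt.inr (tab (polarMat aK * Y) p) := by
    rw [transform_mul, ht, transform_one_add I hI _ hY, ← polarMat_map]
    exact congrArg _ ((congrArg tab (inl_mul_inr (polarMat aK) Y)).trans (tab_map_inr _))
  have hdet : (g.map ι * (1 + Y.map TrivSqZeroExt.inr)).det =
      ι g.det * (1 + TrivSqZeroExt.inr Y.trace) := by
    rw [det_mul, det_one_add I hI hY, RingHom.map_det, RingHom.mapMatrix_apply]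
    congr 2
    exact (AddMonoidHom.map_trace (TrivSqZeroExt.inrHom K K).toAddMonoidHom Y).symm
  rw [hG]
  constructor
  · intro h
    refine ⟨funext fun p => ?_, fun hs => ?_⟩
    · have e := congrFun (htab.symm.trans (h.table.trans haε)) p
      rw [Pi.add_apply, add_eq_left] at e
      simpa using congrArg TrivSqZeroExt.snd e
    · have e := h.det_one hs
      rw [hdet, hg.det_one hs, map_one, one_mul, add_eq_left] at e
      simpa using congrArg TrivSqZeroExt.snd e
  · rintro ⟨h1, h2⟩
    refine ⟨?_, ?_, fun hs => ?_⟩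
    · rw [hdet, TrivSqZeroExt.isUnit_iff_isUnit_fst]
      simpa [hι] using hg.isUnit_det
    · rw [haε, htab, h1]
      funext p
      simp
    · rw [hdet, hg.det_one hs, h2 hs]
      simp [hι]

/-- The tangent spaces of the coordinate ring. -/
theorem tangentChart_coord (x : Coord a s →ₐ[R] K) (T : Submodule K (Matrix (Fin n) (Fin n) K))
    (hT : ∀ Y, Y ∈ T ↔
      tab (polarMat (fun p => algebraMap R K (a p)) * Y) = 0 ∧ (s = true → Y.trace = 0)) :
    TangentChart x (tangentCoord (matOf x)) T := by
  have hg := matOf_isPoint x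
  set g := matOf x with hgdef
  have key : ∀ ψ : Coord a s →ₐ[R] DualNumber K, (∀ c, (ψ c).fst = x c) →
      matOf ψ = g.map TrivSqZeroExt.inl +
        (g * tangentCoord g fun c => (ψ c).snd).map TrivSqZeroExt.inr := fun ψ hψ => by
    change _ = _ + (g * (g⁻¹ * _)).map TrivSqZeroExt.inr
    rw [← Matrix.mul_assoc, mul_nonsing_inv _ hg.isUnit_det, Matrix.one_mul]
    ext i j : 1
    refine TrivSqZeroExt.ext ?_ ?_
    · simp only [Matrix.add_apply, Matrix.map_apply, TrivSqZeroExt.fst_add, TrivSqZeroExt.fst_inl,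
        TrivSqZeroExt.fst_inr, add_zero]
      exact hψ _
    · simp only [Matrix.add_apply, Matrix.map_apply, Matrix.of_apply, TrivSqZeroExt.snd_add,
        TrivSqZeroExt.snd_inl, TrivSqZeroExt.snd_inr, zero_add]
      rfl
  refine ⟨fun ψ hψ => (hT _).2 ((isPoint_dual_iff hg _).1 (key ψ hψ ▸ matOf_isPoint ψ)),
    fun ψ ψ' hψ hψ' h => matOf_injective (by rw [key ψ hψ, key ψ' hψ', h]), fun Y hY => ?_⟩
  obtain ⟨ψ, hψ⟩ := exists_matOf ((isPoint_dual_iff hg Y).2 ((hT Y).1 hY))
  have hfst : (TrivSqZeroExt.fstHom R K K).comp ψ = x := matOf_injective (by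
    rw [matOf_comp, hψ, ← hgdef]
    ext i j
    simp)
  refine ⟨ψ, fun c => DFunLike.congr_fun hfst c, ?_⟩
  have h2 : (Matrix.of fun i j => (ψ (Ideal.Quotient.mk _ (genMat R n i j))).snd) = g * Y := by
    ext i j
    have := congrArg TrivSqZeroExt.snd (congrFun (congrFun hψ i) j)
    simp only [Matrix.add_apply, Matrix.map_apply, TrivSqZeroExt.snd_add, TrivSqZeroExt.snd_inl,
      TrivSqZeroExt.snd_inr, zero_add] at this
    exact this
  change g⁻¹ * _ = Y
  rw [h2, ← Matrix.mul_assoc, nonsing_inv_mul _ hg.isUnit_det, Matrix.one_mul]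

end Chart

section Dimension

variable {K : Type u} [Field K]

/-- `Y ↦ tab (P Y)`. -/
noncomputable def tabMap {n : ℕ} (a : Sym2 (Fin n) → K) :
    Matrix (Fin n) (Fin n) K →ₗ[K] (Sym2 (Fin n) → K) where
  toFun Y := tab (polarMat a * Y)
  map_add' Y Z := by rw [Matrix.mul_add, tab_add]
  map_smul' c Y := by rw [Matrix.mul_smul, tab_smul, RingHom.id_apply]

theorem finrank_ker_tabMap (m : ℕ) (a : Sym2 (Fin (2 * m)) → K) (ha : IsUnit (polarMat a).det) :
    Module.finrank K (LinearMap.ker (tabMap a)) = m * (2 * m - 1) := by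
  have hs : LinearMap.range (tabMap a) = ⊤ := LinearMap.range_eq_top.mpr fun δ =>
    ⟨(polarMat a)⁻¹ * triMat δ, by
      change tab (polarMat a * ((polarMat a)⁻¹ * triMat δ)) = δ
      rw [← Matrix.mul_assoc, mul_nonsing_inv _ ha, Matrix.one_mul, tab_triMat]⟩
  have h := LinearMap.finrank_range_add_finrank_ker (tabMap a)
  rw [hs, finrank_top, Module.finrank_pi, Sym2.card, Fintype.card_fin, Module.finrank_matrix,
    Fintype.card_fin, Module.finrank_self, mul_one, Nat.choose_two_right, Nat.add_sub_cancel] at h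
  obtain _ | k := m
  · omega
  · rw [show 2 * (k + 1) - 1 = 2 * k + 1 by omega]
    rw [show (2 * (k + 1) + 1) * (2 * (k + 1)) / 2 = (2 * k + 3) * (k + 1) by
      rw [show (2 * (k + 1) + 1) * (2 * (k + 1)) = (2 * k + 3) * (k + 1) * 2 by ring]; simp] at h
    linarith

theorem finrank_ker_tabMap_trace (m : ℕ) (a : Sym2 (Fin (2 * m + 1)) → K) (ha : IsUnit (hd a)) :
    Module.finrank K
      (LinearMap.ker ((tabMap a).prod (Matrix.traceLinearMap (Fin (2 * m + 1)) K K))) =
      m * (2 * m + 1) := by
  classical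
  have hn : Odd (2 * m + 1) := odd_two_mul_add_one m
  set D := adjugate (polarMat a) with hD
  let φ : (Sym2 (Fin (2 * m + 1)) → K) × K →ₗ[K] K :=
    { toFun := fun z => (D * triMat z.1).trace - 2 * hd a * z.2
      map_add' := fun y z => by
        simp only [Prod.fst_add, Prod.snd_add, triMat_add, Matrix.mul_add, trace_add]; ring
      map_smul' := fun c z => by
        simp only [Prod.smul_fst, Prod.smul_snd, triMat_smul, Matrix.mul_smul, trace_smul,
          smul_eq_mul, RingHom.id_apply]; ring }
  have hφ : φ ≠ 0 := fun h => by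
    by_cases h2 : (2 : K) = 0
    · obtain ⟨p, hp⟩ := exists_diag_notMem hn a ha (⊥ : Ideal K) (by simpa using h2)
      have e := LinearMap.congr_fun h (tab (Matrix.single p p (1 : K)), 0)
      change (D * triMat (tab _)).trace - 2 * hd a * 0 = 0 at e
      rw [trace_symm_tab (adjugate_symm a), Matrix.trace_mul_single, mul_zero, sub_zero] at e
      exact hp (by simpa using e)
    · have e := LinearMap.congr_fun h (0, 1)
      change (D * triMat 0).trace - 2 * hd a * 1 = 0 at e
      rw [show triMat (0 : Sym2 (Fin (2 * m + 1)) → K) = 0 by ext i j; simp [triMat], Matrix.mul_zero,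
        trace_zero, mul_one, zero_sub, neg_eq_zero] at e
      exact mul_ne_zero h2 ha.ne_zero e
  set L := (tabMap a).prod (Matrix.traceLinearMap (Fin (2 * m + 1)) K K) with hL
  have hr : LinearMap.range L = LinearMap.ker φ := by
    refine le_antisymm ?_ fun z hz => ?_
    · rintro _ ⟨Y, rfl⟩
      change (D * triMat (tab (polarMat a * Y))).trace - 2 * hd a * Y.trace = 0
      rw [trace_symm_tab (adjugate_symm a), ← Matrix.mul_assoc, adjugate_mul_odd hn,
        Matrix.smul_mul, Matrix.one_mul, trace_smul, smul_eq_mul, sub_self]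
    · obtain ⟨Y, -, h1, h2⟩ := exists_solve hn a ha ⊤ z.1 (fun _ => trivial) z.2 trivial
        (sub_eq_zero.mp hz)
      exact ⟨Y, Prod.ext h1 h2⟩
  have hsurj : LinearMap.range φ = ⊤ :=
    LinearMap.range_eq_top.mpr (LinearMap.surjective hφ)
  have hk := LinearMap.finrank_range_add_finrank_ker φ
  rw [hsurj, finrank_top, Module.finrank_self, Module.finrank_prod, Module.finrank_pi, Sym2.card,
    Fintype.card_fin, Module.finrank_self, Nat.choose_two_right, Nat.add_sub_cancel] at hk
  have h := LinearMap.finrank_range_add_finrank_ker L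
  rw [hr, Module.finrank_matrix, Fintype.card_fin, Module.finrank_self, mul_one] at h
  rw [show (2 * m + 1 + 1) * (2 * m + 1) / 2 = (m + 1) * (2 * m + 1) by
    rw [show (2 * m + 1 + 1) * (2 * m + 1) = (m + 1) * (2 * m + 1) * 2 by ring]; simp] at hk
  linarith

end Dimension

section Global

variable {R : Type u} [CommRing R] {m : ℕ}

theorem smoothOfRelativeDimension_coord_even {a : Sym2 (Fin (2 * m)) → R}
    (ha : IsUnit (polarMat a).det) :
    SmoothOfRelativeDimension (m * (2 * m - 1))
      (Spec.map (CommRingCat.ofHom (algebraMap R (Coord a false)))) := by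
  haveI : Algebra.Smooth R (Coord a false) :=
    ⟨formallySmooth fun B _ _ I hI G hG =>
      lift_of_isUnit_det I hI hG ha fun h => absurd h Bool.false_ne_true, finitePresentation⟩
  refine smoothOfRelativeDimension_of_tangent _ fun K _ _ _ x =>
    ⟨_, _, _, tangentCoord (matOf x), LinearMap.ker (tabMap fun p => algebraMap R K (a p)),
      finrank_ker_tabMap m _ ?_, tangentChart_coord x _ fun Y => ?_⟩
  · rw [← polarMat_map, ← RingHom.mapMatrix_apply, ← RingHom.map_det]
    exact ha.map _
  · exact ⟨fun h => ⟨h, fun hs => absurd hs Bool.false_ne_true⟩, fun h => h.1⟩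

theorem smoothOfRelativeDimension_coord_odd {a : Sym2 (Fin (2 * m + 1)) → R} (ha : IsUnit (hd a)) :
    SmoothOfRelativeDimension (m * (2 * m + 1))
      (Spec.map (CommRingCat.ofHom (algebraMap R (Coord a true)))) := by
  haveI : Algebra.Smooth R (Coord a true) :=
    ⟨formallySmooth fun B _ _ I hI G hG =>
      lift_of_odd I hI hG (odd_two_mul_add_one m) ha rfl, finitePresentation⟩
  refine smoothOfRelativeDimension_of_tangent _ fun K _ _ _ x =>
    ⟨_, _, _, tangentCoord (matOf x),
      LinearMap.ker ((tabMap fun p => algebraMap R K (a p)).prod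
        (Matrix.traceLinearMap (Fin (2 * m + 1)) K K)),
      finrank_ker_tabMap_trace m _ ?_, tangentChart_coord x _ fun Y => ?_⟩
  · rw [← map_hd]
    exact ha.map _
  · refine ⟨fun h => ⟨congrArg Prod.fst (LinearMap.mem_ker.mp h),
      fun _ => congrArg Prod.snd (LinearMap.mem_ker.mp h)⟩, fun h => ?_⟩
    exact LinearMap.mem_ker.mpr (Prod.ext h.1 (h.2 rfl))

end Global

end GrothLib.Cliff28
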