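import Groth.Agent.Lib.QuadGrp.Coord

/-!
# A group scheme pinned by a matrix description of its points is the spectrum of the coordinate ring
-/

set_option autoImplicit false

universe u

namespace GrothLib.Cliff28

open GrothLib.QuadCoord GrothLib.QuadHalfDisc TensorProduct QuadGrp AlgebraicGeometry CategoryTheory MonObj

variable {R : Type u} [CommRing R] {n : ℕ} {a : Sym2 (Fin n) → R} {s : Bool}

theorem exists_iso_spec_coord (S : ∀ (A : Type u) [CommRing A] [Algebra R A],
      Subgroup ((A ⊗[R] (Fin n → R)) ≃ₗ[A] (A ⊗[R] (Fin n → R))))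
    (hS : ∀ (A : Type u) [CommRing A] [Algebra R A] (g : (A ⊗[R] (Fin n → R)) ≃ₗ[A] (A ⊗[R] (Fin n → R))),
      g ∈ S A ↔ IsPoint a s A (LinearMap.toMatrix (stdBasis A) (stdBasis A) g.toLinearMap))
    (G : Over (Spec (CommRingCat.of R))) [CategoryTheory.GrpObj G] (D : LinRep R (Fin n → R) S G) :
    ∃ u : Spec (CommRingCat.of (Coord a s)) ⟶ G.left, IsIso u ∧
      u ≫ G.hom = Spec.map (CommRingCat.ofHom (algebraMap R (Coord a s))) := by
  let mat : ∀ (A : Type u) [CommRing A] [Algebra R A], (specOver R A ⟶ G) → Matrix (Fin n) (Fin n) A :=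
    fun A _ _ y => LinearMap.toMatrix (stdBasis A) (stdBasis A) (D.pts A y).1.toLinearMap
  have inj : ∀ (A : Type u) [CommRing A] [Algebra R A], Function.Injective (mat A) := fun A _ _ y y' h =>
    (D.pts A).injective (Subtype.ext (LinearEquiv.toLinearMap_injective
      ((LinearMap.toMatrix (stdBasis A) (stdBasis A)).injective h)))
  have nat : ∀ (A B : Type u) [CommRing A] [Algebra R A] [CommRing B] [Algebra R B] (f : A →ₐ[R] B)
      (y : specOver R A ⟶ G), mat B (specOverMap R f ≫ y) = (mat A y).map f := by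
    intro A B _ _ _ _ f y
    ext i j
    simp only [mat, LinearMap.toMatrix_apply, Matrix.map_apply, stdBasis,
      Algebra.TensorProduct.basis_apply, LinearEquiv.coe_coe]
    rw [D.natural A B f y]
    exact repr_rTensor f _ i
  obtain ⟨u, hu⟩ : ∃ u, mat (Coord a s) u = matOf (AlgHom.id R (Coord a s)) := by
    have hp := matOf_isPoint (AlgHom.id R (Coord a s))
    let f : (Coord a s ⊗[R] (Fin n → R)) →ₗ[Coord a s] (Coord a s ⊗[R] (Fin n → R)) :=
      (LinearMap.toMatrix (stdBasis (Coord a s)) (stdBasis (Coord a s))).symm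
      (matOf (AlgHom.id R (Coord a s)))
    have hf : LinearMap.toMatrix (stdBasis (Coord a s)) (stdBasis (Coord a s)) f =
        matOf (AlgHom.id R (Coord a s)) := LinearEquiv.apply_symm_apply _ _
    have hdet : IsUnit (LinearMap.toMatrix (stdBasis (Coord a s)) (stdBasis (Coord a s)) f).det := by
      rw [hf]; exact hp.isUnit_det
    obtain ⟨g, hg⟩ : ∃ g : (Coord a s ⊗[R] (Fin n → R)) ≃ₗ[Coord a s] (Coord a s ⊗[R] (Fin n → R)),
        g.toLinearMap = f :=
      ⟨LinearEquiv.ofIsUnitDet (f := f) hdet, LinearEquiv.coe_ofIsUnitDet (f := f) hdet⟩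
    refine ⟨(D.pts _).symm ⟨g, (hS _ g).2 (by rw [hg, hf]; exact hp)⟩, ?_⟩
    simp only [mat, MulEquiv.apply_symm_apply]
    rw [hg, hf]
  have hbij : ∀ (A : Type u) [CommRing A] [Algebra R A],
      Function.Bijective fun φ : Coord a s →ₐ[R] A => specOverMap R φ ≫ u := by
    intro A _ _
    have key : ∀ φ : Coord a s →ₐ[R] A, mat A (specOverMap R φ ≫ u) = matOf φ := fun φ => by
      rw [nat, hu, ← matOf_comp, AlgHom.comp_id]
    refine ⟨fun φ ψ h => matOf_injective (by rw [← key, ← key]; exact congrArg _ h), fun y => ?_⟩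
    obtain ⟨φ, hφ⟩ := exists_matOf ((hS A _).1 (D.pts A y).2)
    exact ⟨φ, inj A ((key φ).trans hφ)⟩
  exact ⟨u.left, RepIso.isIso_left u hbij, Over.w u⟩

end GrothLib.Cliff28
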