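import Groth.Agent.Lib.Cliff28.EvenLocal
import Groth.Agent.Lib.Cliff28.Represent
import Mathlib.AlgebraicGeometry.OpenImmersion

/-!
# The Dickson locus commutes with change of rings; the special orthogonal group of even rank
-/

set_option autoImplicit false
set_option linter.unusedSectionVars false
set_option linter.style.haveILetI false

open CliffordAlgebra QuadraticMap TensorProduct GrothLib.QuadHalfDisc

namespace GrothLib.Cliff28

universe u v w

section Test

variable {R : Type u} [CommRing R] {M : Type v} [AddCommGroup M] [Module R M] [Module.Free R M]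
  [Module.Finite R M] {Q : QuadraticForm R M} {m : ℕ}

theorem two_mul_sub_sq {C : Type*} [Ring C] {y s d : C} (h : y = s - y) (hd : (2 * y - s) * (2 * y - s) = d) :
    d = 0 := by
  rw [← hd, two_mul, show y + y - s = y - (s - y) by abel, ← h, sub_self, zero_mul]

/-- Membership in the locus is tested on one twisting element. -/
theorem mem_dicksonLocus_iff (hQ : QuadGrp.IsRegular Q) (hm : 1 ≤ m)
    (hM : Module.finrank R M = 2 * m) {g : M ≃ₗ[R] M} (hg : g ∈ QuadGrp.O Q) (P : PrimeSpectrum R)
    {S δ : R} {y : CliffordAlgebra Q} (hδ : δ ∉ P.asIdeal) (hye : y ∈ evenOdd Q 0)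
    (hytw : ∀ v, ι Q v * y + y * ι Q v = S • ι Q v)
    (hysq : (2 * y - algebraMap R _ S) * (2 * y - algebraMap R _ S) = algebraMap R _ δ) :
    P ∈ dicksonLocus Q g hg ↔
      bcA (Localization.AtPrime P.asIdeal) Q (map (QuadGrp.isometryOfMem Q g hg) y) =
        bcA (Localization.AtPrime P.asIdeal) Q y := by
  refine ⟨fun h => h y hye fun z hz => commute_even_of_twist hytw hz, fun h => ?_⟩
  set A := Localization.AtPrime P.asIdeal with hA
  haveI : Nontrivial R := (algebraMap R A).domain_nontrivial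
  have hQP := isRegular_baseChange A Q hQ
  have hMP : Module.finrank A (A ⊗[R] M) = 2 * m := by rw [Module.finrank_baseChange, hM]
  obtain ⟨ζ, Z⟩ := exists_arf m _ hMP hQP
  obtain ⟨p, hp, hpe, -⟩ := Z.exists_dickson hQP hm hMP (baseChange_mem_O A hg)
  obtain ⟨a, ha⟩ := exists_isUnit_value hQP (by omega)
  rcases hp with rfl | rfl
  · intro x hx hxc
    obtain ⟨c, d, hcd⟩ := Z.even_center_eq hQP ha (bc_mem_evenOdd _ _ _ _ 0 hx)
      (fun z hz => bcA_center A hxc hz)
    rw [bcA_map A hg, hcd, map_add, map_smul, map_smul, map_one, hpe]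
    simp
  · exfalso
    obtain ⟨c, e, hce⟩ := Z.even_center_eq hQP ha (bc_mem_evenOdd _ _ _ _ 0 hye)
      (fun z hz => bcA_center A (fun w hw => commute_even_of_twist hytw hw) hz)
    have h' := sub_eq_zero.mpr h
    rw [bcA_map A hg, hce, map_add, map_smul, map_smul, map_one, hpe] at h'
    have he := (Z.indep ha ((lin5 c e 1 ζ).symm.trans h')).1
    rw [mul_one] at he
    rw [he, zero_smul, add_zero] at hce
    -- `y` would be a scalar with `2 y = S`
    have hu : IsUnit (ι (QuadGrp.baseChangeForm A Q) a) := (isUnit_pow_iff two_ne_zero).mp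
      (by rw [pow_two, ι_sq_scalar]; exact ha.map _)
    have h2 := bcA_twist A hytw a
    rw [hce, mul_smul_comm, smul_mul_assoc, mul_one, one_mul, ← add_smul] at h2
    have hcS : c + c = algebraMap R A S := sub_eq_zero.mp
      (smul_eq_zero_of_isUnit _ hu (by rw [sub_smul, h2, sub_self]))
    have hy2 : bcA A Q y = algebraMap A _ (algebraMap R A S) - bcA A Q y := by
      rw [hce, ← Algebra.algebraMap_eq_smul_one, eq_sub_iff_add_eq, ← map_add, hcS]
    have h3 := congrArg (bcA A Q) hysq
    rw [map_mul, map_sub, map_mul, map_ofNat, bc_algebraMap, bc_algebraMap] at h3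
    have h4 := two_mul_sub_sq hy2 h3
    rw [← map_zero (algebraMap A (CliffordAlgebra (QuadGrp.baseChangeForm A Q)))] at h4
    have hu' : IsUnit (algebraMap R A δ) := IsLocalization.map_units A (⟨δ, hδ⟩ : P.asIdeal.primeCompl)
    exact hu'.ne_zero (algebraMap_injective _ h4)

/-- Off the locus a twisting element goes to its conjugate. -/
theorem exists_swap_of_notMem (hQ : QuadGrp.IsRegular Q) (hm : 1 ≤ m)
    (hM : Module.finrank R M = 2 * m) {g : M ≃ₗ[R] M} (hg : g ∈ QuadGrp.O Q) (P : PrimeSpectrum R)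
    (hP : P ∉ dicksonLocus Q g hg) :
    ∃ (S δ : R) (y : CliffordAlgebra Q) (t : R), δ ∉ P.asIdeal ∧ t ∉ P.asIdeal ∧ y ∈ evenOdd Q 0 ∧
      (∀ v, ι Q v * y + y * ι Q v = S • ι Q v) ∧
      (2 * y - algebraMap R _ S) * (2 * y - algebraMap R _ S) = algebraMap R _ δ ∧
      t • (map (QuadGrp.isometryOfMem Q g hg) y - (algebraMap R _ S - y)) = 0 := by
  set A := Localization.AtPrime P.asIdeal with hA
  haveI : Nontrivial R := (algebraMap R A).domain_nontrivial
  have hQP := isRegular_baseChange A Q hQ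
  have hMP : Module.finrank A (A ⊗[R] M) = 2 * m := by rw [Module.finrank_baseChange, hM]
  obtain ⟨S, δ, y, ζ, Z, hy, hS, hδ, hye, hytw, hysq⟩ := exists_twist_lift hQ hM P.asIdeal
  obtain ⟨p, hp, hpe, -⟩ := Z.exists_dickson hQP hm hMP (baseChange_mem_O A hg)
  rcases hp with rfl | rfl
  · refine absurd ((mem_dicksonLocus_iff hQ hm hM hg P hδ hye hytw hysq).mpr ?_) hP
    rw [bcA_map A hg, hy, map_smul, hpe]
    simp
  · obtain ⟨t, ht, h⟩ := exists_smul_eq_zero Q P.asIdeal
      (x := map (QuadGrp.isometryOfMem Q g hg) y - (algebraMap R _ S - y)) (by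
        rw [map_sub, map_sub, bcA_map A hg, hy, bc_algebraMap, map_smul, hpe, lin2, sub_self])
    exact ⟨S, δ, y, t, hδ, ht, hye, hytw, hysq, h⟩

theorem mem_SOeven_iff_locus {g : M ≃ₗ[R] M} (hg : g ∈ QuadGrp.O Q) :
    g ∈ QuadGrp.SOeven Q ↔ ∀ P, P ∈ dicksonLocus Q g hg := by
  refine ⟨fun ⟨_, hD⟩ P x hx hxc => ?_, fun h => ⟨hg, isDicksonTrivial_of_forall hg h⟩⟩
  rw [hD ⟨x, hx⟩ ((mem_center_even_iff _).mpr hxc)]

end Test

section Functoriality

variable {n : ℕ} {R R' : Type u} [CommRing R] [CommRing R'] {M : Type v} [AddCommGroup M] [Module R M]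
  [Module.Free R M] [Module.Finite R M] {Q : QuadraticForm R M}
  (b : Module.Basis (Fin n) R M) (φ : R' →+* R) (a' : Sym2 (Fin n) → R') {m : ℕ}

/-- The Dickson locus commutes with change of rings. -/
theorem mem_dicksonLocus_specMap
    (ha : ∀ p, φ (a' p) = QuadGrp.coeffs b (LinearEquiv.refl R R) Q p)
    (hQ : QuadGrp.IsRegular Q) (hQ' : QuadGrp.IsRegular (formOfTable a')) (hm : 1 ≤ m)
    (hM : Module.finrank R M = 2 * m) (hM' : Module.finrank R' (Fin n → R') = 2 * m)
    {g : M ≃ₗ[R] M} (hg : g ∈ QuadGrp.O Q)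
    {g' : (Fin n → R') ≃ₗ[R'] (Fin n → R')} (hg' : g' ∈ QuadGrp.O (formOfTable a'))
    (hgg : ∀ x, g (specMap b φ x) = specMap b φ (g' x)) (P : PrimeSpectrum R) :
    P ∈ dicksonLocus Q g hg ↔ P.comap φ ∈ dicksonLocus (formOfTable a') g' hg' := by
  have hσ := specMap_isometry b Q φ a' ha
  let F := bc (formOfTable a') Q (specMap b φ) hσ
  have hF : ∀ x, F (map (QuadGrp.isometryOfMem _ g' hg') x) =
      map (QuadGrp.isometryOfMem Q g hg) (F x) := fun x =>
    bc_map _ _ _ _ _ _ (fun v => by
      rw [QuadGrp.isometryOfMem_apply, QuadGrp.isometryOfMem_apply, hgg]) x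
  have push : ∀ {S δ : R'} {y : CliffordAlgebra (formOfTable a')}, y ∈ evenOdd _ 0 →
      (∀ v, ι (formOfTable a') v * y + y * ι _ v = S • ι _ v) →
      (2 * y - algebraMap R' _ S) * (2 * y - algebraMap R' _ S) = algebraMap R' _ δ →
      F y ∈ evenOdd Q 0 ∧ (∀ v, ι Q v * F y + F y * ι Q v = φ S • ι Q v) ∧
        (2 * F y - algebraMap R _ (φ S)) * (2 * F y - algebraMap R _ (φ S)) = algebraMap R _ (φ δ) := by
    intro S δ y h1 h2 h3
    refine ⟨bc_mem_evenOdd _ _ _ _ 0 h1, span_specMap b φ (by simp) ?_ ?_ ?_, ?_⟩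
    · intro v w hv hw; rw [map_add, add_mul, mul_add, smul_add, ← hv, ← hw]; abel
    · intro c v hv; rw [map_smul, smul_mul_assoc, mul_smul_comm, ← smul_add, hv, smul_comm]
    · intro x
      have := congrArg F (h2 x)
      simpa only [F, map_add, map_mul, bc_smul, bc_ι] using this
    · have := congrArg F h3
      simpa only [F, map_mul, map_sub, map_ofNat, bc_algebraMap] using this
  have kill : ∀ {t : R'} {z : CliffordAlgebra (formOfTable a')}, t ∉ (P.comap φ).asIdeal → t • z = 0 →
      bcA (Localization.AtPrime P.asIdeal) Q (F z) = 0 := by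
    intro t z ht hz
    have h := congrArg (fun z => bcA (Localization.AtPrime P.asIdeal) Q (F z)) hz
    simp only [F, bc_smul, map_zero] at h
    exact ((IsLocalization.map_units (Localization.AtPrime P.asIdeal)
      (⟨φ t, ht⟩ : P.asIdeal.primeCompl)).smul_eq_zero).mp h
  constructor
  · intro hP
    by_contra hP'
    obtain ⟨S, δ, y, t, hδ, ht, hye, hytw, hysq, h⟩ := exists_swap_of_notMem hQ' hm hM' hg' _ hP'
    obtain ⟨h1, h2, h3⟩ := push hye hytw hysq
    have e1 := (mem_dicksonLocus_iff hQ hm hM hg P (δ := φ δ) hδ h1 h2 h3).mp hP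
    have e2 := kill ht h
    rw [map_sub, map_sub, map_sub, map_sub, hF, e1, bc_algebraMap, sub_eq_zero] at e2
    have e3 := congrArg (bcA (Localization.AtPrime P.asIdeal) Q) h3
    rw [map_mul, map_sub, map_mul, map_ofNat] at e3
    have e4 := two_mul_sub_sq e2 e3
    rw [bc_algebraMap, ← map_zero (algebraMap (Localization.AtPrime P.asIdeal)
      (CliffordAlgebra (QuadGrp.baseChangeForm (Localization.AtPrime P.asIdeal) Q)))] at e4
    exact ((IsLocalization.map_units (Localization.AtPrime P.asIdeal)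
      (⟨φ δ, hδ⟩ : P.asIdeal.primeCompl))).ne_zero (algebraMap_injective _ e4)
  · intro hP'
    obtain ⟨S, δ, y, ζ, Z, hy, hS, hδ, hye, hytw, hysq⟩ := exists_twist_lift hQ' hM' (P.comap φ).asIdeal
    obtain ⟨t, ht, h⟩ := exists_smul_eq_zero (formOfTable a') (P.comap φ).asIdeal
      (x := map (QuadGrp.isometryOfMem _ g' hg') y - y) (by
        rw [map_sub, hP' y hye fun z hz => commute_even_of_twist hytw hz, sub_self])
    obtain ⟨h1, h2, h3⟩ := push hye hytw hysq
    have e2 := kill ht h
    rw [map_sub, map_sub, hF, sub_eq_zero] at e2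
    exact (mem_dicksonLocus_iff hQ hm hM hg P (δ := φ δ) hδ h1 h2 h3).mpr e2

end Functoriality

section Universal

open Matrix GrothLib.QuadTable QuadGrp
open GrothLib.QuadCoord

variable {R : Type u} [CommRing R] {m : ℕ} (Q : QuadraticForm R (Fin (2 * m) → R))

/-- The idempotent cutting out the special orthogonal group in the orthogonal group. -/
theorem exists_dickson_idempotent (hQ : QuadGrp.IsRegular Q) (hm : 1 ≤ m) :
    ∃ e : Coord (table Q) false, IsIdempotentElem e ∧
      ∀ (A : Type u) [CommRing A] [Algebra R A]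
        (g : (A ⊗[R] (Fin (2 * m) → R)) ≃ₗ[A] (A ⊗[R] (Fin (2 * m) → R))) (φ : Coord (table Q) false →ₐ[R] A),
        LinearMap.toMatrix (GrothLib.QuadCoord.stdBasis A) (GrothLib.QuadCoord.stdBasis A) g.toLinearMap =
            matOf φ →
          (g ∈ sorth Q A ↔ φ e = 1) := by
  classical
  set O := Coord (table Q) false with hO
  set aO : Sym2 (Fin (2 * m)) → O := fun p => algebraMap R O (table Q p) with haO
  have hp := matOf_isPoint (AlgHom.id R O)
  set GO := matOf (AlgHom.id R O) with hGO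
  let bO := Pi.basisFun O (Fin (2 * m))
  have hGu : IsUnit (LinearMap.toMatrix bO bO (Matrix.toLin' GO)).det := by
    rw [LinearMap.toMatrix_eq_toMatrix', LinearMap.toMatrix'_toLin']; exact hp.isUnit_det
  let gO := LinearEquiv.ofIsUnitDet hGu
  have hgl : gO.toLinearMap = Matrix.toLin' GO := LinearEquiv.coe_ofIsUnitDet hGu
  have hgO : gO ∈ QuadGrp.O (formOfTable aO) := by
    intro v
    have : (formOfTable aO).comp gO.toLinearMap = formOfTable aO := by
      refine QuadCoord.eq_of_coeffs_eq bO ?_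
      rw [coeffs_comp, coeffs_formOfTable, hgl, LinearMap.toMatrix_eq_toMatrix',
        LinearMap.toMatrix'_toLin']
      exact hp.table
    exact QuadraticMap.congr_fun this v
  have hQO : QuadGrp.IsRegular (formOfTable aO) := by
    rw [isRegular_iff_isUnit_det bO, coeffs_formOfTable, haO, ← polarMat_map,
      ← RingHom.mapMatrix_apply, ← RingHom.map_det]
    exact (isUnit_det_polarMat Q hQ).map _
  obtain ⟨e, he, heq⟩ : ∃ e : O, IsIdempotentElem e ∧ (Nontrivial O →
      dicksonLocus (formOfTable aO) gO hgO = (PrimeSpectrum.basicOpen e : Set (PrimeSpectrum O))) := by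
    rcases subsingleton_or_nontrivial O with h | h
    · exact ⟨0, IsIdempotentElem.zero, fun h' => absurd h (not_subsingleton_iff_nontrivial.mpr h')⟩
    · obtain ⟨e, he, heq⟩ := PrimeSpectrum.exists_idempotent_basicOpen_eq_of_isClopen
        (isClopen_dicksonLocus hQO hm (by simp) hgO)
      exact ⟨e, he, fun _ => heq⟩
  refine ⟨e, he, fun A _ _ g φ hgφ => ?_⟩
  rcases subsingleton_or_nontrivial A with hA | hA
  · haveI : Subsingleton (A ⊗[R] (Fin (2 * m) → R)) := Module.subsingleton A _
    refine iff_of_true ?_ (Subsingleton.elim _ _)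
    rw [show g = 1 from LinearEquiv.ext fun v => Subsingleton.elim _ _]
    exact one_mem _
  haveI : Nontrivial O := φ.toRingHom.domain_nontrivial
  haveI : Nontrivial R := (algebraMap R A).domain_nontrivial
  set bA := GrothLib.QuadCoord.stdBasis (n := 2 * m) (R := R) A with hbA
  set QA := QuadGrp.baseChangeForm A Q with hQA
  have hMA : Module.finrank A (A ⊗[R] (Fin (2 * m) → R)) = 2 * m := by
    rw [Module.finrank_baseChange]; simp
  have hQA' : QuadGrp.IsRegular QA := isRegular_baseChange A Q hQ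
  have hg : g ∈ QuadGrp.O QA := fun v => congrArg (AlgebraTensorModule.rid R A A)
    ((mem_orth_iff Q g).mpr (hgφ ▸ (matOf_isPoint φ).table) v)
  rw [sorth, SO, if_pos (by rw [hMA]; exact even_two_mul m), mem_SOeven_iff_locus hg]
  have key : ∀ P, P ∈ dicksonLocus QA g hg ↔ φ e ∉ P.asIdeal := fun P => by
    rw [mem_dicksonLocus_specMap bA (φ : O →+* A) aO (fun p => by
        rw [hQA, coeffs_baseChangeForm]; exact φ.commutes _) hQA' hQO hm hMA (by simp) hg hgO
        (fun x => by
          rw [show gO x = Matrix.toLin' GO x from LinearMap.congr_fun hgl x]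
          refine specMap_toLin' bA (φ : O →+* A) g.toLinearMap GO ?_ x
          rw [hgφ, hGO, RingHom.coe_coe, ← matOf_comp, AlgHom.comp_id]) P,
      heq inferInstance]
    rfl
  simp only [key]
  refine ⟨fun h => ?_, fun h P => by rw [h]; exact P.asIdeal.ne_top_iff_one.mp P.isPrime.ne_top⟩
  have hu : IsUnit (φ e) := by
    by_contra hnu
    obtain ⟨I, hI, hmem⟩ := exists_max_ideal_of_mem_nonunits hnu
    exact h ⟨I, hI.isPrime⟩ hmem
  exact hu.mul_left_cancel ((he.map φ).eq.trans (mul_one _).symm)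

end Universal

end GrothLib.Cliff28
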