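import Groth.Agent.Lib.Cliff28.LocalArf

/-!
# Even rank over a local ring

`GrothLib.Cliff28`: consequences of the existence of an Arf element `ζ`: the centre of the Clifford
algebra, the centre of its even part, and the action of isometries on `ζ`.
-/

set_option autoImplicit false
set_option linter.unusedSectionVars false

open CliffordAlgebra QuadraticMap

namespace GrothLib.Cliff28

universe u v

variable {R : Type u} [CommRing R] {M : Type v} [AddCommGroup M] [Module R M] [Module.Free R M]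
  [Module.Finite R M] {Q : QuadraticForm R M}

/-- Commuting with the vectors implies central. -/
theorem commute_of_commute_ι {x : CliffordAlgebra Q} (h : ∀ v, Commute x (ι Q v))
    (y : CliffordAlgebra Q) : Commute x y := by
  induction y using CliffordAlgebra.induction with
  | algebraMap r => exact Algebra.commute_algebraMap_right r x
  | ι v => exact h v
  | mul a b ha hb => exact ha.mul_right hb
  | add a b ha hb => exact ha.add_right hb

/-- An element anticommuting with the vectors twists by the grade involution. -/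
theorem twisted_mul {z : CliffordAlgebra Q} (h : ∀ v, ι Q v * z = -(z * ι Q v))
    (y : CliffordAlgebra Q) : z * y = involute y * z := by
  induction y using CliffordAlgebra.induction with
  | algebraMap r => rw [AlgHom.commutes, Algebra.commutes]
  | ι v => rw [involute_ι, neg_mul, h, neg_neg]
  | mul a b ha hb => rw [← mul_assoc, ha, mul_assoc, hb, ← mul_assoc, map_mul]
  | add a b ha hb => rw [mul_add, ha, hb, map_add, add_mul]

/-- A contraction-killed element is a scalar, for a regular form. -/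
theorem scalar_of_contract_polar (hQ : QuadGrp.IsRegular Q) {x : CliffordAlgebra Q}
    (h : ∀ v, contractLeft (Q.polarBilin v) x = 0) : ∃ r, x = algebraMap R _ r := by
  refine scalar_of_forall_contract (Module.Free.chooseBasis R M) Q fun i => ?_
  obtain ⟨w, hw⟩ := hQ.2 ((Module.Free.chooseBasis R M).coord i)
  rw [← hw]
  exact h w

theorem parity_commute {x0 x1 : CliffordAlgebra Q} (h0 : x0 ∈ evenOdd Q 0) (h1 : x1 ∈ evenOdd Q 1)
    {v : M} (h : ι Q v * (x0 + x1) = (x0 + x1) * ι Q v) :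
    ι Q v * x0 = x0 * ι Q v ∧ ι Q v * x1 = x1 * ι Q v := by
  have hv := ι_mem_evenOdd_one Q v
  have a1 : ι Q v * x0 ∈ evenOdd Q 1 := by simpa using SetLike.mul_mem_graded hv h0
  have b1 : x0 * ι Q v ∈ evenOdd Q 1 := by simpa using SetLike.mul_mem_graded h0 hv
  have a0 : ι Q v * x1 ∈ evenOdd Q 0 :=
    (show (1 : ZMod 2) + 1 = 0 from rfl) ▸ SetLike.mul_mem_graded hv h1
  have b0 : x1 * ι Q v ∈ evenOdd Q 0 :=
    (show (1 : ZMod 2) + 1 = 0 from rfl) ▸ SetLike.mul_mem_graded h1 hv
  rw [mul_add, add_mul, add_comm, add_comm (x0 * ι Q v)] at h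
  have := even_odd_unique Q a0 a1 b0 b1 h
  exact ⟨this.2, this.1⟩

theorem two_mem_evenOdd {i : ZMod 2} {x : CliffordAlgebra Q} (hx : x ∈ evenOdd Q i) :
    2 * x ∈ evenOdd Q i := by rw [two_mul]; exact add_mem hx hx

namespace IsArf

variable {m : ℕ} {ζ : CliffordAlgebra Q} (A : IsArf Q m ζ)

include A

theorem z_even : 2 * ζ - 1 ∈ evenOdd Q 0 :=
  sub_mem (two_mem_evenOdd A.even) (SetLike.one_mem_graded _)

theorem z_anti (v : M) : ι Q v * (2 * ζ - 1) = -((2 * ζ - 1) * ι Q v) :=
  calc ι Q v * (2 * ζ - 1) = 2 * (ι Q v * ζ) - ι Q v := by noncomm_ring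
    _ = _ := by rw [A.twist]; noncomm_ring

theorem exists_z_mul_z :
    ∃ d : R, IsUnit d ∧ (2 * ζ - 1) * (2 * ζ - 1) = algebraMap R _ d := by
  obtain ⟨c, hc, hu⟩ := A.sq
  refine ⟨1 + 4 * c, hu, ?_⟩
  calc (2 * ζ - 1) * (2 * ζ - 1) = 4 * (ζ * ζ) - 4 * ζ + 1 := by noncomm_ring
    _ = _ := by rw [hc, map_add, map_mul, map_ofNat, map_one, mul_add, add_sub_cancel_left, add_comm]

theorem isUnit_z : IsUnit (2 * ζ - 1) := by
  obtain ⟨d, hd, h⟩ := A.exists_z_mul_z
  exact (isUnit_pow_iff two_ne_zero).mp (by rw [pow_two, h]; exact hd.map _)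

theorem scalar_of_commute (hQ : QuadGrp.IsRegular Q) {x : CliffordAlgebra Q}
    (hx : ∀ v, ι Q v * x = x * ι Q v) : ∃ r, x = algebraMap R _ r := by
  obtain ⟨x0, h0, x1, h1, rfl⟩ := exists_even_add_odd Q x
  have hs := fun v => parity_commute h0 h1 (hx v)
  obtain ⟨r, hr⟩ := scalar_of_contract_polar hQ fun v => contractLeft_eq_zero_of_even Q h0 (hs v).1
  have hc : (2 * ζ - 1) * x1 = x1 * (2 * ζ - 1) :=
    (commute_of_commute_ι (fun v => ((hs v).2).symm) _).symm
  have ha := twisted_mul A.z_anti x1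
  rw [hc, involute_eq_of_mem_odd h1, neg_mul] at ha
  have h2 : x1 + x1 = 0 := A.isUnit_z.mul_right_cancel
    (by rw [add_mul, zero_mul]; exact add_eq_zero_iff_eq_neg.mpr ha)
  obtain ⟨s, hs'⟩ : ∃ s, x1 = algebraMap R _ s := scalar_of_contract_polar hQ fun v => by
    have e := ι_mul_eq Q v x1
    rw [(hs v).2, involute_eq_of_mem_odd h1, neg_mul] at e
    rw [eq_comm, ← eq_sub_iff_add_eq', sub_neg_eq_add, ← add_mul, h2, zero_mul] at e
    exact e
  have : s = 0 := algebraMap_mem_odd Q (hs' ▸ h1)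
  exact ⟨r, by rw [hr, hs', this, map_zero, add_zero]⟩

theorem twisted_eq (hQ : QuadGrp.IsRegular Q) {x : CliffordAlgebra Q}
    (hx : ∀ v, ι Q v * x = -(x * ι Q v)) : ∃ r : R, x = r • (2 * ζ - 1) := by
  obtain ⟨r, hr⟩ := A.scalar_of_commute hQ (x := (2 * ζ - 1) * x) fun v => by
    rw [← mul_assoc, A.z_anti, neg_mul, mul_assoc, hx, mul_neg, neg_neg, mul_assoc]
  obtain ⟨d, hd, h⟩ := A.exists_z_mul_z
  obtain ⟨e, rfl⟩ := hd
  refine ⟨(↑e⁻¹ : R) * r, ?_⟩
  have : ((e : R)) • x = r • (2 * ζ - 1) := by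
    rw [Algebra.smul_def, ← h, mul_assoc, hr, Algebra.smul_def, Algebra.commutes]
  rw [mul_smul, ← this, smul_smul, Units.inv_mul, one_smul]

theorem commute_even {y : CliffordAlgebra Q} (hy : y ∈ evenOdd Q 0) : Commute ζ y := by
  induction y, hy using even_induction with
  | algebraMap r => exact Algebra.commute_algebraMap_right r ζ
  | add a b ha hb iha ihb => exact iha.add_right ihb
  | ι_mul_ι_mul v w z hz ih =>
    refine Commute.mul_right ?_ ih
    have h1 : ζ * ι Q v = ι Q v * (1 - ζ) := by rw [mul_sub, mul_one, A.twist]; noncomm_ring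
    have h2 : (1 - ζ) * ι Q w = ι Q w * ζ := (A.twist w).symm
    rw [Commute, SemiconjBy, ← mul_assoc, h1, mul_assoc, h2, mul_assoc]

end IsArf

theorem exists_isUnit_value [IsLocalRing R] (hQ : QuadGrp.IsRegular Q)
    (hn : 2 ≤ Module.finrank R M) : ∃ a, IsUnit (Q a) := by
  obtain ⟨a, b, hab, -⟩ := exists_plane Q hQ hn
  by_contra h
  push Not at h
  have : polar Q a b ∈ IsLocalRing.maximalIdeal R := sub_mem (sub_mem (h _) (h _)) (h _)
  rw [hab] at this
  exact (IsLocalRing.maximalIdeal.isMaximal R).ne_top ((Ideal.eq_top_iff_one _).mpr this)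

namespace IsArf

variable {m : ℕ} {ζ : CliffordAlgebra Q} (A : IsArf Q m ζ)

include A

theorem even_center_eq (hQ : QuadGrp.IsRegular Q) {a : M} (ha : IsUnit (Q a))
    {x : CliffordAlgebra Q} (hx : x ∈ evenOdd Q 0)
    (hc : ∀ y ∈ evenOdd Q 0, Commute x y) : ∃ p q : R, x = p • 1 + q • ζ := by
  obtain ⟨e, he⟩ := ha
  set ai := (↑e⁻¹ : R) • ι Q a with hai
  have h1 : ι Q a * ai = 1 := by
    rw [hai, mul_smul_comm, ι_sq_scalar, ← he, Algebra.smul_def, ← map_mul, Units.inv_mul, map_one]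
  have h2 : ai * ι Q a = 1 := by
    rw [hai, smul_mul_assoc, ι_sq_scalar, ← he, Algebra.smul_def, ← map_mul, Units.inv_mul, map_one]
  have hσ1 : ∀ v, ι Q v * (ι Q a * x * ai) = x * ι Q v := fun v => by
    rw [← mul_assoc, ← mul_assoc, ← (hc _ (ι_mul_ι_mem_evenOdd_zero Q v a)).eq, ← mul_assoc x,
      mul_assoc _ (ι Q a), h1, mul_one]
  have hσ2 : ∀ v, ι Q a * x * ai * ι Q v = ι Q v * x := fun v => by
    calc ι Q a * x * ai * ι Q v = (↑e⁻¹ : R) • (ι Q a * (x * (ι Q a * ι Q v))) := by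
          simp only [hai, mul_smul_comm, smul_mul_assoc, mul_assoc]
      _ = ((↑e⁻¹ : R) • (ι Q a * ι Q a)) * (ι Q v * x) := by
          rw [(hc _ (ι_mul_ι_mem_evenOdd_zero Q a v)).eq]
          simp only [smul_mul_assoc, mul_assoc]
      _ = ι Q v * x := by rw [← mul_smul_comm, ← hai, h1, one_mul]
  obtain ⟨r, hr⟩ := A.twisted_eq hQ (x := ι Q a * x * ai - x) fun v => by
    rw [mul_sub, sub_mul, hσ1, hσ2, neg_sub]
  obtain ⟨p, hp⟩ := A.scalar_of_commute hQ (x := x + r • ζ) fun v => by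
    have hσ : ι Q v * x = (x + r • (2 * ζ - 1)) * ι Q v := by
      rw [← hr, add_sub_cancel, hσ2]
    rw [mul_add, mul_smul_comm, hσ, A.twist, ← smul_mul_assoc, ← add_mul]
    congr 1
    rw [two_mul, smul_sub, smul_add, smul_sub]
    abel
  exact ⟨p, -r, by rw [← Algebra.algebraMap_eq_smul_one, ← hp, neg_smul, add_neg_cancel_right]⟩

theorem indep {a : M} (ha : IsUnit (Q a)) {p q : R}
    (h : p • (1 : CliffordAlgebra Q) + q • ζ = 0) : p = 0 ∧ q = 0 := by
  have hu : IsUnit (ι Q a) := (isUnit_pow_iff two_ne_zero).mp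
    (by rw [pow_two, ι_sq_scalar]; exact ha.map _)
  have h' : p • (1 : CliffordAlgebra Q) + q • (1 - ζ) = 0 := hu.mul_left_cancel <| by
    have := congrArg (ι Q a * ·) h
    simp only [mul_add, mul_smul_comm, A.twist, mul_one, mul_zero] at this
    rw [mul_zero, mul_add, mul_smul_comm, mul_one, mul_smul_comm]
    have e : ι Q a * (1 - ζ) = ζ * ι Q a := by rw [mul_sub, mul_one, A.twist]; noncomm_ring
    rw [e]
    have h3 := congrArg (· * ι Q a) h
    simp only [add_mul, smul_mul_assoc, one_mul, zero_mul] at h3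
    exact h3
  have hq : q = 0 := smul_eq_zero_of_isUnit Q A.isUnit_z <| by
    have := sub_eq_zero.mpr (h.trans h'.symm)
    rw [add_sub_add_left_eq_sub, ← smul_sub] at this
    rw [show 2 * ζ - 1 = ζ - (1 - ζ) by noncomm_ring]
    exact this
  refine ⟨?_, hq⟩
  rw [hq, zero_smul, add_zero] at h
  exact smul_one_eq_zero Q h

theorem map_twist {g : M ≃ₗ[R] M} (hg : g ∈ QuadGrp.O Q) (v : M) :
    ι Q v * map (QuadGrp.isometryOfMem Q g hg) ζ =
      (1 - map (QuadGrp.isometryOfMem Q g hg) ζ) * ι Q v := by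
  have := congrArg (map (QuadGrp.isometryOfMem Q g hg)) (A.twist (g.symm v))
  simpa [QuadGrp.isometryOfMem_apply] using this

theorem map_z_anti {g : M ≃ₗ[R] M} (hg : g ∈ QuadGrp.O Q) (v : M) :
    ι Q v * map (QuadGrp.isometryOfMem Q g hg) (2 * ζ - 1) =
      -(map (QuadGrp.isometryOfMem Q g hg) (2 * ζ - 1) * ι Q v) := by
  have := congrArg (map (QuadGrp.isometryOfMem Q g hg)) (A.z_anti (g.symm v))
  simpa [QuadGrp.isometryOfMem_apply] using this

/-- An isometry sends `ζ` to `p + (1 - 2p) ζ` with `p` idempotent. -/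
theorem exists_map_eq (hQ : QuadGrp.IsRegular Q) {a : M} (ha : IsUnit (Q a)) {g : M ≃ₗ[R] M}
    (hg : g ∈ QuadGrp.O Q) :
    ∃ p : R, IsIdempotentElem p ∧
      map (QuadGrp.isometryOfMem Q g hg) ζ = p • 1 + (1 - 2 * p) • ζ := by
  set G := map (QuadGrp.isometryOfMem Q g hg) with hG
  have hc : ∀ y ∈ evenOdd Q 0, Commute (G ζ) y := fun y hy => by
    induction y, hy using even_induction with
    | algebraMap r => exact Algebra.commute_algebraMap_right r _
    | add s t hs ht ihs iht => exact ihs.add_right iht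
    | ι_mul_ι_mul v w z hz ih =>
      refine Commute.mul_right ?_ ih
      have e := A.map_twist hg
      have h1 : G ζ * ι Q v = ι Q v * (1 - G ζ) := by rw [mul_sub, mul_one, e]; noncomm_ring
      have h2 : (1 - G ζ) * ι Q w = ι Q w * G ζ := (e w).symm
      rw [Commute, SemiconjBy, ← mul_assoc, h1, mul_assoc, h2, mul_assoc]
  obtain ⟨p, q, hpq⟩ := A.even_center_eq hQ ha (map_mem_evenOdd _ 0 A.even) hc
  have hu : IsUnit (ι Q a) := (isUnit_pow_iff two_ne_zero).mp
    (by rw [pow_two, ι_sq_scalar]; exact ha.map _)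
  have hq : q = 1 - 2 * p := by
    have e := A.map_twist hg a
    rw [hpq] at e
    simp only [mul_add, mul_smul_comm, A.twist, mul_one] at e
    have e' : (p • (1 : CliffordAlgebra Q) + q • (1 - ζ)) * ι Q a =
        (1 - (p • 1 + q • ζ)) * ι Q a := by
      rw [← e, add_mul, smul_mul_assoc, smul_mul_assoc, one_mul]
    have h := sub_eq_zero.mpr (hu.mul_right_cancel e')
    have h0 : (2 * p + q - 1) • (1 : CliffordAlgebra Q) = 0 := by
      rw [← h, sub_smul, add_smul, one_smul, two_mul, add_smul, smul_sub]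
      abel
    linear_combination smul_one_eq_zero Q h0
  subst hq
  refine ⟨p, ?_, hpq⟩
  obtain ⟨c, hc', hcu⟩ := A.sq
  have e := congrArg G hc'
  rw [map_mul, map_add, AlgHom.commutes, hpq, Algebra.algebraMap_eq_smul_one] at e
  have hlin : (p * p + (1 - 2 * p) * (1 - 2 * p) * c - p - c) • (1 : CliffordAlgebra Q) +
      (p * (1 - 2 * p) + (1 - 2 * p) * p + (1 - 2 * p) * (1 - 2 * p) - (1 - 2 * p)) • ζ = 0 := by
    rw [add_mul, mul_add, mul_add, smul_mul_smul_comm, smul_mul_smul_comm, smul_mul_smul_comm,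
      smul_mul_smul_comm, one_mul, one_mul, mul_one, hc', Algebra.algebraMap_eq_smul_one] at e
    linear_combination (norm := module) e
  have h0 := (A.indep ha hlin).1
  have : (p * p - p) * (1 + 4 * c) = 0 := by linear_combination h0
  exact sub_eq_zero.mp (hcu.mul_left_eq_zero.mp this)

/-- The scalar by which an isometry acts on `2ζ - 1`, against the top coefficient. -/
theorem map_z_two_pow (hQ : QuadGrp.IsRegular Q) {g : M ≃ₗ[R] M} (hg : g ∈ QuadGrp.O Q) :
    ∃ r : R, map (QuadGrp.isometryOfMem Q g hg) (2 * ζ - 1) = r • (2 * ζ - 1) ∧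
      2 ^ m * r = 2 ^ m * LinearMap.det g.toLinearMap := by
  obtain ⟨r, hr⟩ := A.twisted_eq hQ (A.map_z_anti hg)
  refine ⟨r, hr, ?_⟩
  obtain ⟨I, _, b, L, hL, s, hs, htop⟩ := A.top
  have e := top_map Q b L hL (QuadGrp.isometryOfMem Q g hg) (2 * ζ - 1)
  rw [hr, map_smul, htop, Algebra.smul_def, Algebra.smul_def, ← map_mul, ← map_mul] at e
  have := algebraMap_injective Q e
  rw [show (QuadGrp.isometryOfMem Q g hg).toLinearMap = g.toLinearMap from rfl] at this
  refine hs.mul_left_cancel ?_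
  linear_combination this

end IsArf

end GrothLib.Cliff28
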