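import Groth.Agent.Lib.Cliff28.Universal
import Mathlib.RingTheory.Spectrum.Prime.Topology
import Mathlib.LinearAlgebra.Dimension.Constructions

/-!
# Even rank over any base

`GrothLib.Cliff28`: the determinant of an isometry of a regular form of even rank is `1 - 2p` for
`p` its Dickson idempotent; consequences over an arbitrary ring, by localisation at the primes.
-/

set_option autoImplicit false
set_option linter.unusedSectionVars false

open CliffordAlgebra QuadraticMap TensorProduct GrothLib.QuadHalfDisc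

namespace GrothLib.Cliff28

universe u v

section Lin

variable {A : Type*} [CommRing A] {C : Type*} [Ring C] [Algebra A C]

theorem lin1 (z : C) : (1 : A) • (1 : C) + (1 - 2 * 1 : A) • z - z = (1 : A) • 1 + (-2 : A) • z := by
  module

theorem lin2 (s : A) (z : C) :
    s • ((1 : A) • (1 : C) + (1 - 2 * 1 : A) • z) = algebraMap A C s - s • z := by
  rw [Algebra.algebraMap_eq_smul_one]
  module

theorem lin4 (c e : A) (z : C) :
    2 * (c • 1 + e • z) - algebraMap A C (2 * c + e) = e • (2 * z - 1) := by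
  rw [Algebra.algebraMap_eq_smul_one, two_mul (c • (1 : C) + e • z), two_mul z]
  module

theorem lin5 (c e p : A) (z : C) :
    c • (1 : C) + e • (p • 1 + (1 - 2 * p) • z) - (c • 1 + e • z) =
      (e * p) • 1 + (e * (1 - 2 * p) - e) • z := by
  module

theorem lin6 (c e p : A) (z : C) :
    c • (1 : C) + e • (p • 1 + (1 - 2 * p) • z) - (algebraMap A C (2 * c + e) - (c • 1 + e • z)) =
      (e * p - e) • 1 + (e * (1 - 2 * p) + e) • z := by
  rw [Algebra.algebraMap_eq_smul_one]
  module

theorem twist_sum {N : Type*} [AddCommGroup N] [Module A N] {f : N →ₗ[A] C} {z : C}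
    (h : ∀ v, f v * z = (1 - z) * f v) (c e : A) (v : N) :
    f v * (c • 1 + e • z) + (c • 1 + e • z) * f v = (2 * c + e) • f v := by
  simp only [mul_add, add_mul, mul_smul_comm, smul_mul_assoc, h, sub_mul, one_mul, mul_one]
  module

theorem lin7 (c : A) : (-c) • (1 : C) + (1 : A) • (c • 1) = 0 := by
  module

end Lin

section Local

variable {R : Type u} [CommRing R] [IsLocalRing R] {M : Type v} [AddCommGroup M] [Module R M]
  [Module.Free R M] [Module.Finite R M] {Q : QuadraticForm R M} {m : ℕ} {ζ : CliffordAlgebra Q}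

theorem IsArf.map_z_eq_det (Z : IsArf Q m ζ) (hQ : QuadGrp.IsRegular Q)
    (hM : Module.finrank R M = 2 * m) {g : M ≃ₗ[R] M} (hg : g ∈ QuadGrp.O Q) :
    map (QuadGrp.isometryOfMem Q g hg) (2 * ζ - 1) =
      LinearMap.det g.toLinearMap • (2 * ζ - 1) := by
  classical
  let b := Module.finBasisOfFinrankEq R M hM
  set a := QuadGrp.coeffs b (LinearEquiv.refl R R) Q with ha
  set G := LinearMap.toMatrix b b g.toLinearMap with hG
  have hta : transform a G = a := by
    rw [ha, hG, ← coeffs_comp, show Q.comp g.toLinearMap = Q from QuadraticMap.ext hg]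
  let d : TableRing.{u} (2 * m) := (polarMat fun p => MvPolynomial.X p).det
  have hd : IsUnit (tableEval a d) := by
    rw [RingHom.map_det, RingHom.mapMatrix_apply, QuadTable.polarMat_map]
    simp only [tableEval, MvPolynomial.eval₂Hom_X']
    exact (isRegular_iff_isUnit_det b Q).mp hQ
  obtain ⟨A, _, _, φ, a', G', ψ, h2, hφa, hφG, hdet, ht, -, hψd, hψX⟩ :=
    exists_generic a G false d hd (fun U _ _ hU => QuadCoord.formallySmooth fun B _ _ I hI Gm hGm => by
      refine QuadCoord.lift_of_isUnit_det (a := _) I hI hGm ?_ (fun h => absurd h Bool.false_ne_true)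
      rw [← QuadTable.polarMat_map, ← RingHom.mapMatrix_apply, ← RingHom.map_det]
      exact hU)
      (by rw [hG, LinearMap.det_toMatrix]; exact LinearEquiv.isUnit_det' g) hta
      (fun h => absurd h Bool.false_ne_true)
  let Q' := formOfTable a'
  have hQ' : QuadGrp.IsRegular Q' := by
    rw [isRegular_iff_isUnit_det (Pi.basisFun A (Fin (2 * m))), coeffs_formOfTable]
    rw [RingHom.map_det, RingHom.mapMatrix_apply, QuadTable.polarMat_map] at hψd
    simpa only [hψX] using hψd
  obtain ⟨ζ', Z'⟩ := exists_arf m Q' (by simp) hQ'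
  have hG'u : IsUnit (LinearMap.toMatrix (Pi.basisFun A (Fin (2 * m))) (Pi.basisFun A (Fin (2 * m)))
      (Matrix.toLin' G')).det := by
    rwa [LinearMap.toMatrix_eq_toMatrix', LinearMap.toMatrix'_toLin']
  let g' := LinearEquiv.ofIsUnitDet hG'u
  have hg'l : g'.toLinearMap = Matrix.toLin' G' := LinearMap.ext fun x => rfl
  have hg' : g' ∈ QuadGrp.O Q' := by
    intro v
    have : Q'.comp g'.toLinearMap = Q' := by
      refine QuadCoord.eq_of_coeffs_eq (Pi.basisFun A (Fin (2 * m))) ?_
      rw [coeffs_comp, coeffs_formOfTable, hg'l, LinearMap.toMatrix_eq_toMatrix',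
        LinearMap.toMatrix'_toLin', ht]
    exact QuadraticMap.congr_fun this v
  obtain ⟨r', hr', hr2⟩ := Z'.map_z_two_pow hQ' hg'
  rw [hg'l, LinearMap.det_toLin'] at hr2
  have h2pow : ∀ (k : ℕ) (x : A), 2 ^ k * x = 0 → x = 0 := by
    intro k
    induction k with
    | zero => simp
    | succ k ih => intro x hx; exact ih x (h2 _ (by rw [← hx, pow_succ]; ring))
  have hr'' : r' = G'.det := sub_eq_zero.mp (h2pow m _ (by rw [mul_sub, hr2, sub_self]))
  have hσ := specMap_isometry b Q φ a' hφa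
  set z' := bc Q' Q (specMap b φ) hσ (2 * ζ' - 1) with hz'
  have hanti : ∀ v, ι Q v * z' = -(z' * ι Q v) := by
    refine span_specMap b φ (P := fun v => ι Q v * z' = -(z' * ι Q v)) (by simp) ?_ ?_ ?_
    · intro v w hv hw; rw [map_add, add_mul, mul_add, hv, hw, neg_add]
    · intro c v hv; rw [map_smul, smul_mul_assoc, hv, mul_smul_comm, smul_neg]
    · intro x
      rw [hz', ← bc_ι Q' Q (specMap b φ) hσ, ← map_mul, Z'.z_anti, map_neg, map_mul]
  obtain ⟨t, ht'⟩ := Z.twisted_eq hQ hanti
  obtain ⟨d', hd'u, hd'⟩ := Z'.exists_z_mul_z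
  obtain ⟨d0, hd0u, hd0⟩ := Z.exists_z_mul_z
  have htu : IsUnit t := by
    have : t * t * d0 = φ d' := algebraMap_injective Q <| by
      have e := congrArg (bc Q' Q (specMap b φ) hσ) hd'
      rw [map_mul, ← hz', ht', bc_algebraMap, smul_mul_smul_comm, hd0, Algebra.smul_def, ← map_mul] at e
      exact e
    exact (IsUnit.mul_iff.mp (IsUnit.mul_iff.mp (this ▸ hd'u.map φ)).1).1
  obtain ⟨r, hr, -⟩ := Z.map_z_two_pow hQ hg
  have e1 : map (QuadGrp.isometryOfMem Q g hg) z' = LinearMap.det g.toLinearMap • z' := by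
    rw [hz', ← bc_map Q' Q (specMap b φ) hσ (QuadGrp.isometryOfMem Q' g' hg'), hr', bc_smul, hr'',
      RingHom.map_det, RingHom.mapMatrix_apply, hφG, hG, LinearMap.det_toMatrix]
    intro x
    rw [QuadGrp.isometryOfMem_apply, QuadGrp.isometryOfMem_apply]
    change g.toLinearMap _ = _
    rw [specMap_toLin' b φ g.toLinearMap G' hφG]
    exact congrArg _ (LinearMap.congr_fun hg'l x).symm
  rw [ht', map_smul, hr, smul_smul, smul_smul, mul_comm _ t] at e1
  have h0 : (t * r - t * LinearMap.det g.toLinearMap) • (2 * ζ - 1) = 0 := by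
    rw [sub_smul, e1, sub_self]
  have := smul_eq_zero_of_isUnit Q Z.isUnit_z h0
  rw [hr, htu.mul_left_cancel (sub_eq_zero.mp this)]

/-- The Dickson idempotent of an isometry, over a local ring. -/
theorem IsArf.exists_dickson (Z : IsArf Q m ζ) (hQ : QuadGrp.IsRegular Q) (hm : 1 ≤ m)
    (hM : Module.finrank R M = 2 * m) {g : M ≃ₗ[R] M} (hg : g ∈ QuadGrp.O Q) :
    ∃ p : R, (p = 0 ∨ p = 1) ∧ map (QuadGrp.isometryOfMem Q g hg) ζ = p • 1 + (1 - 2 * p) • ζ ∧
      LinearMap.det g.toLinearMap = 1 - 2 * p := by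
  obtain ⟨a, ha⟩ := exists_isUnit_value hQ (by omega)
  obtain ⟨p, hp, hpe⟩ := Z.exists_map_eq hQ ha hg
  refine ⟨p, ?_, hpe, ?_⟩
  · rcases IsLocalRing.isUnit_or_isUnit_one_sub_self p with h | h
    · exact Or.inr (h.mul_left_cancel (hp.eq.trans (mul_one p).symm))
    · exact Or.inl (h.mul_left_cancel (by rw [sub_mul, one_mul, hp.eq, sub_self, mul_zero]))
  · have e := Z.map_z_eq_det hQ hM hg
    rw [map_sub, map_mul, map_ofNat, map_one, hpe] at e
    have h0 : (1 - 2 * p - LinearMap.det g.toLinearMap) • (2 * ζ - 1) = 0 := by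
      rw [sub_smul, ← e, two_mul ζ, two_mul (p • (1 : CliffordAlgebra Q) + _), sub_eq_zero]
      module
    exact (sub_eq_zero.mp (smul_eq_zero_of_isUnit Q Z.isUnit_z h0)).symm

end Local

section Twist

variable {R : Type u} [CommRing R] {M : Type v} [AddCommGroup M] [Module R M] {Q : QuadraticForm R M}

theorem commute_even_of_twist {s : R} {y : CliffordAlgebra Q}
    (hy : ∀ v, ι Q v * y + y * ι Q v = s • ι Q v) {x : CliffordAlgebra Q}
    (hx : x ∈ evenOdd Q 0) : Commute y x := by
  induction x, hx using even_induction with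
  | algebraMap r => exact Algebra.commute_algebraMap_right r y
  | add a b ha hb iha ihb => exact iha.add_right ihb
  | ι_mul_ι_mul v w z hz ih =>
    refine Commute.mul_right ?_ ih
    have h1 := eq_sub_of_add_eq' (hy v)
    have h2 := eq_sub_of_add_eq (hy w)
    rw [Commute, SemiconjBy, ← mul_assoc, h1, mul_assoc (ι Q v), h2, sub_mul, mul_sub, smul_mul_assoc,
      mul_smul_comm, mul_assoc]

theorem mem_center_even_iff (z : ↥(CliffordAlgebra.even Q)) :
    z ∈ Subalgebra.center R ↥(CliffordAlgebra.even Q) ↔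
      ∀ y ∈ evenOdd Q 0, Commute (z : CliffordAlgebra Q) y := by
  rw [Subalgebra.mem_center_iff]
  refine ⟨fun h y hy => ((congrArg Subtype.val (h ⟨y, hy⟩)).symm : _), fun h y => ?_⟩
  exact Subtype.ext (h y.1 y.2).eq.symm

/-- An element normalising the vectors has intertwining homogeneous parts. -/
theorem exists_conj {u : (CliffordAlgebra Q)ˣ} (hu : u ∈ QuadGrp.GPin' Q) (v : M) :
    ∃ w, ι Q w * (u : CliffordAlgebra Q) = u * ι Q v := by
  have h : (u : CliffordAlgebra Q) * ι Q v * ↑u⁻¹ ∈ LinearMap.range (ι Q) := by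
    have hv : ι Q v ∈ LinearMap.range (ι Q) := ⟨v, rfl⟩
    have := Submodule.smul_mem_pointwise_smul _ (ConjAct.toConjAct u) _ hv
    rw [(QuadGrp.mem_GPin' Q u).mp hu] at this
    simpa [ConjAct.units_smul_def] using this
  obtain ⟨w, hw⟩ := h
  exact ⟨w, by rw [hw, mul_assoc, Units.inv_mul, mul_one]⟩

end Twist

section BaseChange

variable {R : Type u} [CommRing R] {M : Type v} [AddCommGroup M] [Module R M] [Module.Free R M]
  [Module.Finite R M] (A : Type u) [CommRing A] [Algebra R A] (Q : QuadraticForm R M)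

theorem coeffs_baseChange {n : ℕ} (b : Module.Basis (Fin n) R M) :
    QuadGrp.coeffs (b.baseChange A) (LinearEquiv.refl A A) (QuadGrp.baseChangeForm A Q) =
      fun p => algebraMap R A (QuadGrp.coeffs b (LinearEquiv.refl R R) Q p) := by
  funext p
  induction p using Sym2.ind with
  | _ i j =>
    simp only [QuadGrp.coeffs_mk, LinearEquiv.refl_apply, Module.Basis.baseChange_apply,
      ← unitσ_apply, baseChangeForm_unitσ, polar_unitσ]
    split_ifs <;> rfl

theorem isRegular_baseChange (hQ : QuadGrp.IsRegular Q) :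
    QuadGrp.IsRegular (QuadGrp.baseChangeForm A Q) := by
  let b := (Module.Free.chooseBasis R M).reindex (Fintype.equivFin _)
  rw [isRegular_iff_isUnit_det (b.baseChange A), coeffs_baseChange, ← QuadTable.polarMat_map,
    ← RingHom.mapMatrix_apply, ← RingHom.map_det]
  exact ((isRegular_iff_isUnit_det b Q).mp hQ).map _

variable {Q}

theorem baseChange_mem_O {g : M ≃ₗ[R] M} (hg : g ∈ QuadGrp.O Q) :
    LinearEquiv.baseChange R A M M g ∈ QuadGrp.O (QuadGrp.baseChangeForm A Q) := by
  intro v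
  have : (QuadGrp.baseChangeForm A Q).comp (LinearEquiv.baseChange R A M M g).toLinearMap =
      QuadGrp.baseChangeForm A Q := by
    refine QuadCoord.eq_of_coeffs_eq (((Module.Free.chooseBasis R M).reindex (Fintype.equivFin _)).baseChange A) (funext fun p => ?_)
    induction p using Sym2.ind with
    | _ i j =>
      have hgu : ∀ w, LinearEquiv.baseChange R A M M g (unitσ A w) = unitσ A (g w) := fun w => by
        simp [unitσ_apply]
      have hg' := (QuadGrp.mem_O Q g).mp hg
      simp only [QuadGrp.coeffs_mk, LinearEquiv.refl_apply, QuadraticMap.comp_apply,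
        Module.Basis.baseChange_apply, LinearEquiv.coe_coe, polar, ← unitσ_apply, ← map_add, hgu,
        baseChangeForm_unitσ, hg']
  exact QuadraticMap.congr_fun this v

theorem bcA_map {g : M ≃ₗ[R] M} (hg : g ∈ QuadGrp.O Q) (x : CliffordAlgebra Q) :
    bcA A Q (map (QuadGrp.isometryOfMem Q g hg) x) =
      map (QuadGrp.isometryOfMem _ _ (baseChange_mem_O A hg)) (bcA A Q x) :=
  bc_map _ _ _ _ _ _ (fun v => by
    simp [QuadGrp.isometryOfMem_apply, unitσ_apply, LinearEquiv.baseChange_tmul]) x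

theorem det_baseChange (g : M ≃ₗ[R] M) :
    LinearMap.det (LinearEquiv.baseChange R A M M g).toLinearMap =
      algebraMap R A (LinearMap.det g.toLinearMap) := by
  rw [← LinearMap.det_baseChange]
  rfl

theorem bcA_twist {s : R} {y : CliffordAlgebra Q} (hy : ∀ v, ι Q v * y + y * ι Q v = s • ι Q v)
    (w : A ⊗[R] M) :
    ι _ w * bcA A Q y + bcA A Q y * ι _ w = algebraMap R A s • ι _ w := by
  induction w using TensorProduct.induction_on with
  | zero => simp
  | tmul a m =>
    rw [show a ⊗ₜ[R] m = a • unitσ A m by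
        rw [unitσ_apply, TensorProduct.smul_tmul', smul_eq_mul, mul_one],
      map_smul, smul_mul_assoc, mul_smul_comm, ← smul_add, ← bc_ι Q _ (unitσ A) (baseChangeForm_unitσ A Q),
      ← map_mul, ← map_mul, ← map_add, hy, bc_smul, smul_comm]
  | add v w hv hw =>
    rw [map_add, add_mul, mul_add, smul_add, ← hv, ← hw]
    abel

theorem bcA_center {x : CliffordAlgebra Q} (hx : ∀ y ∈ evenOdd Q 0, Commute x y)
    {y : CliffordAlgebra (QuadGrp.baseChangeForm A Q)}
    (hy : y ∈ evenOdd (QuadGrp.baseChangeForm A Q) 0) : Commute (bcA A Q x) y := by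
  refine commute_even_of_unitσ A Q (fun v w => ?_) hy
  rw [← bc_ι Q _ (unitσ A) (baseChangeForm_unitσ A Q), ← bc_ι Q _ (unitσ A) (baseChangeForm_unitσ A Q),
    ← map_mul]
  exact (hx _ (ι_mul_ι_mem_evenOdd_zero Q v w)).map _

end BaseChange

section Global

variable {R : Type u} [CommRing R] {M : Type v} [AddCommGroup M] [Module R M] [Module.Free R M]
  [Module.Finite R M] {Q : QuadraticForm R M} {m : ℕ}

theorem eq_of_localizations {r s : R}
    (h : ∀ (P : Ideal R) [P.IsPrime],
      algebraMap R (Localization.AtPrime P) r = algebraMap R (Localization.AtPrime P) s) : r = s := by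
  refine sub_eq_zero.mp (algebraMap_injective (0 : QuadraticForm R (Fin 1 → R))
    ((eq_zero_of_localizations _ fun P _ => ?_).trans (map_zero _).symm))
  rw [bc_algebraMap, map_sub, h P, sub_self, map_zero]

theorem centre_scalar (hQ : QuadGrp.IsRegular Q) (hM : Module.finrank R M = 2 * m)
    {x : CliffordAlgebra Q} (hx : ∀ v, ι Q v * x = x * ι Q v) : ∃ r, x = algebraMap R _ r := by
  obtain ⟨x0, h0, x1, h1, rfl⟩ := exists_even_add_odd Q x
  have hs := fun v => parity_commute h0 h1 (hx v)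
  obtain ⟨r, hr⟩ := scalar_of_contract_polar hQ fun v => contractLeft_eq_zero_of_even Q h0 (hs v).1
  refine ⟨r, ?_⟩
  rw [hr, add_eq_left]
  refine eq_zero_of_localizations Q fun P _ => ?_
  haveI : Nontrivial R := (algebraMap R (Localization.AtPrime P)).domain_nontrivial
  have hQP := isRegular_baseChange (Localization.AtPrime P) Q hQ
  obtain ⟨ζ, Z⟩ := exists_arf m _ (by rw [Module.finrank_baseChange, hM]) hQP
  obtain ⟨s, hs'⟩ := Z.scalar_of_commute hQP (x := bcA _ Q x1) fun w => by
    rw [commute_ι_of_unitσ (Localization.AtPrime P) Q 1 (fun v => ?_) w, one_smul]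
    have e : bcA (Localization.AtPrime P) Q (ι Q v) = _ := bc_ι Q _ _ _ v
    rw [one_smul, ← e, ← map_mul, ← map_mul, (hs v).2]
  have h1' := bc_mem_evenOdd Q _ (unitσ (Localization.AtPrime P)) (baseChangeForm_unitσ _ Q) 1 h1
  change bcA _ Q x1 ∈ _ at h1'
  rw [hs'] at h1'
  rw [hs', algebraMap_mem_odd _ h1', map_zero]

theorem isLocHomog_of_mem (hQ : QuadGrp.IsRegular Q) (hM : Module.finrank R M = 2 * m)
    {u : (CliffordAlgebra Q)ˣ} (hu : u ∈ QuadGrp.GPin' Q) :
    QuadGrp.IsLocHomog Q (u : CliffordAlgebra Q) := by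
  obtain ⟨u0, h0, u1, h1, hu01⟩ := exists_even_add_odd Q (u : CliffordAlgebra Q)
  obtain ⟨a, ha⟩ := centre_scalar hQ hM (x := (↑u⁻¹ : CliffordAlgebra Q) * u0) fun v => by
    obtain ⟨w, hw⟩ := exists_conj hu v
    have hw0 : ι Q w * u0 = u0 * ι Q v := by
      have e := hw
      rw [hu01, mul_add, add_mul, add_comm, add_comm (u0 * ι Q v)] at e
      have h11 : (1 : ZMod 2) + 1 = 0 := rfl
      exact (even_odd_unique Q (h11 ▸ SetLike.mul_mem_graded (ι_mem_evenOdd_one Q w) h1)
        (by simpa using SetLike.mul_mem_graded (ι_mem_evenOdd_one Q w) h0)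
        (h11 ▸ SetLike.mul_mem_graded h1 (ι_mem_evenOdd_one Q v))
        (by simpa using SetLike.mul_mem_graded h0 (ι_mem_evenOdd_one Q v)) e).2
    have hw' : ι Q v * (↑u⁻¹ : CliffordAlgebra Q) = ↑u⁻¹ * ι Q w := by
      rw [← Units.mul_left_inj u, mul_assoc, Units.inv_mul, mul_one, mul_assoc, hw, ← mul_assoc,
        Units.inv_mul, one_mul]
    rw [← mul_assoc, hw', mul_assoc, hw0, mul_assoc]
  have hau : u0 = a • (u : CliffordAlgebra Q) := by
    rw [Algebra.smul_def, Algebra.commutes, ← ha, ← mul_assoc, Units.mul_inv, one_mul]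
  have hbu : u1 = (1 - a) • (u : CliffordAlgebra Q) := by
    rw [sub_smul, one_smul, ← hau, hu01, add_sub_cancel_left]
  have ha1 : a • u1 = 0 := by
    have e : u0 = a • u0 + a • u1 := by rw [← smul_add, ← hu01, hau]
    exact (even_odd_unique Q h0 (zero_mem _) (Submodule.smul_mem _ a h0) (Submodule.smul_mem _ a h1)
      (by rw [add_zero]; exact e)).2.symm
  rw [hbu, smul_smul, mul_sub, mul_one] at ha1
  exact ⟨a, (sub_eq_zero.mp (smul_eq_zero_of_isUnit Q u.isUnit ha1)).symm, hau ▸ h0, hbu ▸ h1⟩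

theorem exists_twist_lift (hQ : QuadGrp.IsRegular Q) (hM : Module.finrank R M = 2 * m)
    (P : Ideal R) [P.IsPrime] :
    ∃ (S δ : R) (y : CliffordAlgebra Q)
      (ζ : CliffordAlgebra (QuadGrp.baseChangeForm (Localization.AtPrime P) Q)),
      IsArf _ m ζ ∧ bcA _ Q y = algebraMap R (Localization.AtPrime P) S • ζ ∧ S ∉ P ∧ δ ∉ P ∧
        y ∈ evenOdd Q 0 ∧ (∀ v, ι Q v * y + y * ι Q v = S • ι Q v) ∧
        (2 * y - algebraMap R _ S) * (2 * y - algebraMap R _ S) = algebraMap R _ δ := by
  classical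
  set A := Localization.AtPrime P with hA
  haveI : Nontrivial R := (algebraMap R A).domain_nontrivial
  obtain ⟨ζ, Z⟩ := exists_arf m _ (by rw [Module.finrank_baseChange, hM])
    (isRegular_baseChange A Q hQ)
  obtain ⟨s, hs, y', hy'⟩ := exists_bcA_eq Q P ζ
  obtain ⟨y, hye, y1, hy1, rfl⟩ := exists_even_add_odd Q y'
  have hyz : bcA A Q y = algebraMap R A s • ζ := by
    rw [map_add] at hy'
    exact (even_odd_unique _ (Submodule.smul_mem _ _ Z.even) (zero_mem _) (bc_mem_evenOdd _ _ _ _ 0 hye)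
      (bc_mem_evenOdd _ _ _ _ 1 hy1) (by rw [add_zero]; exact hy')).1.symm
  obtain ⟨d, hdu, hd⟩ := Z.exists_z_mul_z
  obtain ⟨⟨δ0, ⟨s0, hs0⟩⟩, hδ⟩ := IsLocalization.surj P.primeCompl d
  have hδ' : d * algebraMap R A s0 = algebraMap R A δ0 := hδ
  have hδ0 : δ0 ∉ P := fun h => by
    have hu : IsUnit (algebraMap R A δ0) := hδ' ▸ hdu.mul (IsLocalization.map_units A ⟨s0, hs0⟩)
    exact (IsLocalization.AtPrime.isUnit_to_map_iff A P δ0).mp hu h
  let b := Module.finBasis R M
  have hlin : ∀ i, ∃ t ∉ P, t • (ι Q (b i) * y + y * ι Q (b i) - s • ι Q (b i)) = 0 := fun i => by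
    refine exists_smul_eq_zero Q P ?_
    rw [map_sub, map_add, map_mul, map_mul, bc_ι, bc_smul, bc_ι, hyz, mul_smul_comm, smul_mul_assoc,
      ← smul_add, Z.twist, ← add_mul, sub_add_cancel, one_mul, sub_self]
  choose t ht htz using hlin
  obtain ⟨t0, ht0, htz0⟩ := exists_smul_eq_zero Q P
    (x := s0 • ((2 * y - algebraMap R _ s) * (2 * y - algebraMap R _ s)) -
      algebraMap R _ (s * s * δ0)) (by
    have e : 2 * bcA A Q y - algebraMap A (CliffordAlgebra (QuadGrp.baseChangeForm A Q))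
        (algebraMap R A s) = algebraMap R A s • (2 * ζ - 1) := by
      rw [hyz, mul_smul_comm, smul_sub, ← Algebra.algebraMap_eq_smul_one]
    rw [map_sub, bc_smul, map_mul, map_sub, map_mul, map_ofNat, bc_algebraMap, bc_algebraMap, e,
      smul_mul_smul_comm, hd, Algebra.smul_def (algebraMap R A s * algebraMap R A s),
      Algebra.smul_def, ← map_mul, ← map_mul, sub_eq_zero]
    congr 1
    rw [map_mul, map_mul, ← hδ']
    ring)
  set T := t0 * ∏ i, t i with hT
  have hTP : T ∉ P := by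
    intro h
    rcases ‹P.IsPrime›.mem_or_mem h with h | h
    · exact ht0 h
    · obtain ⟨i, -, hi⟩ := (Ideal.IsPrime.prod_mem_iff).mp h
      exact ht i hi
  have hk : T * s0 ∉ P := fun h => (‹P.IsPrime›.mem_or_mem h).elim hTP hs0
  refine ⟨T * s0 * s, T * T * s0 * (s * s * δ0), (T * s0) • y, ζ, Z, ?_, ?_, ?_,
    Submodule.smul_mem _ _ hye, fun v => ?_, ?_⟩
  · rw [bc_smul, hyz, smul_smul, ← map_mul]
  · exact fun h => (‹P.IsPrime›.mem_or_mem h).elim hk hs
  · intro h
    rcases ‹P.IsPrime›.mem_or_mem h with h | h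
    · rcases ‹P.IsPrime›.mem_or_mem h with h | h
      · exact (‹P.IsPrime›.mem_or_mem h).elim hTP hTP
      · exact hs0 h
    · rcases ‹P.IsPrime›.mem_or_mem h with h | h
      · exact (‹P.IsPrime›.mem_or_mem h).elim hs hs
      · exact hδ0 h
  · have hi : ∀ i, T • (ι Q (b i) * y + y * ι Q (b i) - s • ι Q (b i)) = 0 := fun i => by
      rw [hT, ← Finset.mul_prod_erase Finset.univ t (Finset.mem_univ i), ← mul_assoc, mul_comm t0,
        mul_assoc, mul_comm (t i), mul_smul, htz, smul_zero]
    have hT' : T • (ι Q v * y + y * ι Q v - s • ι Q v) = 0 := by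
      have : T • ((LinearMap.mulRight R y).comp (ι Q) + (LinearMap.mulLeft R y).comp (ι Q) - s • ι Q) = 0 :=
        b.ext fun i => by simpa using hi i
      simpa using LinearMap.congr_fun this v
    rw [← sub_eq_zero]
    calc ι Q v * ((T * s0) • y) + (T * s0) • y * ι Q v - (T * s0 * s) • ι Q v
        = s0 • (T • (ι Q v * y + y * ι Q v - s • ι Q v)) := by
          rw [mul_smul_comm, smul_mul_assoc, smul_smul, smul_sub, smul_add, smul_smul]; module
      _ = 0 := by rw [hT', smul_zero]
  · have hT0 : T • (s0 • ((2 * y - algebraMap R _ s) * (2 * y - algebraMap R _ s)) -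
        algebraMap R _ (s * s * δ0)) = 0 := by
      rw [hT, mul_comm, mul_smul, htz0, smul_zero]
    have e : 2 * ((T * s0) • y) - algebraMap R _ (T * s0 * s) =
        (T * s0) • (2 * y - algebraMap R (CliffordAlgebra Q) s) := by
      rw [smul_sub, mul_smul_comm, Algebra.smul_def, Algebra.smul_def, ← map_mul]
    rw [smul_sub, sub_eq_zero, Algebra.smul_def T (algebraMap R _ _), ← map_mul] at hT0
    rw [e, smul_mul_smul_comm, show T * s0 * (T * s0) = T * s0 * (T * s0) from rfl,
      show T * s0 * (T * s0) = (T * s0) * T * s0 by ring, mul_smul, mul_smul, hT0, Algebra.smul_def,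
      ← map_mul]
    congr 1
    ring

variable (Q) in
/-- The primes over which an isometry fixes the centre of the even part. -/
def dicksonLocus (g : M ≃ₗ[R] M) (hg : g ∈ QuadGrp.O Q) : Set (PrimeSpectrum R) :=
  {P | ∀ x ∈ evenOdd Q 0, (∀ y ∈ evenOdd Q 0, Commute x y) →
    bcA (Localization.AtPrime P.asIdeal) Q (map (QuadGrp.isometryOfMem Q g hg) x) =
      bcA (Localization.AtPrime P.asIdeal) Q x}

theorem mem_dicksonLocus_cases (hQ : QuadGrp.IsRegular Q) (hm : 1 ≤ m)
    (hM : Module.finrank R M = 2 * m) {g : M ≃ₗ[R] M} (hg : g ∈ QuadGrp.O Q)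
    (P : PrimeSpectrum R) :
    (P ∈ dicksonLocus Q g hg ∧
        algebraMap R (Localization.AtPrime P.asIdeal) (LinearMap.det g.toLinearMap) = 1) ∨
    (P ∉ dicksonLocus Q g hg ∧
        algebraMap R (Localization.AtPrime P.asIdeal) (LinearMap.det g.toLinearMap) = -1) := by
  set A := Localization.AtPrime P.asIdeal with hA
  haveI : Nontrivial R := (algebraMap R A).domain_nontrivial
  have hQP := isRegular_baseChange A Q hQ
  have hMP : Module.finrank A (A ⊗[R] M) = 2 * m := by rw [Module.finrank_baseChange, hM]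
  obtain ⟨S, δ, y, ζ, Z, hy, hS, -, hye, hytw, -⟩ := exists_twist_lift hQ hM P.asIdeal
  obtain ⟨p, hp, hpe, hdet⟩ := Z.exists_dickson hQP hm hMP (baseChange_mem_O A hg)
  rw [det_baseChange] at hdet
  obtain ⟨a, ha⟩ := exists_isUnit_value hQP (by omega)
  rcases hp with rfl | rfl
  · refine Or.inl ⟨fun x hx hxc => ?_, by rw [hdet]; ring⟩
    obtain ⟨c, d, hcd⟩ := Z.even_center_eq hQP ha (bc_mem_evenOdd _ _ _ _ 0 hx)
      (fun z hz => bcA_center A hxc hz)
    rw [bcA_map A hg, hcd, map_add, map_smul, map_smul, map_one, hpe]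
    simp
  · refine Or.inr ⟨fun h => ?_, by rw [hdet]; ring⟩
    have e := h y hye (fun z hz => commute_even_of_twist hytw hz)
    rw [bcA_map A hg, hy, map_smul, hpe, ← sub_eq_zero, ← smul_sub] at e
    have hu : IsUnit (algebraMap R A S) := IsLocalization.map_units A (⟨S, hS⟩ : P.asIdeal.primeCompl)
    rw [hu.smul_eq_zero] at e
    have e' : (1 : A) • (1 : CliffordAlgebra (QuadGrp.baseChangeForm A Q)) + (-2 : A) • ζ = 0 :=
      (lin1 ζ).symm.trans e
    exact one_ne_zero (Z.indep ha e').1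

theorem det_eq_one_of_dickson (hQ : QuadGrp.IsRegular Q) (hm : 1 ≤ m)
    (hM : Module.finrank R M = 2 * m) {g : M ≃ₗ[R] M} (hg : g ∈ QuadGrp.O Q)
    (hD : QuadGrp.IsDicksonTrivial Q g hg) : LinearMap.det g.toLinearMap = 1 := by
  refine eq_of_localizations fun P _ => ?_
  rw [map_one]
  rcases mem_dicksonLocus_cases hQ hm hM hg ⟨P, inferInstance⟩ with h | h
  · exact h.2
  · refine absurd (fun x hx hxc => ?_) h.1
    rw [hD ⟨x, hx⟩ ((mem_center_even_iff _).mpr hxc)]

theorem isDicksonTrivial_of_forall {g : M ≃ₗ[R] M} (hg : g ∈ QuadGrp.O Q)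
    (h : ∀ P, P ∈ dicksonLocus Q g hg) : QuadGrp.IsDicksonTrivial Q g hg := fun z hz => by
  refine sub_eq_zero.mp (eq_zero_of_localizations Q fun P _ => ?_)
  rw [map_sub, h ⟨P, inferInstance⟩ z.1 z.2 ((mem_center_even_iff z).mp hz), sub_self]

theorem isClopen_dicksonLocus (hQ : QuadGrp.IsRegular Q) (hm : 1 ≤ m)
    (hM : Module.finrank R M = 2 * m) {g : M ≃ₗ[R] M} (hg : g ∈ QuadGrp.O Q) :
    IsClopen (dicksonLocus Q g hg) := by
  suffices ∀ P : PrimeSpectrum R, ∃ U, IsOpen U ∧ P ∈ U ∧
      ∀ P' ∈ U, (P' ∈ dicksonLocus Q g hg ↔ P ∈ dicksonLocus Q g hg) by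
    refine ⟨⟨isOpen_iff_forall_mem_open.mpr fun P hP => ?_⟩, isOpen_iff_forall_mem_open.mpr fun P hP => ?_⟩
    · obtain ⟨U, hU, hPU, h⟩ := this P
      exact ⟨U, fun P' hP' hin => hP ((h P' hP').mp hin), hU, hPU⟩
    · obtain ⟨U, hU, hPU, h⟩ := this P
      exact ⟨U, fun P' hP' => (h P' hP').mpr hP, hU, hPU⟩
  intro P
  set A := Localization.AtPrime P.asIdeal with hA
  haveI : Nontrivial R := (algebraMap R A).domain_nontrivial
  have hQP := isRegular_baseChange A Q hQ
  have hMP : Module.finrank A (A ⊗[R] M) = 2 * m := by rw [Module.finrank_baseChange, hM]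
  obtain ⟨S, δ, y, ζ, Z, hy, hS, hδ, hye, hytw, hysq⟩ := exists_twist_lift hQ hM P.asIdeal
  set G := map (QuadGrp.isometryOfMem Q g hg) with hG
  obtain ⟨p, hp, hpe, hdet⟩ := Z.exists_dickson hQP hm hMP (baseChange_mem_O A hg)
  -- a global form of the action
  obtain ⟨t, ht, htz⟩ : ∃ t ∉ P.asIdeal, (p = 0 ∧ t • (G y - y) = 0) ∨
      (p = 1 ∧ t • (G y - (algebraMap R _ S - y)) = 0) := by
    rcases hp with rfl | rfl
    · obtain ⟨t, ht, h⟩ := exists_smul_eq_zero Q P.asIdeal (x := G y - y) (by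
        rw [map_sub, hG, bcA_map A hg, hy, map_smul, hpe]; simp)
      exact ⟨t, ht, Or.inl ⟨rfl, h⟩⟩
    · obtain ⟨t, ht, h⟩ := exists_smul_eq_zero Q P.asIdeal (x := G y - (algebraMap R _ S - y)) (by
        rw [map_sub, map_sub, hG, bcA_map A hg, hy, bc_algebraMap, map_smul, hpe, lin2, sub_self])
      exact ⟨t, ht, Or.inr ⟨rfl, h⟩⟩
  refine ⟨(PrimeSpectrum.basicOpen (S * δ * t) : Set (PrimeSpectrum R)),
    (PrimeSpectrum.basicOpen _).isOpen, ?_, fun P' hP' => ?_⟩
  · exact fun h => (P.isPrime.mem_or_mem h).elim (fun h => (P.isPrime.mem_or_mem h).elim hS hδ) ht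
  · set A' := Localization.AtPrime P'.asIdeal with hA'
    have hQP' := isRegular_baseChange A' Q hQ
    have hMP' : Module.finrank A' (A' ⊗[R] M) = 2 * m := by rw [Module.finrank_baseChange, hM]
    obtain ⟨ζ', Z'⟩ := exists_arf m _ hMP' hQP'
    obtain ⟨p', hp', hpe', hdet'⟩ := Z'.exists_dickson hQP' hm hMP' (baseChange_mem_O A' hg)
    have hnS : S ∉ P'.asIdeal := fun h => hP' (Ideal.mul_mem_right _ _ (Ideal.mul_mem_right _ _ h))
    have hnδ : δ ∉ P'.asIdeal := fun h => hP' (Ideal.mul_mem_right _ _ (Ideal.mul_mem_left _ _ h))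
    have hnt : t ∉ P'.asIdeal := fun h => hP' (Ideal.mul_mem_left _ _ h)
    obtain ⟨a, ha⟩ := exists_isUnit_value hQP' (by omega)
    obtain ⟨c, e, hce⟩ := Z'.even_center_eq hQP' ha (bc_mem_evenOdd _ _ _ _ 0 hye)
      (fun z hz => bcA_center A' (fun w hw => commute_even_of_twist hytw hw) hz)
    -- the twist forces `2c + e = S`, and the square forces `e` to be a unit
    have hsum : 2 * c + e = algebraMap R A' S := by
      have h := bcA_twist A' hytw a
      have hu : IsUnit (ι (QuadGrp.baseChangeForm A' Q) a) := (isUnit_pow_iff two_ne_zero).mp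
        (by rw [pow_two, ι_sq_scalar]; exact ha.map _)
      rw [hce, twist_sum Z'.twist c e a] at h
      refine sub_eq_zero.mp (smul_eq_zero_of_isUnit _ hu ?_)
      rw [sub_smul, h, sub_self]
    have he : IsUnit e := by
      obtain ⟨d', hd', hdz⟩ := Z'.exists_z_mul_z
      have h := congrArg (bcA A' Q) hysq
      have e1 : 2 * bcA A' Q y - algebraMap A' (CliffordAlgebra (QuadGrp.baseChangeForm A' Q))
          (algebraMap R A' S) = e • (2 * ζ' - 1) := by
        rw [hce, ← hsum, lin4]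
      rw [map_mul, map_sub, map_mul, map_ofNat, bc_algebraMap, bc_algebraMap, e1,
        smul_mul_smul_comm, hdz, Algebra.smul_def, ← map_mul] at h
      have h' := algebraMap_injective _ h
      have hu : IsUnit (algebraMap R A' δ) := IsLocalization.map_units A' (⟨δ, hnδ⟩ : P'.asIdeal.primeCompl)
      exact (IsUnit.mul_iff.mp (IsUnit.mul_iff.mp (h' ▸ hu)).1).1
    have htu : IsUnit (algebraMap R A' t) := IsLocalization.map_units A' (⟨t, hnt⟩ : P'.asIdeal.primeCompl)
    -- the values of the idempotents agree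
    have key : (p = 0 → p' = 0) ∧ (p = 1 → p' = 1) := by
      constructor <;> intro hp1
      · rcases htz with ⟨-, h⟩ | ⟨h1, -⟩
        · have h' := congrArg (bcA A' Q) h
          rw [bc_smul, map_zero, htu.smul_eq_zero, map_sub, hG, bcA_map A' hg, hce, map_add, map_smul,
            map_smul, map_one, hpe'] at h'
          have h0 := (lin5 c e p' ζ').symm.trans h' 
          exact he.mul_right_eq_zero.mp (Z'.indep ha h0).1
        · exact absurd (hp1.symm.trans h1) zero_ne_one
      · rcases htz with ⟨h1, -⟩ | ⟨-, h⟩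
        · exact absurd (h1.symm.trans hp1) zero_ne_one
        · have h' := congrArg (bcA A' Q) h
          rw [bc_smul, map_zero, htu.smul_eq_zero, map_sub, map_sub, bc_algebraMap, hG, bcA_map A' hg,
            hce, map_add, map_smul, map_smul, map_one, hpe', ← hsum] at h'
          have h0 := (lin6 c e p' ζ').symm.trans h' 
          exact he.mul_left_cancel ((sub_eq_zero.mp (Z'.indep ha h0).1).trans (mul_one e).symm)
    have hloc : ∀ (P₀ : PrimeSpectrum R)
        (ζ₀ : CliffordAlgebra (QuadGrp.baseChangeForm (Localization.AtPrime P₀.asIdeal) Q))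
        (_ : IsArf _ m ζ₀) (p₀ : Localization.AtPrime P₀.asIdeal),
        (p₀ = 0 ∨ p₀ = 1) →
        map (QuadGrp.isometryOfMem _ _ (baseChange_mem_O _ hg)) ζ₀ = p₀ • 1 + (1 - 2 * p₀) • ζ₀ →
        (P₀ ∈ dicksonLocus Q g hg ↔ p₀ = 0) := by
      intro P₀ ζ₀ Z₀ p₀ hp₀ hpe₀
      let A₀ := Localization.AtPrime P₀.asIdeal
      have hQ₀ := isRegular_baseChange A₀ Q hQ
      obtain ⟨a₀, ha₀⟩ := exists_isUnit_value hQ₀ (by rw [Module.finrank_baseChange, hM]; omega)
      constructor
      · intro hin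
        obtain ⟨S₀, δ₀, y₀, ζ₁, Z₁, hy₀, hS₀, -, hye₀, hytw₀, -⟩ := exists_twist_lift hQ hM P₀.asIdeal
        have h1 := hin y₀ hye₀ (fun z hz => commute_even_of_twist hytw₀ hz)
        rw [bcA_map A₀ hg, hy₀, map_smul,
          (IsLocalization.map_units A₀ (⟨S₀, hS₀⟩ : P₀.asIdeal.primeCompl)).smul_left_cancel] at h1
        -- express `ζ₁` in terms of `ζ₀`
        obtain ⟨c₀, e₀, hce₀⟩ := Z₀.even_center_eq hQ₀ ha₀ Z₁.even
          (fun z hz => Z₁.commute_even hz)
        have h2 := h1
        rw [hce₀, map_add, map_smul, map_smul, map_one, hpe₀] at h2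
        have h0 := (lin5 c₀ e₀ p₀ ζ₀).symm.trans (sub_eq_zero.mpr h2)
        have he0 := (Z₀.indep ha₀ h0).1
        rcases hp₀ with hp₀ | hp₀
        · exact hp₀
        · subst hp₀
          rw [mul_one] at he0
          -- `ζ₁` would be a scalar
          rw [he0, zero_smul, add_zero] at hce₀
          have hh : (-c₀) • (1 : CliffordAlgebra (QuadGrp.baseChangeForm A₀ Q)) + (1 : A₀) • ζ₁ = 0 := by
            rw [hce₀]; exact lin7 c₀
          exact absurd (Z₁.indep ha₀ hh).2 one_ne_zero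
      · intro h0 x hx hxc
        obtain ⟨c₀, d₀, hcd⟩ := Z₀.even_center_eq hQ₀ ha₀ (bc_mem_evenOdd _ _ _ _ 0 hx)
          (fun z hz => bcA_center A₀ hxc hz)
        rw [bcA_map A₀ hg, hcd, map_add, map_smul, map_smul, map_one, hpe₀, h0]
        simp
    rw [hloc P' ζ' Z' p' hp' hpe', hloc P ζ Z p hp hpe]
    rcases hp with hp | hp
    · exact iff_of_true (key.1 hp) hp
    · exact iff_of_false (fun h => one_ne_zero ((key.2 hp).symm.trans h))
        (fun h => one_ne_zero (hp.symm.trans h))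

end Global

end GrothLib.Cliff28
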