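import Groth.Agent.Lib.Cliff28.EvenGlobal

/-!
# The Dickson condition over a local ring and reflections
-/

set_option autoImplicit false
set_option linter.unusedSectionVars false

open CliffordAlgebra QuadraticMap

namespace GrothLib.Cliff28

universe u v

variable {R : Type u} [CommRing R] {M : Type v} [AddCommGroup M] [Module R M] {Q : QuadraticForm R M}

/-- The reflection in a vector of unit value. -/
noncomputable def reflect (a : M) (e : Rˣ) (he : (e : R) = Q a) : M ≃ₗ[R] M :=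
  LinearEquiv.ofInvolutive
    (LinearMap.id - (((↑e⁻¹ : R) • Q.polarBilin a).smulRight a))
    (fun v => by
      simp only [LinearMap.sub_apply, LinearMap.id_apply, LinearMap.smulRight_apply,
        LinearMap.smul_apply, polarBilin_apply_apply, smul_eq_mul, polar_sub_right, polar_smul_right,
        polar_self, ← he]
      have hu : (↑e⁻¹ : R) * (2 • (e : R)) = 2 := by rw [mul_smul_comm, Units.inv_mul, nsmul_one, Nat.cast_ofNat]
      rw [mul_sub, ← mul_assoc, mul_comm (↑e⁻¹ : R) ((↑e⁻¹ : R) * _), mul_assoc, hu]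
      module)

theorem reflect_apply (a : M) (e : Rˣ) (he : (e : R) = Q a) (v : M) :
    reflect a e he v = v - ((↑e⁻¹ : R) * polar Q a v) • a := rfl

theorem reflect_mem_O (a : M) (e : Rˣ) (he : (e : R) = Q a) : reflect a e he ∈ QuadGrp.O Q := by
  intro v
  rw [reflect_apply, sub_eq_add_neg, ← neg_smul, QuadraticMap.map_add Q, QuadraticMap.map_smul,
    polar_smul_right, polar_comm Q v a, ← he, smul_eq_mul, smul_eq_mul]
  linear_combination ((↑e⁻¹ : R) * polar Q a v * polar Q a v) * Units.inv_mul e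

theorem map_reflect (a : M) (e : Rˣ) (he : (e : R) = Q a) (y : CliffordAlgebra Q) :
    map (QuadGrp.isometryOfMem Q _ (reflect_mem_O a e he)) y =
      ι Q a * involute y * ((↑e⁻¹ : R) • ι Q a) := by
  have h1 : ι Q a * ((↑e⁻¹ : R) • ι Q a) = 1 := by
    rw [mul_smul_comm, ι_sq_scalar, ← he, Algebra.smul_def, ← map_mul, Units.inv_mul, map_one]
  have h2 : ((↑e⁻¹ : R) • ι Q a) * ι Q a = 1 := by
    rw [smul_mul_assoc, ι_sq_scalar, ← he, Algebra.smul_def, ← map_mul, Units.inv_mul, map_one]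
  induction y using CliffordAlgebra.induction with
  | algebraMap r => rw [AlgHom.commutes, AlgHom.commutes, ← Algebra.commutes, mul_assoc, h1, mul_one]
  | ι v =>
    rw [map_apply_ι, involute_ι, QuadGrp.isometryOfMem_apply, reflect_apply, map_sub, map_smul,
      mul_neg, ι_mul_ι_comm, neg_sub, sub_mul, mul_assoc, h1, mul_one, ← Algebra.smul_def, smul_smul,
      mul_comm (↑e⁻¹ : R)]
  | mul x y hx hy =>
    rw [map_mul, hx, hy, map_mul]
    calc _ = ι Q a * involute x * (((↑e⁻¹ : R) • ι Q a) * ι Q a) * involute y * ((↑e⁻¹ : R) • ι Q a) := by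
          simp only [mul_assoc]
      _ = _ := by rw [h2, mul_one]; simp only [mul_assoc]
  | add x y hx hy => rw [map_add, hx, hy, map_add, mul_add, add_mul]

variable [IsLocalRing R] [Module.Free R M] [Module.Finite R M] {m : ℕ} {ζ : CliffordAlgebra Q}

theorem IsArf.mem_SOeven_iff (Z : IsArf Q m ζ) (hQ : QuadGrp.IsRegular Q) (hm : 1 ≤ m)
    (hM : Module.finrank R M = 2 * m) {g : M ≃ₗ[R] M} (hg : g ∈ QuadGrp.O Q) :
    g ∈ QuadGrp.SOeven Q ↔ map (QuadGrp.isometryOfMem Q g hg) ζ = ζ := by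
  obtain ⟨a, ha⟩ := exists_isUnit_value hQ (by omega)
  constructor
  · rintro ⟨hg', hD⟩
    exact hD ⟨ζ, Z.even⟩ ((mem_center_even_iff _).mpr fun y hy => Z.commute_even hy)
  · intro h
    refine ⟨hg, fun z hz => ?_⟩
    obtain ⟨p, q, hpq⟩ := Z.even_center_eq hQ ha z.2 ((mem_center_even_iff z).mp hz)
    rw [hpq, map_add, map_smul, map_smul, map_one, h]

theorem IsArf.map_cases (Z : IsArf Q m ζ) (hQ : QuadGrp.IsRegular Q) (hm : 1 ≤ m)
    (hM : Module.finrank R M = 2 * m) {g : M ≃ₗ[R] M} (hg : g ∈ QuadGrp.O Q) :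
    map (QuadGrp.isometryOfMem Q g hg) ζ = ζ ∨ map (QuadGrp.isometryOfMem Q g hg) ζ = 1 - ζ := by
  obtain ⟨p, hp, hpe, -⟩ := Z.exists_dickson hQ hm hM hg
  rcases hp with rfl | rfl
  · exact Or.inl (by rw [hpe]; module)
  · exact Or.inr (by rw [hpe]; module)

theorem IsArf.ne_one_sub (Z : IsArf Q m ζ) (hQ : QuadGrp.IsRegular Q) (hm : 1 ≤ m)
    (hM : Module.finrank R M = 2 * m) : ζ ≠ 1 - ζ := by
  intro h
  obtain ⟨a, ha⟩ := exists_isUnit_value hQ (by omega)
  have h0 : (-1 : R) • (1 : CliffordAlgebra Q) + (2 : R) • ζ = 0 := by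
    linear_combination (norm := module) h
  exact one_ne_zero (neg_eq_zero.mp (Z.indep ha h0).1)

theorem index_SOeven (hQ : QuadGrp.IsRegular Q) (hm : 1 ≤ m) (hM : Module.finrank R M = 2 * m) :
    ((QuadGrp.SOeven Q).subgroupOf (QuadGrp.O Q)).index = 2 := by
  obtain ⟨ζ, Z⟩ := exists_arf m Q hM hQ
  obtain ⟨a, ⟨e, he⟩⟩ := exists_isUnit_value hQ (by omega)
  rw [Subgroup.index_eq_two_iff]
  refine ⟨⟨reflect a e he, reflect_mem_O a e he⟩, fun b => ?_⟩
  rw [Subgroup.mem_subgroupOf, Subgroup.mem_subgroupOf, Subgroup.coe_mul,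
    Z.mem_SOeven_iff hQ hm hM ((QuadGrp.O Q).mul_mem b.2 (reflect_mem_O a e he)),
    Z.mem_SOeven_iff hQ hm hM b.2]
  have hbr : map (QuadGrp.isometryOfMem Q _ ((QuadGrp.O Q).mul_mem b.2 (reflect_mem_O a e he))) ζ =
      1 - map (QuadGrp.isometryOfMem Q _ b.2) ζ := by
    have hc : map (QuadGrp.isometryOfMem Q _ ((QuadGrp.O Q).mul_mem b.2 (reflect_mem_O a e he))) =
        (map (QuadGrp.isometryOfMem Q _ b.2)).comp
          (map (QuadGrp.isometryOfMem Q _ (reflect_mem_O a e he))) :=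
      hom_ext (by ext v; simp [QuadGrp.isometryOfMem_apply])
    rw [hc, AlgHom.comp_apply, map_reflect, involute_eq_of_mem_even Z.even, Z.twist, mul_assoc,
      mul_smul_comm, ι_sq_scalar, ← he, Algebra.smul_def, ← map_mul, Units.inv_mul, map_one, mul_one,
      map_sub, map_one]
  rw [hbr]
  rcases Z.map_cases hQ hm hM b.2 with h | h <;> rw [h]
  · exact Or.inr ⟨rfl, fun h' => Z.ne_one_sub hQ hm hM h'.symm⟩
  · exact Or.inl ⟨sub_sub_cancel 1 ζ, fun h' => Z.ne_one_sub hQ hm hM h'.symm⟩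

end GrothLib.Cliff28
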