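import Groth.Agent.Lib.Cliff28.Azumaya
import Groth.Agent.Lib.Cliff28.BCEquiv
import Mathlib.LinearAlgebra.ExteriorAlgebra.Basis
import Mathlib.Data.Finset.SymmDiff
import Mathlib.LinearAlgebra.Matrix.ToLin

/-!
# The Clifford algebra of a hyperbolic form is the endomorphism algebra of an exterior algebra
-/

set_option autoImplicit false
set_option linter.unusedSectionVars false

open CliffordAlgebra QuadraticMap

namespace GrothLib.Cliff28

universe u

variable (A : Type u) [CommRing A] (m : ℕ)

/-- The hyperbolic space. -/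
abbrev HypSpace := (Fin m → A) × (Fin m → A)

/-- The hyperbolic form. -/
noncomputable def hyp : QuadraticForm A (HypSpace A m) :=
  ∑ i : Fin m, QuadraticMap.linMulLin
    ((LinearMap.proj (R := A) (φ := fun _ : Fin m => A) i) ∘ₗ LinearMap.fst A _ _)
    ((LinearMap.proj (R := A) (φ := fun _ : Fin m => A) i) ∘ₗ LinearMap.snd A _ _)

theorem hyp_apply (v : HypSpace A m) : hyp A m v = ∑ i, v.1 i * v.2 i := by
  simp [hyp, QuadraticMap.sum_apply, QuadraticMap.linMulLin_apply]

theorem polar_hyp (v w : HypSpace A m) :
    polar (hyp A m) v w = ∑ i, (v.1 i * w.2 i + w.1 i * v.2 i) := by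
  rw [QuadraticMap.polar, hyp_apply, hyp_apply, hyp_apply, ← Finset.sum_sub_distrib,
    ← Finset.sum_sub_distrib]
  exact Finset.sum_congr rfl fun i _ => by simp; ring

/-- The exterior algebra. -/
abbrev Spinors := CliffordAlgebra (0 : QuadraticForm A (Fin m → A))

/-- The pairing of the two halves. -/
noncomputable def dualMap : (Fin m → A) →ₗ[A] Module.Dual A (Fin m → A) :=
  LinearMap.mk₂ A (fun y x => ∑ i, x i * y i)
    (fun a b c => by simp [mul_add, Finset.sum_add_distrib])
    (fun r a c => by simp [Finset.mul_sum, mul_left_comm])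
    (fun a b c => by simp [add_mul, Finset.sum_add_distrib])
    (fun r a c => by simp [Finset.mul_sum, mul_assoc])

theorem dualMap_apply (y x : Fin m → A) : dualMap A m y x = ∑ i, x i * y i := rfl

/-- The spinor representation on the space. -/
noncomputable def spinMap : HypSpace A m →ₗ[A] Module.End A (Spinors A m) :=
  ((LinearMap.mul A (Spinors A m)).comp ((ι (0 : QuadraticForm A (Fin m → A))).comp (LinearMap.fst A _ _))) +
    ((contractLeft : Module.Dual A (Fin m → A) →ₗ[A] Spinors A m →ₗ[A] Spinors A m).comp
      ((dualMap A m).comp (LinearMap.snd A _ _)))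

theorem spinMap_apply (v : HypSpace A m) (w : Spinors A m) :
    spinMap A m v w = ι _ v.1 * w + contractLeft (dualMap A m v.2) w := rfl

/-- The spinor representation. -/
noncomputable def spinRep : CliffordAlgebra (hyp A m) →ₐ[A] Module.End A (Spinors A m) :=
  CliffordAlgebra.lift _ ⟨spinMap A m, fun v => by
    refine LinearMap.ext fun w => ?_
    rw [Module.End.mul_apply, spinMap_apply, spinMap_apply, mul_add, map_add, ← mul_assoc, ι_sq_scalar,
      zero_apply, map_zero, zero_mul, zero_add, contractLeft_contractLeft, add_zero,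
      contractLeft_ι_mul, add_sub_cancel, Module.algebraMap_end_apply, dualMap_apply, hyp_apply]⟩

theorem spinRep_ι (v : HypSpace A m) : spinRep A m (ι _ v) = spinMap A m v :=
  CliffordAlgebra.lift_ι_apply _ _ v

theorem spinRep_surjective : Function.Surjective (spinRep A m) := by
  have h : (spinRep A m).range = ⊤ := by
    refine end_eq_top (Pi.basisFun A (Fin m)) _ (fun v => ⟨ι _ (v, 0), ?_⟩) fun d =>
      ⟨ι _ (0, fun i => d (Pi.single i 1)), ?_⟩
    · refine LinearMap.ext fun w => ?_
      change spinRep A m (ι _ (v, 0)) w = _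
      rw [spinRep_ι, spinMap_apply]
      simp
    · refine LinearMap.ext fun w => ?_
      change spinRep A m (ι _ _) w = _
      rw [spinRep_ι, spinMap_apply,
        show dualMap A m (fun i => d (Pi.single i 1)) = d from (Pi.basisFun A (Fin m)).ext fun i => by
          rw [dualMap_apply, Pi.basisFun_apply, Finset.sum_eq_single i]
          · simp
          · intro j _ hj; simp [hj]
          · simp]
      simp
  intro T
  exact (AlgHom.mem_range _).mp (h ▸ Algebra.mem_top : T ∈ (spinRep A m).range)

/-- The parity operator. -/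
noncomputable def parityOp : Module.End A (Spinors A m) := involute.toLinearMap

theorem parityOp_mul_self : parityOp A m * parityOp A m = 1 :=
  LinearMap.ext fun w => involute_involute w

theorem spinRep_involute (x : CliffordAlgebra (hyp A m)) :
    spinRep A m (involute x) = parityOp A m * spinRep A m x * parityOp A m := by
  induction x using CliffordAlgebra.induction with
  | algebraMap r =>
    rw [AlgHom.commutes, AlgHom.commutes, ← Algebra.commutes r, mul_assoc, parityOp_mul_self, mul_one]
  | ι v =>
    rw [involute_ι, map_neg, spinRep_ι]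
    refine LinearMap.ext fun w => ?_
    simp only [LinearMap.neg_apply, Module.End.mul_apply, parityOp, AlgHom.toLinearMap_apply,
      spinMap_apply, map_add, map_mul, involute_ι, involute_contractLeft, involute_involute,
      neg_mul, neg_add]
  | mul a b ha hb =>
    rw [map_mul, map_mul, ha, hb, map_mul]
    simp only [mul_assoc]
    rw [← mul_assoc (parityOp A m) (parityOp A m), parityOp_mul_self, one_mul]
  | add a b ha hb => rw [map_add, map_add, ha, hb, map_add, mul_add, add_mul]

theorem spinRep_injective : Function.Injective (spinRep A m) := by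
  rw [injective_iff_map_eq_zero]
  intro x hx
  let b := (Pi.basisFun A (Fin m)).prod (Pi.basisFun A (Fin m))
  refine eq_zero_of_stable b (hyp A m) (fun x => spinRep A m x = 0) (fun i y hy => ?_)
    (fun r hr => ?_) hx
  · obtain ⟨w, hw⟩ : ∃ w, b.coord i = (hyp A m).polarBilin w := by
      rcases i with i | i
      · refine ⟨(0, Pi.single i 1), LinearMap.ext fun v => ?_⟩
        rw [polarBilin_apply_apply, polar_hyp]
        simp [b, Pi.single_apply]
      · refine ⟨(Pi.single i 1, 0), LinearMap.ext fun v => ?_⟩
        rw [polarBilin_apply_apply, polar_hyp]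
        simp [b, Pi.single_apply]
    have e := ι_mul_eq (hyp A m) w y
    rw [← hw, ← sub_eq_iff_eq_add'] at e
    rw [← e, map_sub, map_mul, map_mul, hy, spinRep_involute, hy]
    simp
  · rw [AlgHom.commutes] at hr
    have h1 := LinearMap.congr_fun hr (1 : Spinors A m)
    rw [Module.algebraMap_end_apply, LinearMap.zero_apply] at h1
    exact smul_one_eq_zero _ h1

/-- `C(hyperbolic) ≅ End(exterior algebra)`. -/
noncomputable def spinEquiv : CliffordAlgebra (hyp A m) ≃ₐ[A] Module.End A (Spinors A m) :=
  AlgEquiv.ofBijective (spinRep A m) ⟨spinRep_injective A m, spinRep_surjective A m⟩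

/-- The monomial basis of the spinors. -/
noncomputable def spinBasis : Module.Basis (Finset (Fin m)) A (Spinors A m) :=
  (Pi.basisFun A (Fin m)).ExteriorAlgebra

theorem spinBasis_mem (s : Finset (Fin m)) :
    spinBasis A m s ∈ evenOdd (0 : QuadraticForm A (Fin m → A)) (s.card : ZMod 2) := by
  refine le_iSup (fun j : {n : ℕ // (n : ZMod 2) = (s.card : ZMod 2)} =>
    LinearMap.range (ι (0 : QuadraticForm A (Fin m → A))) ^ (j : ℕ)) ⟨s.card, rfl⟩ ?_
  rw [spinBasis, ExteriorAlgebra.basis_apply]
  exact (exteriorPower.ιMulti_family A s.card (Pi.basisFun A (Fin m)) (Set.powersetCard.prodEquiv.symm s).2).2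

theorem spinRep_parity {i : ZMod 2} {x : CliffordAlgebra (hyp A m)} (hx : x ∈ evenOdd (hyp A m) i) :
    ∀ {j : ZMod 2} {w : Spinors A m}, w ∈ evenOdd (0 : QuadraticForm A (Fin m → A)) j →
      spinRep A m x w ∈ evenOdd (0 : QuadraticForm A (Fin m → A)) (i + j) := by
  have hv : ∀ (v : HypSpace A m) {j : ZMod 2} {w : Spinors A m},
      w ∈ evenOdd (0 : QuadraticForm A (Fin m → A)) j →
      spinRep A m (ι _ v) w ∈ evenOdd (0 : QuadraticForm A (Fin m → A)) (1 + j) := by
    intro v j w hw
    rw [spinRep_ι, spinMap_apply]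
    exact add_mem (SetLike.mul_mem_graded (ι_mem_evenOdd_one _ _) hw)
      (add_comm j 1 ▸ contractLeft_mem_evenOdd _ _ j hw)
  induction x, hx using evenOdd_induction with
  | range_ι_pow v h =>
    intro j w hw
    fin_cases i
    · change v ∈ LinearMap.range (ι (hyp A m)) ^ 0 at h
      rw [pow_zero] at h
      obtain ⟨r, rfl⟩ := Submodule.mem_one.mp h
      change _ ∈ evenOdd _ ((0 : ZMod 2) + j)
      rw [zero_add, AlgHom.commutes, Module.algebraMap_end_apply]
      exact Submodule.smul_mem _ _ hw
    · change v ∈ LinearMap.range (ι (hyp A m)) ^ 1 at h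
      rw [pow_one] at h
      obtain ⟨u, rfl⟩ := h
      exact hv u hw
  | add x y hx hy ihx ihy =>
    intro j w hw
    rw [map_add, LinearMap.add_apply]
    exact add_mem (ihx hw) (ihy hw)
  | ι_mul_ι_mul a b x hx ih =>
    intro j w hw
    rw [map_mul, map_mul, Module.End.mul_apply, Module.End.mul_apply]
    have := hv a (hv b (ih hw))
    rwa [← add_assoc, show (1 : ZMod 2) + 1 = 0 from rfl, zero_add] at this

theorem spinMatrix_eq_zero {i : ZMod 2} {x : CliffordAlgebra (hyp A m)} (hx : x ∈ evenOdd (hyp A m) i)
    (s t : Finset (Fin m)) (h : (s.card : ZMod 2) ≠ i + t.card) :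
    LinearMap.toMatrix (spinBasis A m) (spinBasis A m) (spinRep A m x) s t = 0 := by
  classical
  rw [LinearMap.toMatrix_apply]
  set w := spinRep A m x (spinBasis A m t) with hw
  have hwm := spinRep_parity A m hx (spinBasis_mem A m t)
  rw [← hw] at hwm
  have e : (((part (0 : QuadraticForm A (Fin m → A)) (i + (t.card : ZMod 2))) w : _) : Spinors A m) =
      ∑ k ∈ Finset.univ.filter (fun k => (k.card : ZMod 2) = i + t.card),
        (spinBasis A m).repr w k • spinBasis A m k := by
    conv_lhs => rw [← (spinBasis A m).sum_repr w]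
    rw [map_sum, Submodule.coe_sum, Finset.sum_filter]
    refine Finset.sum_congr rfl fun k _ => ?_
    rw [map_smul, Submodule.coe_smul]
    split_ifs with hk
    · rw [part_of_mem _ (hk ▸ spinBasis_mem A m k)]
    · rw [part_of_mem_ne _ (spinBasis_mem A m k) hk, Submodule.coe_zero, smul_zero]
  rw [part_of_mem _ hwm] at e
  rw [e, map_sum, Finsupp.coe_finsetSum, Finset.sum_apply]
  refine Finset.sum_eq_zero fun k hk => ?_
  rw [map_smul, Module.Basis.repr_self, Finsupp.smul_apply, Finsupp.single_apply,
    if_neg (fun he => h (by rw [← he]; exact (Finset.mem_filter.mp hk).2)), smul_zero]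

/-- The indices of given parity. -/
abbrev ParityIdx (i : ZMod 2) := {s : Finset (Fin m) // (s.card : ZMod 2) = i}

/-- Indices sorted by parity. -/
noncomputable def paritySplit : Finset (Fin m) ≃ ParityIdx m 0 ⊕ ParityIdx m 1 :=
  ((Equiv.sumCongr (Equiv.refl _) (Equiv.subtypeEquivRight fun s => by
    generalize (s.card : ZMod 2) = c
    revert c; decide)).symm.trans
    (Equiv.sumCompl fun s : Finset (Fin m) => (s.card : ZMod 2) = 0)).symm

/-- The spinor basis sorted by parity. -/
noncomputable def splitBasis : Module.Basis (ParityIdx m 0 ⊕ ParityIdx m 1) A (Spinors A m) :=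
  (spinBasis A m).reindex (paritySplit m)

theorem paritySplit_symm (k : ParityIdx m 0 ⊕ ParityIdx m 1) :
    (paritySplit m).symm k = Sum.elim Subtype.val Subtype.val k := by
  rcases k with k | k <;> rfl

theorem splitMatrix_apply (x : CliffordAlgebra (hyp A m)) (s t : ParityIdx m 0 ⊕ ParityIdx m 1) :
    LinearMap.toMatrix (splitBasis A m) (splitBasis A m) (spinRep A m x) s t =
      LinearMap.toMatrix (spinBasis A m) (spinBasis A m) (spinRep A m x)
        (Sum.elim Subtype.val Subtype.val s) (Sum.elim Subtype.val Subtype.val t) := by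
  rw [LinearMap.toMatrix_apply, LinearMap.toMatrix_apply, splitBasis, Module.Basis.repr_reindex_apply,
    Module.Basis.reindex_apply, paritySplit_symm, paritySplit_symm]

theorem splitMatrix_even {x : CliffordAlgebra (hyp A m)} (hx : x ∈ evenOdd (hyp A m) 0) :
    LinearMap.toMatrix (splitBasis A m) (splitBasis A m) (spinRep A m x) =
      Matrix.fromBlocks
        (LinearMap.toMatrix (splitBasis A m) (splitBasis A m) (spinRep A m x)).toBlocks₁₁ 0 0
        (LinearMap.toMatrix (splitBasis A m) (splitBasis A m) (spinRep A m x)).toBlocks₂₂ := by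
  ext s t
  rcases s with s | s <;> rcases t with t | t
  · rfl
  · rw [splitMatrix_apply]
    exact spinMatrix_eq_zero A m hx _ _ (by simp [s.2, t.2])
  · rw [splitMatrix_apply]
    exact spinMatrix_eq_zero A m hx _ _ (by simp [s.2, t.2])
  · rfl

theorem splitMatrix_odd {x : CliffordAlgebra (hyp A m)} (hx : x ∈ evenOdd (hyp A m) 1) :
    (LinearMap.toMatrix (splitBasis A m) (splitBasis A m) (spinRep A m x)).toBlocks₁₁ = 0 ∧
    (LinearMap.toMatrix (splitBasis A m) (splitBasis A m) (spinRep A m x)).toBlocks₂₂ = 0 := by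
  refine ⟨?_, ?_⟩ <;> ext s t
  · change LinearMap.toMatrix (splitBasis A m) (splitBasis A m) (spinRep A m x) (Sum.inl s) (Sum.inl t) = 0
    rw [splitMatrix_apply]
    exact spinMatrix_eq_zero A m hx _ _ (by simp [s.2, t.2])
  · change LinearMap.toMatrix (splitBasis A m) (splitBasis A m) (spinRep A m x) (Sum.inr s) (Sum.inr t) = 0
    rw [splitMatrix_apply]
    exact spinMatrix_eq_zero A m hx _ _ (by
      rw [Sum.elim_inr, Sum.elim_inr, s.2, t.2]; decide)

/-- The two half-spin representations. -/
noncomputable def halfSpin : CliffordAlgebra.even (hyp A m) →ₐ[A]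
    Matrix (ParityIdx m 0) (ParityIdx m 0) A × Matrix (ParityIdx m 1) (ParityIdx m 1) A where
  toFun x := ((LinearMap.toMatrix (splitBasis A m) (splitBasis A m) (spinRep A m x.1)).toBlocks₁₁,
    (LinearMap.toMatrix (splitBasis A m) (splitBasis A m) (spinRep A m x.1)).toBlocks₂₂)
  map_one' := by
    simp only [OneMemClass.coe_one, map_one, LinearMap.toMatrix_one]
    rw [← Matrix.fromBlocks_one, Matrix.toBlocks_fromBlocks₁₁, Matrix.toBlocks_fromBlocks₂₂]
    rfl
  map_mul' x y := by
    simp only [MulMemClass.coe_mul, map_mul, LinearMap.toMatrix_mul]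
    rw [splitMatrix_even A m x.2, splitMatrix_even A m y.2, Matrix.fromBlocks_multiply]
    simp
  map_zero' := by simp only [ZeroMemClass.coe_zero, map_zero]; rfl
  map_add' x y := by simp only [AddMemClass.coe_add, map_add]; rfl
  commutes' r := by
    change ((LinearMap.toMatrix (splitBasis A m) (splitBasis A m)
        (spinRep A m (algebraMap A _ r))).toBlocks₁₁,
      (LinearMap.toMatrix (splitBasis A m) (splitBasis A m)
        (spinRep A m (algebraMap A _ r))).toBlocks₂₂) = _
    rw [AlgHom.commutes, Algebra.algebraMap_eq_smul_one, map_smul, LinearMap.toMatrix_one,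
      Algebra.algebraMap_eq_smul_one]
    rw [← Matrix.fromBlocks_one, Matrix.fromBlocks_smul, Matrix.toBlocks_fromBlocks₁₁,
      Matrix.toBlocks_fromBlocks₂₂]
    rfl

theorem halfSpin_bijective : Function.Bijective (halfSpin A m) := by
  constructor
  · intro x y h
    refine Subtype.ext (spinRep_injective A m ((LinearMap.toMatrix (splitBasis A m) (splitBasis A m)).injective ?_))
    rw [splitMatrix_even A m x.2, splitMatrix_even A m y.2]
    exact congrArg (fun p => Matrix.fromBlocks p.1 0 0 p.2) h
  · rintro ⟨P, P'⟩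
    obtain ⟨x, hx⟩ := spinRep_surjective A m
      ((LinearMap.toMatrix (splitBasis A m) (splitBasis A m)).symm (Matrix.fromBlocks P 0 0 P'))
    obtain ⟨x0, h0, x1, h1, rfl⟩ := exists_even_add_odd _ x
    have e := congrArg (LinearMap.toMatrix (splitBasis A m) (splitBasis A m)) hx
    rw [map_add, map_add, LinearEquiv.apply_symm_apply] at e
    obtain ⟨o11, o22⟩ := splitMatrix_odd A m h1
    refine ⟨⟨x0, h0⟩, Prod.ext (Matrix.ext fun s t => ?_) (Matrix.ext fun s t => ?_)⟩
    · have e' := congrFun (congrFun e (Sum.inl s)) (Sum.inl t)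
      have o := congrFun (congrFun o11 s) t
      change LinearMap.toMatrix (splitBasis A m) (splitBasis A m) (spinRep A m x0) (Sum.inl s) (Sum.inl t) = P s t
      change LinearMap.toMatrix (splitBasis A m) (splitBasis A m) (spinRep A m x1) (Sum.inl s) (Sum.inl t) = 0 at o
      rw [Matrix.add_apply, o, add_zero] at e'
      exact e'
    · have e' := congrFun (congrFun e (Sum.inr s)) (Sum.inr t)
      have o := congrFun (congrFun o22 s) t
      change LinearMap.toMatrix (splitBasis A m) (splitBasis A m) (spinRep A m x0) (Sum.inr s) (Sum.inr t) = P' s t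
      change LinearMap.toMatrix (splitBasis A m) (splitBasis A m) (spinRep A m x1) (Sum.inr s) (Sum.inr t) = 0 at o
      rw [Matrix.add_apply, o, add_zero] at e'
      exact e'

theorem card_parityIdx (hm : 1 ≤ m) (i : ZMod 2) : Fintype.card (ParityIdx m i) = 2 ^ (m - 1) := by
  classical
  let a : Finset (Fin m) := {⟨0, hm⟩}
  have hflip : ∀ s : Finset (Fin m), ((symmDiff s a).card : ZMod 2) = s.card + 1 := by
    intro s
    by_cases h : (⟨0, hm⟩ : Fin m) ∈ s
    · have : symmDiff s a = s.erase ⟨0, hm⟩ := by ext k; simp [a, Finset.mem_symmDiff]; aesop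
      rw [this]
      conv_rhs => rw [← Finset.card_erase_add_one h]
      push_cast
      rw [add_assoc, show (1 : ZMod 2) + 1 = 0 from rfl, add_zero]
    · have : symmDiff s a = insert ⟨0, hm⟩ s := by ext k; simp [a, Finset.mem_symmDiff]; aesop
      rw [this, Finset.card_insert_of_notMem h]
      push_cast
      rfl
  let f : ParityIdx m 0 ≃ ParityIdx m 1 :=
    { toFun := fun s => ⟨symmDiff s.1 a, by rw [hflip, s.2, zero_add]⟩
      invFun := fun s => ⟨symmDiff s.1 a, by rw [hflip, s.2]; rfl⟩
      left_inv := fun s => Subtype.ext (symmDiff_symmDiff_cancel_right a s.1)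
      right_inv := fun s => Subtype.ext (symmDiff_symmDiff_cancel_right a s.1) }
  have htot := Fintype.card_congr (paritySplit m)
  rw [Fintype.card_finset, Fintype.card_fin, Fintype.card_sum, ← Fintype.card_congr f] at htot
  have h2 : 2 ^ m = 2 * 2 ^ (m - 1) := by rw [← pow_succ', Nat.sub_add_cancel hm]
  fin_cases i
  · change Fintype.card (ParityIdx m 0) = _
    omega
  · change Fintype.card (ParityIdx m 1) = _
    rw [← Fintype.card_congr f]
    omega

/-- The matrix form of `spinEquiv`. -/
noncomputable def spinMatrixEquiv :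
    CliffordAlgebra (hyp A m) ≃ₐ[A] Matrix (Fin (2 ^ m)) (Fin (2 ^ m)) A :=
  (spinEquiv A m).trans (LinearMap.toMatrixAlgEquiv ((spinBasis A m).reindex
    (Fintype.equivFinOfCardEq (by rw [Fintype.card_finset, Fintype.card_fin]))))

/-- The even part of the hyperbolic Clifford algebra is a product of two matrix algebras. -/
noncomputable def halfSpinMatrixEquiv (hm : 1 ≤ m) : CliffordAlgebra.even (hyp A m) ≃ₐ[A]
    Matrix (Fin (2 ^ (m - 1))) (Fin (2 ^ (m - 1))) A × Matrix (Fin (2 ^ (m - 1))) (Fin (2 ^ (m - 1))) A :=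
  (AlgEquiv.ofBijective (halfSpin A m) (halfSpin_bijective A m)).trans
    (AlgEquiv.prodCongr
      (Matrix.reindexAlgEquiv A A (Fintype.equivFinOfCardEq (card_parityIdx m hm 0)))
      (Matrix.reindexAlgEquiv A A (Fintype.equivFinOfCardEq (card_parityIdx m hm 1))))

end GrothLib.Cliff28
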