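import Groth.Agent.Lib.Cliff28.Isom
import Groth.Agent.Lib.Cliff28.EvenGlobal
import Groth.Agent.Lib.Cliff28.Hyperbolic

/-!
# Non-degenerate forms are fppf-locally hyperbolic
-/

set_option autoImplicit false
set_option linter.unusedSectionVars false

namespace GrothLib.Cliff28

open Matrix GrothLib.QuadHalfDisc GrothLib.QuadTable QuadGrp TensorProduct

universe u

variable {R : Type u} [CommRing R]

theorem isomRing_formallySmooth_even {n : ℕ} {a b : Sym2 (Fin n) → R}
    (hb : IsUnit (polarMat b).det) : Algebra.FormallySmooth R (IsomRing a b none) := by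
  refine Algebra.FormallySmooth.of_comp_surjective fun B _ _ I hI φ => ?_
  choose G₀ hG₀ using fun i j => Ideal.Quotient.mk_surjective (isomMat φ i j)
  let G : Matrix (Fin n) (Fin n) B := Matrix.of G₀
  have eG : G.map (Ideal.Quotient.mk I) = isomMat φ := Matrix.ext fun i j => hG₀ i j
  have hI' : ∀ x ∈ I, ∀ y ∈ I, x * y = (0 : B) := QuadCoord.mul_eq_zero_of_sq I hI
  set bB : Sym2 (Fin n) → B := fun q => algebraMap R B (b q) with hbB
  set aB : Sym2 (Fin n) → B := fun q => algebraMap R B (a q) with haB
  have hbu : IsUnit (polarMat bB).det := by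
    rw [hbB, ← polarMat_map, ← RingHom.mapMatrix_apply, ← RingHom.map_det]
    exact hb.map _
  set δ := transform aB G - bB with hδ
  have hδI : ∀ q, δ q ∈ I := fun q => by
    rw [hδ, Pi.sub_apply, ← Ideal.Quotient.eq, map_transform, eG]
    exact congrFun (isomMat_spec φ).1 q
  have htG : transform aB G = bB + δ := by rw [hδ, add_sub_cancel]
  let Y := (polarMat bB)⁻¹ * (-triMat δ)
  have hY : ∀ i j, Y i j ∈ I := mul_mem_right_matrix I fun i j => I.neg_mem (triMat_mem I hδI i j)
  have hPY : polarMat bB * Y = -triMat δ := by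
    rw [← Matrix.mul_assoc, mul_nonsing_inv _ hbu, Matrix.one_mul]
  have ht : transform aB (G * (1 + Y)) = bB := by
    rw [transform_mul, htG, transform_one_add I hI' _ hY, polarMat_add_mul I hI' hδI hY, hPY,
      ← neg_one_smul B (triMat δ), tab_smul, tab_triMat, neg_one_smul, add_neg_cancel_right]
  obtain ⟨ψ, hψ⟩ := exists_isomMat (d := none) ht fun _ h => absurd h (Option.some_ne_none _).symm
  refine ⟨ψ, Ideal.Quotient.algHom_ext _ (MvPolynomial.algHom_ext fun ij => ?_)⟩
  have e1 : Ideal.Quotient.mk I (isomMat ψ ij.1 ij.2) = isomMat φ ij.1 ij.2 := by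
    rw [hψ, ← eG, Matrix.map_apply]
    refine Ideal.Quotient.eq.2 ?_
    rw [Matrix.mul_add, Matrix.mul_one, Matrix.add_apply, add_sub_cancel_left]
    exact mul_mem_right_matrix I hY _ _
  exact e1

section Even

variable {m : ℕ} {a : Sym2 (Fin (2 * m)) → R}

theorem isUnit_det_splitForm (ha : IsUnit (polarMat a).det) :
    IsUnit (polarMat (QuadCoord.table (splitForm R (2 * m)))).det := by
  by_contra hne
  obtain ⟨p, hp, hmem⟩ := exists_max_ideal_of_mem_nonunits hne
  letI : Field (R ⧸ p) := Ideal.Quotient.field p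
  let f : R →+* AlgebraicClosure (R ⧸ p) :=
    (algebraMap (R ⧸ p) (AlgebraicClosure (R ⧸ p))).comp (Ideal.Quotient.mk p)
  have hu : IsUnit (polarMat fun q => f (a q)).det := by
    rw [← polarMat_map, ← RingHom.mapMatrix_apply, ← RingHom.map_det]
    exact ha.map f
  obtain ⟨G, hG, ht⟩ := exists_split_matrix_even m (fun q => f (a q)) hu
  change transform _ G = QuadCoord.table _ at ht
  have h := congrArg (fun t => (polarMat t).det) ht
  simp only [polarMat_transform, det_mul, det_transpose] at h
  rw [← map_table_splitForm f,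
    ← polarMat_map f (QuadCoord.table (splitForm R (2 * m))), ← RingHom.mapMatrix_apply,
    ← RingHom.map_det] at h
  refine ((hG.mul hu).mul hG).ne_zero (h.trans ?_)
  simp [f, Ideal.Quotient.eq_zero_iff_mem.2 hmem]

theorem exists_faithfullyFlat_table_even (ha : IsUnit (polarMat a).det) :
    ∃ (A : Type u) (_ : CommRing A) (_ : Algebra R A), Module.FaithfullyFlat R A ∧
      Algebra.FinitePresentation R A ∧ ∃ G : Matrix (Fin (2 * m)) (Fin (2 * m)) A, IsUnit G.det ∧
        transform (fun q => algebraMap R A (a q)) G =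
          fun q => algebraMap R A (QuadCoord.table (splitForm R (2 * m)) q) := by
  set b := QuadCoord.table (splitForm R (2 * m)) with hb
  have hbu : IsUnit (polarMat b).det := isUnit_det_splitForm ha
  let T := IsomRing a b none
  haveI : Algebra.FormallySmooth R T := isomRing_formallySmooth_even hbu
  haveI : Algebra.FinitePresentation R T := isomRing_finitePresentation
  haveI : Algebra.Smooth R T := ⟨inferInstance, inferInstance⟩
  haveI : Module.FaithfullyFlat R T := by
    refine Module.FaithfullyFlat.of_comap_surjective fun P => ?_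
    let K := AlgebraicClosure P.asIdeal.ResidueField
    let f : R →+* K := (algebraMap P.asIdeal.ResidueField K).comp (algebraMap R _)
    letI : Algebra R K := f.toAlgebra
    have hu : IsUnit (polarMat fun q => f (a q)).det := by
      rw [← polarMat_map, ← RingHom.mapMatrix_apply, ← RingHom.map_det]
      exact ha.map f
    obtain ⟨G, hG, ht⟩ := exists_split_matrix_even m (fun q => f (a q)) hu
    change transform _ G = QuadCoord.table _ at ht
    rw [← map_table_splitForm f] at ht
    obtain ⟨φ, -⟩ := exists_isomMat (R := R) (a := a) (b := b) (d := none) ht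
      fun _ h => absurd h (Option.some_ne_none _).symm
    refine ⟨⟨RingHom.ker φ.toRingHom, RingHom.ker_isPrime _⟩, PrimeSpectrum.ext ?_⟩
    change (RingHom.ker φ.toRingHom).comap (algebraMap R T) = P.asIdeal
    rw [RingHom.comap_ker, show φ.toRingHom.comp (algebraMap R T) = f from RingHom.ext φ.commutes,
      RingHom.ker_comp_of_injective _ (algebraMap P.asIdeal.ResidueField K).injective]
    exact Ideal.ker_algebraMap_residueField P.asIdeal
  obtain ⟨ht, -⟩ := isomMat_spec (AlgHom.id R T)
  refine ⟨T, inferInstance, inferInstance, inferInstance, inferInstance,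
    isomMat (AlgHom.id R T), ?_, ht⟩
  have h := congrArg (fun t => (polarMat t).det) ht
  simp only [polarMat_transform, det_mul, det_transpose] at h
  have hbT : IsUnit (polarMat fun q => algebraMap R T (b q)).det := by
    rw [← polarMat_map, ← RingHom.mapMatrix_apply, ← RingHom.map_det]
    exact hbu.map _
  rw [← h] at hbT
  exact (IsUnit.mul_iff.mp hbT).2

end Even

section Transfer

variable {A : Type u} [CommRing A] {N N' : Type*} [AddCommGroup N] [Module A N] [AddCommGroup N']
  [Module A N'] {n : ℕ}

theorem nonempty_isometry (c : Module.Basis (Fin n) A N) (c' : Module.Basis (Fin n) A N')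
    (q : QuadraticForm A N) (q' : QuadraticForm A N') {G : Matrix (Fin n) (Fin n) A}
    (hG : IsUnit G.det)
    (ht : transform (coeffs c (LinearEquiv.refl A A) q) G = coeffs c' (LinearEquiv.refl A A) q') :
    Nonempty (q.IsometryEquiv q') := by
  let e := c'.equiv c (Equiv.refl _)
  let f := (LinearMap.toMatrix c' c').symm G
  have hf : LinearMap.toMatrix c' c' f = G := LinearEquiv.apply_symm_apply _ _
  have hu : IsUnit (LinearMap.toMatrix c' c' f).det := by rw [hf]; exact hG
  let g := LinearEquiv.ofIsUnitDet (f := f) hu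
  have he : coeffs c' (LinearEquiv.refl A A) (q.comp e.toLinearMap) = coeffs c (LinearEquiv.refl A A) q := by
    funext p
    induction p using Sym2.ind with
    | _ i j => simp [coeffs_mk, e, QuadraticMap.polar]
  have h : (q.comp e.toLinearMap).comp g.toLinearMap = q' := by
    refine QuadCoord.eq_of_coeffs_eq c' ?_
    rw [coeffs_comp, he, LinearEquiv.coe_ofIsUnitDet, hf, ht]
  exact ⟨(QuadraticMap.IsometryEquiv.mk (g.trans e) fun v => QuadraticMap.congr_fun h v :
    q'.IsometryEquiv q).symm⟩

theorem coeffs_map {M : Type*} [AddCommGroup M] [Module A M] (c : Module.Basis (Fin n) A M)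
    (φ : M ≃ₗ[A] N) (q : QuadraticForm A N) (q₀ : QuadraticForm A M) (h : ∀ x, q (φ x) = q₀ x) :
    coeffs (c.map φ) (LinearEquiv.refl A A) q = coeffs c (LinearEquiv.refl A A) q₀ := by
  funext p
  induction p using Sym2.ind with
  | _ i j => simp [coeffs_mk, QuadraticMap.polar, ← map_add, h]

end Transfer

section Coordinates

variable (A : Type u) [CommRing A] (m : ℕ)

/-- Even and odd coordinates. -/
noncomputable def pairUp : (Fin (2 * m) → A) ≃ₗ[A] HypSpace A m where
  toFun x := (fun i => x ⟨2 * i, by omega⟩, fun i => x ⟨2 * i + 1, by omega⟩)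
  invFun p j := if j.val % 2 = 0 then p.1 ⟨j.val / 2, by omega⟩ else p.2 ⟨j.val / 2, by omega⟩
  map_add' _ _ := rfl
  map_smul' _ _ := rfl
  left_inv x := funext fun j => by
    dsimp only
    split_ifs with h
    · exact congrArg x (Fin.ext (show 2 * (j.val / 2) = j.val by omega))
    · exact congrArg x (Fin.ext (show 2 * (j.val / 2) + 1 = j.val by omega))
  right_inv p := by
    refine Prod.ext (funext fun i => ?_) (funext fun i => ?_)
    · dsimp only
      rw [if_pos (show 2 * (i : ℕ) % 2 = 0 by omega)]
      exact congrArg p.1 (Fin.ext (show 2 * (i : ℕ) / 2 = i by omega))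
    · dsimp only
      rw [if_neg (show ¬(2 * (i : ℕ) + 1) % 2 = 0 by omega)]
      exact congrArg p.2 (Fin.ext (show (2 * (i : ℕ) + 1) / 2 = i by omega))

theorem hyp_pairUp (x : Fin (2 * m) → A) : hyp A m (pairUp A m x) = splitForm A (2 * m) x := by
  simp only [hyp_apply, splitForm, Nat.mul_mod_right, zero_ne_one, dite_false, add_zero,
    QuadraticMap.sum_apply, QuadraticMap.linMulLin_apply, LinearMap.proj_apply]
  symm
  exact Fintype.sum_equiv (finCongr (by omega)) _ _ fun i => rfl

/-- The coordinates of odd rank: the first one, then pairs with a sign. -/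
noncomputable def pairUpOdd : (Fin (2 * m + 1) → A) ≃ₗ[A] HypSpace A m × A where
  toFun x := ((fun i => x ⟨2 * i + 1, by omega⟩, fun i => -x ⟨2 * i + 2, by omega⟩), x 0)
  invFun p j := if h : j.val = 0 then p.2
    else if j.val % 2 = 1 then p.1.1 ⟨(j.val - 1) / 2, by omega⟩ else -p.1.2 ⟨(j.val - 1) / 2, by omega⟩
  map_add' _ _ := by ext <;> simp [add_comm]
  map_smul' _ _ := by ext <;> simp
  left_inv x := funext fun j => by
    dsimp only
    have hj := j.isLt
    split_ifs with h h'
    · exact congrArg x (Fin.ext (by simp [h]))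
    · exact congrArg x (Fin.ext (show 2 * ((j.val - 1) / 2) + 1 = j.val by omega))
    · rw [neg_neg]
      exact congrArg x (Fin.ext (show 2 * ((j.val - 1) / 2) + 2 = j.val by omega))
  right_inv p := by
    refine Prod.ext (Prod.ext (funext fun i => ?_) (funext fun i => ?_)) rfl
    · dsimp only
      rw [dif_neg (show ¬2 * (i : ℕ) + 1 = 0 by omega), if_pos (show (2 * (i : ℕ) + 1) % 2 = 1 by omega)]
      exact congrArg p.1.1 (Fin.ext (show (2 * (i : ℕ) + 1 - 1) / 2 = i by omega))
    · dsimp only
      rw [dif_neg (show ¬2 * (i : ℕ) + 2 = 0 by omega), if_neg (show ¬(2 * (i : ℕ) + 2) % 2 = 1 by omega),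
        neg_neg]
      exact congrArg p.1.2 (Fin.ext (show (2 * (i : ℕ) + 2 - 1) / 2 = i by omega))

theorem neg_hyp_pairUpOdd (x : Fin (2 * m + 1) → A) :
    (-CliffordAlgebra.EquivEven.Q' (hyp A m)) (pairUpOdd A m x) = splitForm A (2 * m + 1) x := by
  have hmod : (2 * m + 1) % 2 = 1 := by omega
  rw [QuadraticMap.neg_apply, CliffordAlgebra.EquivEven.Q'_apply, hyp_apply]
  simp only [splitForm, dif_pos hmod, QuadraticMap.add_apply, QuadraticMap.sum_apply,
    QuadraticMap.linMulLin_apply, LinearMap.proj_apply, QuadraticMap.comp_apply, QuadraticMap.sq_apply,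
    pairUpOdd, LinearEquiv.coe_mk, LinearMap.coe_mk, AddHom.coe_mk, neg_sub, mul_neg, Finset.sum_neg_distrib,
    sub_neg_eq_add]
  rw [add_comm]
  congr 1
  symm
  refine Fintype.sum_equiv (finCongr (by omega)) _ _ fun i => ?_
  simp

end Coordinates

section Main

variable {M : Type u} [AddCommGroup M] [Module R M] [Module.Free R M] [Module.Finite R M] {m : ℕ}

theorem exists_fppf_hyp_even (b : Module.Basis (Fin (2 * m)) R M) (Q : QuadraticForm R M)
    (hQ : IsRegular Q) :
    ∃ (A : Type u) (_ : CommRing A) (_ : Algebra R A), Module.FaithfullyFlat R A ∧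
      Algebra.FinitePresentation R A ∧ Nonempty ((baseChangeForm A Q).IsometryEquiv (hyp A m)) := by
  obtain ⟨A, _, _, hff, hfp, G, hG, ht⟩ :=
    exists_faithfullyFlat_table_even ((isRegular_iff_isUnit_det b Q).mp hQ)
  refine ⟨A, inferInstance, inferInstance, hff, hfp,
    nonempty_isometry (b.baseChange A) ((Pi.basisFun A (Fin (2 * m))).map (pairUp A m)) _ _ hG ?_⟩
  rw [coeffs_baseChange, coeffs_map _ _ _ _ (hyp_pairUp A m), ht]
  exact map_table_splitForm (algebraMap R A)

theorem exists_fppf_hyp_odd (b : Module.Basis (Fin (2 * m + 1)) R M) (Q : QuadraticForm R M)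
    (hQ : IsSemiregular b (LinearEquiv.refl R R) Q) :
    ∃ (A : Type u) (_ : CommRing A) (_ : Algebra R A), Module.FaithfullyFlat R A ∧
      Algebra.FinitePresentation R A ∧
      Nonempty ((baseChangeForm A Q).IsometryEquiv (-CliffordAlgebra.EquivEven.Q' (hyp A m))) := by
  let q₀ := Q.comp b.equivFun.symm.toLinearMap
  have h0 : coeffs (Pi.basisFun R _) (LinearEquiv.refl R R) q₀ = coeffs b (LinearEquiv.refl R R) Q := by
    funext p
    induction p using Sym2.ind with
    | _ i j =>
      have hs : ∀ k, b.equivFun.symm (Pi.single k (1 : R)) = b k := fun k => by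
        rw [LinearEquiv.symm_apply_eq]; ext l; simp [Pi.single_apply, eq_comm, Finsupp.single_apply]
      simp [coeffs_mk, q₀, QuadraticMap.polar, map_add, hs, -Module.Basis.equivFun_symm_apply]
  obtain ⟨A, _, _, hff, hfp, G, hG, ht⟩ := exists_faithfullyFlat_table (m := m) (Q := q₀)
    (by change IsUnit (hd _); rw [h0]; exact hQ)
  refine ⟨A, inferInstance, inferInstance, hff, hfp,
    nonempty_isometry (b.baseChange A) ((Pi.basisFun A (Fin (2 * m + 1))).map (pairUpOdd A m)) _ _ hG ?_⟩
  rw [coeffs_baseChange, coeffs_map _ _ _ _ (neg_hyp_pairUpOdd A m)]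
  simp only [QuadCoord.table, h0] at ht
  rw [ht]
  exact map_table_splitForm (algebraMap R A)

end Main

end GrothLib.Cliff28
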