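import Groth.Agent.Lib.QuadGrp.HalfDisc
import Mathlib.LinearAlgebra.Matrix.Determinant.Basic
import Mathlib.Algebra.MvPolynomial.Division

/-!
# The half-discriminant of a form with an orthogonal line
-/

set_option autoImplicit false

open GrothLib.QuadHalfDisc Matrix

namespace GrothLib.Cliff28

theorem hd_block {R : Type*} [CommRing R] {n : ℕ} (a : Sym2 (Fin (n + 1)) → R) (hn : Even n)
    (h0 : ∀ j : Fin n, a (Sym2.mk 0 j.succ) = 0) :
    hd a = a (Sym2.mk 0 0) * (polarMat fun p => a (p.map Fin.succ)).det := by
  classical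
  let T := MvPolynomial (Option (Sym2 (Fin n))) ℤ
  let f : Fin (n + 1) → Fin (n + 1) → T := fun i j =>
    Fin.cases (Fin.cases (MvPolynomial.X none) (fun _ => 0) j)
      (fun i' => Fin.cases 0 (fun j' => MvPolynomial.X (some (Sym2.mk i' j'))) j) i
  have hf : ∀ i j, f i j = f j i := by
    intro i j
    refine Fin.cases ?_ (fun i' => ?_) i <;> refine Fin.cases ?_ (fun j' => ?_) j <;>
      simp [f, Sym2.eq_swap]
  let σ : Sym2 (Fin (n + 1)) → T := Sym2.lift ⟨f, hf⟩
  have hdet : (polarMat σ).det =
      2 * (MvPolynomial.X none * (polarMat fun p => σ (p.map Fin.succ)).det) := by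
    rw [Matrix.det_succ_row_zero, Finset.sum_eq_single (0 : Fin (n + 1))]
    · have hsub : (polarMat σ).submatrix Fin.succ (0 : Fin (n + 1)).succAbove =
          polarMat fun p => σ (p.map Fin.succ) := by
        ext i j
        simp [polarMat, Fin.succ_inj]
      rw [hsub]
      simp [polarMat, σ, f]
      ring
    · intro j _ hj
      obtain ⟨j', rfl⟩ := Fin.exists_succ_eq_of_ne_zero hj
      have : polarMat σ 0 j'.succ = 0 := by
        simp [polarMat, σ, f, (Fin.succ_ne_zero j').symm]
      simp [this]
    · simp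
  have hodd : Odd (n + 1) := hn.add_one
  have huniv : hd σ = MvPolynomial.X none * (polarMat fun p => σ (p.map Fin.succ)).det :=
    mul_left_cancel₀ (show (2 : T) ≠ 0 by
      intro h
      have := congrArg MvPolynomial.constantCoeff h
      rw [map_ofNat, map_zero] at this
      exact absurd this (by decide)) ((two_mul_hd hodd σ).trans hdet)
  let φ : T →+* R := MvPolynomial.eval₂Hom (Int.castRingHom R) fun o =>
    o.elim (a (Sym2.mk 0 0)) fun p => a (p.map Fin.succ)
  have hφ : (fun p => φ (σ p)) = a := funext fun p => by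
    induction p using Sym2.ind with
    | _ i j =>
      refine Fin.cases ?_ (fun i' => ?_) i <;> refine Fin.cases ?_ (fun j' => ?_) j
      · exact MvPolynomial.eval₂Hom_X' _ _ none
      · simp [φ, σ, f, h0]
      · simp [φ, σ, f]; rw [Sym2.eq_swap, h0]
      · exact MvPolynomial.eval₂Hom_X' _ _ (some s(i', j'))
  have := congrArg φ huniv
  rw [map_hd, hφ, map_mul, RingHom.map_det] at this
  rw [this]
  congr 1
  · exact MvPolynomial.eval₂Hom_X' _ _ none
  · congr 1
    ext i j
    have h := congrFun hφ (Sym2.mk i.succ j.succ)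
    simp only [RingHom.mapMatrix_apply, Matrix.map_apply, polarMat, of_apply, Sym2.map_mk]
    split_ifs <;> simp [h, map_ofNat]

end GrothLib.Cliff28
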