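import Groth.Agent.Lib.Cliff28.Split
import Mathlib.RingTheory.Smooth.Flat
import Mathlib.RingTheory.AdjoinRoot
import Mathlib.RingTheory.Flat.FaithfullyFlat.Algebra

/-!
# Semiregular forms are fppf-locally split

`GrothLib.Cliff28`: the scheme of changes of coordinates with prescribed determinant between two
coefficient tables is smooth in odd rank, hence split forms are fppf-local models.
-/

set_option autoImplicit false

namespace GrothLib.Cliff28

open Matrix GrothLib.QuadHalfDisc GrothLib.QuadTable QuadGrp TensorProduct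

universe u

variable {R : Type u} [CommRing R] {n : ℕ}

/-- The universal matrix. -/
noncomputable def xMat (R : Type u) [CommRing R] (n : ℕ) :
    Matrix (Fin n) (Fin n) (MvPolynomial (Fin n × Fin n) R) :=
  of fun i j => MvPolynomial.X (i, j)

/-- The equations of the changes of coordinates from `a` to `b`, of determinant `d` if given. -/
noncomputable def isomRels (a b : Sym2 (Fin n) → R) (d : Option R) :
    Option (Sym2 (Fin n)) → MvPolynomial (Fin n × Fin n) R
  | some p => transform (fun q => algebraMap R _ (a q)) (xMat R n) p - algebraMap R _ (b p)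
  | none => d.elim 0 fun e => (xMat R n).det - algebraMap R _ e

/-- Their coordinate ring. -/
abbrev IsomRing (a b : Sym2 (Fin n) → R) (d : Option R) :=
  MvPolynomial (Fin n × Fin n) R ⧸ Ideal.span (Set.range (isomRels a b d))

variable {a b : Sym2 (Fin n) → R} {d : Option R} {A : Type u} [CommRing A] [Algebra R A]

/-- The matrix of a point. -/
noncomputable def isomMat (φ : IsomRing a b d →ₐ[R] A) : Matrix (Fin n) (Fin n) A :=
  (xMat R n).map (φ.comp (Ideal.Quotient.mkₐ R _)).toRingHom

theorem isomMat_spec (φ : IsomRing a b d →ₐ[R] A) :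
    transform (fun q => algebraMap R A (a q)) (isomMat φ) = (fun q => algebraMap R A (b q)) ∧
      ∀ e, d = some e → (isomMat φ).det = algebraMap R A e := by
  have h : ∀ x, (φ.comp (Ideal.Quotient.mkₐ R _)).toRingHom (isomRels a b d x) = 0 := fun x => by
    change φ (Ideal.Quotient.mk _ (isomRels a b d x)) = 0
    rw [Ideal.Quotient.eq_zero_iff_mem.2 (Ideal.subset_span (Set.mem_range_self x)), map_zero]
  refine ⟨funext fun p => ?_, ?_⟩
  · have e := h (some p)
    rw [isomRels, map_sub, map_transform, sub_eq_zero] at e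
    simp only [AlgHom.toRingHom_eq_coe, RingHom.coe_coe, AlgHom.commutes] at e
    exact e
  · rintro e₀ rfl
    have e := h none
    rw [isomRels, Option.elim_some, map_sub, RingHom.map_det, RingHom.mapMatrix_apply, sub_eq_zero] at e
    simp only [AlgHom.toRingHom_eq_coe, RingHom.coe_coe, AlgHom.commutes] at e
    exact e

theorem exists_isomMat {G : Matrix (Fin n) (Fin n) A}
    (ht : transform (fun q => algebraMap R A (a q)) G = fun q => algebraMap R A (b q))
    (hd' : ∀ e, d = some e → G.det = algebraMap R A e) : ∃ φ : IsomRing a b d →ₐ[R] A, isomMat φ = G := by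
  let ev : MvPolynomial (Fin n × Fin n) R →ₐ[R] A := MvPolynomial.aeval fun ij => G ij.1 ij.2
  have hev : (xMat R n).map ev.toRingHom = G := Matrix.ext fun i j => MvPolynomial.aeval_X _ _
  have hker : ∀ x ∈ Ideal.span (Set.range (isomRels a b d)), ev x = 0 := by
    intro x hx
    refine (RingHom.mem_ker (f := ev.toRingHom)).1 (Ideal.span_le.2 ?_ hx)
    rintro _ ⟨y, rfl⟩
    rw [SetLike.mem_coe, RingHom.mem_ker]
    rcases y with _ | p
    · rw [isomRels]
      rcases d with _ | e
      · exact map_zero _
      · rw [Option.elim_some, map_sub, RingHom.map_det, RingHom.mapMatrix_apply, hev, sub_eq_zero]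
        simp only [AlgHom.toRingHom_eq_coe, RingHom.coe_coe, AlgHom.commutes]
        exact hd' e rfl
    · rw [isomRels, map_sub, map_transform, hev, sub_eq_zero]
      simp only [AlgHom.toRingHom_eq_coe, RingHom.coe_coe, AlgHom.commutes]
      exact congrFun ht p
  exact ⟨Ideal.Quotient.liftₐ _ ev hker, hev⟩

theorem isomRing_finitePresentation : Algebra.FinitePresentation R (IsomRing a b d) :=
  Algebra.FinitePresentation.quotient (Submodule.fg_span (Set.finite_range _))

theorem isomRing_formallySmooth (hn : Odd n) {d : R} (hd' : IsUnit d) (hb : IsUnit (hd b))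
    (hab : d ^ 2 * hd a = hd b) : Algebra.FormallySmooth R (IsomRing a b (some d)) := by
  refine Algebra.FormallySmooth.of_comp_surjective fun B _ _ I hI φ => ?_
  choose G₀ hG₀ using fun i j => Ideal.Quotient.mk_surjective (isomMat φ i j)
  let G : Matrix (Fin n) (Fin n) B := Matrix.of G₀
  have eG : G.map (Ideal.Quotient.mk I) = isomMat φ := Matrix.ext fun i j => hG₀ i j
  have hI' : ∀ x ∈ I, ∀ y ∈ I, x * y = (0 : B) := QuadCoord.mul_eq_zero_of_sq I hI
  set aB : Sym2 (Fin n) → B := fun q => algebraMap R B (a q) with haB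
  set bB : Sym2 (Fin n) → B := fun q => algebraMap R B (b q) with hbB
  have hbu : IsUnit (hd bB) := by rw [hbB, ← map_hd]; exact hb.map _
  set dB : B := algebraMap R B d with hdB
  obtain ⟨e, he⟩ := (hd'.map (algebraMap R B)).exists_left_inv
  have hab' : dB ^ 2 * hd aB = hd bB := by
    rw [hdB, haB, hbB, ← map_hd, ← map_hd, ← map_pow, ← map_mul, hab]
  set δ := transform aB G - bB with hδ
  have hδI : ∀ q, δ q ∈ I := fun q => by
    rw [hδ, Pi.sub_apply, ← Ideal.Quotient.eq, map_transform, eG]
    exact congrFun (isomMat_spec φ).1 q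
  have hσ : G.det - dB ∈ I := by
    rw [← Ideal.Quotient.eq, RingHom.map_det, RingHom.mapMatrix_apply, eG]
    exact (isomMat_spec φ).2 d rfl
  have htG : transform aB G = bB + δ := by rw [hδ, add_sub_cancel]
  have hkey : (adjugate (polarMat bB) * triMat δ).trace = 2 * dB * hd aB * (G.det - dB) := by
    have h := hd_transform hn aB G
    rw [htG, hd_add hn bB δ fun p q => hI' _ (hδI p) _ (hδI q), ← hab'] at h
    linear_combination h + hd aB * hI' _ hσ _ hσ
  obtain ⟨Y, hY, hPY, htr⟩ := exists_solve hn bB hbu I ((-1 : B) • δ)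
    (fun q => I.mul_mem_left _ (hδI q)) (e * (dB - G.det))
    (I.mul_mem_left _ (by rw [← neg_sub]; exact I.neg_mem hσ))
    (by
      rw [triMat_smul, Matrix.mul_smul, trace_smul, hkey, smul_eq_mul, ← hab']
      linear_combination (-2 * dB * hd aB * (dB - G.det)) * he)
  have hdet : (G * (1 + Y)).det = dB := by
    rw [det_mul, det_one_add I hI' hY, htr]
    linear_combination (dB - G.det) * he + e * hI' _ hσ _ (show dB - G.det ∈ I by
      rw [← neg_sub]; exact I.neg_mem hσ)
  have ht : transform aB (G * (1 + Y)) = bB := by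
    rw [transform_mul, htG, transform_one_add I hI' _ hY, polarMat_add_mul I hI' hδI hY, hPY,
      neg_one_smul, add_neg_cancel_right]
  obtain ⟨ψ, hψ⟩ := exists_isomMat (d := some d) ht fun _ h => Option.some.inj h ▸ hdet
  refine ⟨ψ, Ideal.Quotient.algHom_ext _ (MvPolynomial.algHom_ext fun ij => ?_)⟩
  have e1 : Ideal.Quotient.mk I (isomMat ψ ij.1 ij.2) = isomMat φ ij.1 ij.2 := by
    rw [hψ, ← eG, Matrix.map_apply]
    refine Ideal.Quotient.eq.2 ?_
    rw [Matrix.mul_add, Matrix.mul_one, Matrix.add_apply, add_sub_cancel_left]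
    exact mul_mem_right_matrix I hY _ _
  exact e1

theorem transform_neg (G : Matrix (Fin n) (Fin n) R) : transform a (-G) = transform a G := by
  rw [transform_eq, transform_eq]
  simp

theorem map_splitForm {S : Type u} [CommRing S] (f : R →+* S) (x : Fin n → R) :
    f (splitForm R n x) = splitForm S n (f ∘ x) := by
  unfold splitForm
  split_ifs with h <;>
    simp [QuadraticMap.sum_apply, QuadraticMap.linMulLin_apply, QuadraticMap.sq_apply]

theorem map_table_splitForm {S : Type u} [CommRing S] (f : R →+* S) :
    (fun q => f (QuadCoord.table (splitForm R n) q)) = QuadCoord.table (splitForm S n) := by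
  have hsingle : ∀ i, f ∘ (Pi.single i (1 : R) : Fin n → R) = Pi.single i 1 := fun i => by
    ext j; rcases eq_or_ne j i with rfl | h <;> simp [*]
  have hadd : ∀ x y : Fin n → R, f ∘ (x + y) = f ∘ x + f ∘ y := fun x y => funext fun i => map_add f _ _
  funext p
  induction p using Sym2.ind with
  | _ i j =>
    simp only [QuadCoord.table, coeffs_mk, Pi.basisFun_apply, LinearEquiv.refl_apply,
      QuadraticMap.polar]
    split_ifs with h <;> simp [map_splitForm, hadd, hsingle]

section Odd

variable {m : ℕ} {Q : QuadraticForm R (Fin (2 * m + 1) → R)}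

theorem isUnit_hd_splitForm
    (hQ : IsSemiregular (Pi.basisFun R (Fin (2 * m + 1))) (LinearEquiv.refl R R) Q) :
    IsUnit (hd (QuadCoord.table (splitForm R (2 * m + 1)))) := by
  by_contra hne
  obtain ⟨p, hp, hmem⟩ := exists_max_ideal_of_mem_nonunits hne
  letI : Field (R ⧸ p) := Ideal.Quotient.field p
  let f : R →+* AlgebraicClosure (R ⧸ p) :=
    (algebraMap (R ⧸ p) (AlgebraicClosure (R ⧸ p))).comp (Ideal.Quotient.mk p)
  obtain ⟨G, hG, ht⟩ := exists_split_matrix_odd m (fun q => f (QuadCoord.table Q q))
    (by rw [← map_hd]; exact hQ.map f)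
  have h := congrArg hd ht
  rw [hd_transform (odd_two_mul_add_one m)] at h
  change G.det ^ 2 * hd (fun q => f (QuadCoord.table Q q)) = hd (QuadCoord.table _) at h
  rw [← map_table_splitForm f, ← map_hd, ← map_hd] at h
  have hu : G.det ^ 2 * f (hd (QuadCoord.table Q)) ≠ 0 := ((hG.pow 2).mul (hQ.map f)).ne_zero
  rw [h] at hu
  exact hu (by simp [f, Ideal.Quotient.eq_zero_iff_mem.2 hmem])

theorem exists_faithfullyFlat_table
    (hQ : IsSemiregular (Pi.basisFun R (Fin (2 * m + 1))) (LinearEquiv.refl R R) Q) :
    ∃ (A : Type u) (_ : CommRing A) (_ : Algebra R A), Module.FaithfullyFlat R A ∧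
      Algebra.FinitePresentation R A ∧ ∃ G : Matrix (Fin (2 * m + 1)) (Fin (2 * m + 1)) A, IsUnit G.det ∧
        transform (fun q => algebraMap R A (QuadCoord.table Q q)) G =
          fun q => algebraMap R A (QuadCoord.table (splitForm R (2 * m + 1)) q) := by
  have hn := odd_two_mul_add_one m
  set a := QuadCoord.table Q with ha
  set b := QuadCoord.table (splitForm R (2 * m + 1)) with hb
  have hau : IsUnit (hd a) := hQ
  have hbu : IsUnit (hd b) := isUnit_hd_splitForm hQ
  let u : R := hd b * ↑hau.unit⁻¹
  let R1 := AdjoinRoot (Polynomial.X ^ 2 - Polynomial.C u)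
  have hmon : (Polynomial.X ^ 2 - Polynomial.C u).Monic := Polynomial.monic_X_pow_sub_C u two_ne_zero
  haveI hff : Module.FaithfullyFlat R R1 := by
    rcases subsingleton_or_nontrivial R with h | h
    · exact Module.FaithfullyFlat.of_linearEquiv R R
        { toFun := fun _ => 0, invFun := fun _ => 0, map_add' := fun _ _ => Subsingleton.elim _ _,
          map_smul' := fun _ _ => Subsingleton.elim _ _,
          left_inv := fun x => by
            haveI := Module.subsingleton R R1
            exact Subsingleton.elim _ _,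
          right_inv := fun _ => Subsingleton.elim _ _ }
    · let pb := AdjoinRoot.powerBasis' hmon
      haveI : Nonempty (Fin pb.dim) := ⟨⟨0, by
        rw [AdjoinRoot.powerBasis'_dim, Polynomial.natDegree_X_pow_sub_C]; exact two_pos⟩⟩
      exact Module.FaithfullyFlat.of_linearEquiv R _ pb.basis.repr
  haveI : Algebra.FinitePresentation R R1 := inferInstance
  set d : R1 := AdjoinRoot.root (Polynomial.X ^ 2 - Polynomial.C u) with hd0
  have hdsq : d ^ 2 = algebraMap R R1 u := by
    have := AdjoinRoot.eval₂_root (Polynomial.X ^ 2 - Polynomial.C u)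
    rw [Polynomial.eval₂_sub, Polynomial.eval₂_X_pow, Polynomial.eval₂_C, sub_eq_zero] at this
    exact this
  set a1 : Sym2 (Fin (2 * m + 1)) → R1 := fun q => algebraMap R R1 (a q) with ha1
  set b1 : Sym2 (Fin (2 * m + 1)) → R1 := fun q => algebraMap R R1 (b q) with hb1
  have hab : d ^ 2 * hd a1 = hd b1 := by
    rw [hdsq, ha1, hb1, ← map_hd, ← map_hd, ← map_mul]
    simp [u, mul_assoc]
  have hdu : IsUnit d := by
    refine (isUnit_pow_iff two_ne_zero).mp ?_
    rw [hdsq]
    exact (hbu.mul (Units.isUnit _)).map _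
  have hb1u : IsUnit (hd b1) := by rw [hb1, ← map_hd]; exact hbu.map _
  let T := IsomRing a1 b1 (some d)
  haveI : Algebra.FormallySmooth R1 T := isomRing_formallySmooth hn hdu hb1u hab
  haveI : Algebra.FinitePresentation R1 T := isomRing_finitePresentation
  haveI : Algebra.Smooth R1 T := ⟨inferInstance, inferInstance⟩
  haveI hTff : Module.FaithfullyFlat R1 T := by
    refine Module.FaithfullyFlat.of_comap_surjective fun P => ?_
    let K := AlgebraicClosure P.asIdeal.ResidueField
    let f : R1 →+* K := (algebraMap P.asIdeal.ResidueField K).comp (algebraMap R1 _)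
    letI : Algebra R1 K := f.toAlgebra
    have hfd : f d ≠ 0 := (hdu.map f).ne_zero
    obtain ⟨G, hG, ht⟩ := exists_split_matrix_odd m (fun q => f (a1 q))
      (by rw [← map_hd, ha1, ← map_hd]; exact (hau.map (algebraMap R R1)).map f)
    have hbK : (fun q => f (b1 q)) = QuadCoord.table (splitForm K (2 * m + 1)) :=
      map_table_splitForm (f.comp (algebraMap R R1))
    change transform _ G = QuadCoord.table _ at ht
    rw [← hbK] at ht
    obtain ⟨G', hG', ht'⟩ : ∃ G' : Matrix (Fin (2 * m + 1)) (Fin (2 * m + 1)) K, G'.det = f d ∧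
        transform (fun q => f (a1 q)) G' = fun q => f (b1 q) := by
      have h := congrArg hd ht
      rw [hd_transform hn, ← map_hd f a1, ← map_hd f b1] at h
      replace h : G.det ^ 2 * f (hd a1) = f d ^ 2 * f (hd a1) := by
        rw [h, ← map_pow, ← map_mul]
        exact congrArg f hab.symm
      have h0 : f (hd a1) ≠ 0 := by
        rw [ha1, ← map_hd]
        exact ((hau.map (algebraMap R R1)).map f).ne_zero
      rcases sq_eq_sq_iff_eq_or_eq_neg.mp (mul_right_cancel₀ h0 h) with e | e
      · exact ⟨G, e, ht⟩
      · exact ⟨-G, by rw [det_neg, Fintype.card_fin, hn.neg_one_pow, e]; ring,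
          (transform_neg G).trans ht⟩
    obtain ⟨φ, -⟩ := exists_isomMat (R := R1) (a := a1) (b := b1) (d := some d) ht'
      fun _ h => Option.some.inj h ▸ hG'
    refine ⟨⟨RingHom.ker φ.toRingHom, RingHom.ker_isPrime _⟩, PrimeSpectrum.ext ?_⟩
    change (RingHom.ker φ.toRingHom).comap (algebraMap R1 T) = P.asIdeal
    rw [RingHom.comap_ker, show φ.toRingHom.comp (algebraMap R1 T) = f from RingHom.ext φ.commutes,
      RingHom.ker_comp_of_injective _ (algebraMap P.asIdeal.ResidueField K).injective]
    exact Ideal.ker_algebraMap_residueField P.asIdeal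
  refine ⟨T, inferInstance, inferInstance, Module.FaithfullyFlat.trans R R1 T,
    Algebra.FinitePresentation.trans R R1 T, isomMat (AlgHom.id R1 T), ?_, ?_⟩
  · rw [(isomMat_spec (AlgHom.id R1 T)).2 d rfl]
    exact hdu.map _
  · simpa only [ha1, hb1, ← IsScalarTower.algebraMap_apply] using (isomMat_spec (AlgHom.id R1 T)).1

end Odd

theorem nonempty_isometry_of_table {Q Q' : QuadraticForm R (Fin n → R)}
    {G : Matrix (Fin n) (Fin n) A} (hG : IsUnit G.det)
    (ht : transform (fun q => algebraMap R A (QuadCoord.table Q q)) G =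
      fun q => algebraMap R A (QuadCoord.table Q' q)) :
    Nonempty ((baseChangeForm A Q).IsometryEquiv (baseChangeForm A Q')) := by
  let c := QuadCoord.stdBasis (R := R) (n := n) A
  let f := (LinearMap.toMatrix c c).symm G
  have hf : LinearMap.toMatrix c c f = G := LinearEquiv.apply_symm_apply _ _
  have hu : IsUnit (LinearMap.toMatrix c c f).det := by rw [hf]; exact hG
  let g := LinearEquiv.ofIsUnitDet (f := f) hu
  have e : (baseChangeForm A Q).comp g.toLinearMap = baseChangeForm A Q' := by
    refine QuadCoord.eq_of_coeffs_eq c ?_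
    rw [coeffs_comp, QuadCoord.coeffs_baseChangeForm, QuadCoord.coeffs_baseChangeForm,
      LinearEquiv.coe_ofIsUnitDet, hf, ht]
  exact ⟨(QuadraticMap.IsometryEquiv.mk g fun v => QuadraticMap.congr_fun e v :
    (baseChangeForm A Q').IsometryEquiv (baseChangeForm A Q)).symm⟩

end GrothLib.Cliff28
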