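import Groth.Agent.Lib.Cliff28.TopCoeff
import Mathlib.RingTheory.LocalRing.Module

/-!
# The Arf element of a regular quadratic form of even rank over a local ring

`GrothLib.Cliff28.exists_arf`: a regular quadratic form of rank `2m` over a local ring is an
orthogonal sum of planes, so its Clifford algebra has an even `ζ` with `v ζ = (1 - ζ) v`,
`ζ² - ζ = c` scalar with `1 + 4c` a unit, and `2ζ - 1` of top coefficient a unit times `2 ^ m`.
-/

set_option autoImplicit false
set_option linter.unusedSectionVars false

open CliffordAlgebra QuadraticMap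

namespace GrothLib.Cliff28

universe u v

variable {R : Type u} [CommRing R]

section Plane

variable {M : Type v} [AddCommGroup M] [Module R M] (Q : QuadraticForm R M)

theorem polar_self' (v : M) : polar Q v v = 2 * Q v := by
  rw [QuadraticMap.polar_self, nsmul_eq_mul, Nat.cast_ofNat]

variable {N : Type*} [AddCommGroup N] [Module R N] {P : QuadraticForm R N} {Q}

theorem ι_mul_map_of_orth (j : P →qᵢ Q) {v : M} (h : ∀ n, polar Q v (j n) = 0)
    (y : CliffordAlgebra P) : ι Q v * map j y = map j (involute y) * ι Q v := by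
  have h0 : (Q.polarBilin v).comp j.toLinearMap = 0 := LinearMap.ext h
  rw [ι_mul_eq, map_involute, map_contractLeft, h0, map_zero, LinearMap.zero_apply, map_zero,
    add_zero]

theorem contract_map_eq_zero (j : P →qᵢ Q) {d : Module.Dual R M} (h : ∀ n, d (j n) = 0)
    (y : CliffordAlgebra P) : contractLeft d (map j y) = 0 := by
  have h0 : d.comp j.toLinearMap = 0 := LinearMap.ext h
  rw [map_contractLeft, h0, map_zero, LinearMap.zero_apply, map_zero]

theorem iter_map (j : P →qᵢ Q) :
    ∀ (l : List (Module.Dual R M)) (y : CliffordAlgebra P),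
      iter Q l (map j y) = map j (iter P (l.map fun d => d.comp j.toLinearMap) y)
  | [], _ => rfl
  | d :: l, y => by rw [iter_cons, map_contractLeft, iter_map j l, List.map_cons, iter_cons]

end Plane

section Arf

/-- `ζ` is an Arf element of the quadratic form `Q` of rank `2 * m`. -/
structure IsArf {M : Type v} [AddCommGroup M] [Module R M] (Q : QuadraticForm R M) (m : ℕ)
    (ζ : CliffordAlgebra Q) : Prop where
  even : ζ ∈ evenOdd Q 0
  twist : ∀ v, ι Q v * ζ = (1 - ζ) * ι Q v
  sq : ∃ c : R, ζ * ζ = ζ + algebraMap R _ c ∧ IsUnit (1 + 4 * c)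
  star_eq : star (2 * ζ - 1) = ((-1 : R) ^ m) • (2 * ζ - 1)
  top : ∃ (I : Type) (_ : Fintype I) (b : Module.Basis I R M) (L : List I),
    (∀ i, i ∈ L) ∧ ∃ s : R, IsUnit s ∧
      iter Q (L.map b.coord) (2 * ζ - 1) = algebraMap R _ (s * 2 ^ m)

variable [IsLocalRing R] {M : Type v} [AddCommGroup M] [Module R M] [Module.Free R M]
  [Module.Finite R M] (Q : QuadraticForm R M)

theorem exists_plane (hQ : QuadGrp.IsRegular Q) (hn : 2 ≤ Module.finrank R M) :
    ∃ a b : M, polar Q a b = 1 ∧ IsUnit (1 - 4 * Q a * Q b) := by
  classical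
  let e := Module.finBasis R M
  have hw : ∀ i, ∃ w, ∀ v, polar Q w v = e.coord i v := fun i => by
    obtain ⟨w, hw⟩ := hQ.2 (e.coord i)
    exact ⟨w, fun v => LinearMap.congr_fun hw v⟩
  choose w hw using hw
  let i : Fin (Module.finrank R M) := ⟨0, by omega⟩
  have huw : polar Q (e i) (w i) = 1 := by
    rw [polar_comm, hw, e.coord_apply, e.repr_self, Finsupp.single_eq_same]
  by_cases h2 : IsUnit (2 : R)
  · obtain ⟨a, ha⟩ : ∃ a, IsUnit (Q a) := by
      by_contra hall
      push Not at hall
      have h : Q (e i + w i) - Q (e i) - Q (w i) = 1 := huw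
      have : (1 : R) ∈ IsLocalRing.maximalIdeal R := by
        rw [← h]
        exact sub_mem (sub_mem (hall _) (hall _)) (hall _)
      exact (IsLocalRing.maximalIdeal.isMaximal R).ne_top ((Ideal.eq_top_iff_one _).mpr this)
    obtain ⟨b, hab, hb⟩ : ∃ b, polar Q a b = 0 ∧ IsUnit (Q b) := by
      set 𝔪 := IsLocalRing.maximalIdeal R
      by_contra hall
      push Not at hall
      let p : M → M := fun v => (2 * Q a) • v - polar Q a v • a
      have hp : ∀ v, polar Q a (p v) = 0 := fun v => by
        simp only [p, polar_sub_right, polar_smul_right, polar_self', smul_eq_mul]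
        ring
      have hQp : ∀ v, Q (p v) ∈ 𝔪 := fun v => hall _ (hp v)
      have hBp : ∀ v v', polar Q (p v) v' ∈ 𝔪 := fun v v' => by
        have h1 : polar Q (p v) (p v') ∈ 𝔪 := by
          rw [polar, show p v + p v' = p (v + v') by
            simp only [p, polar_add_right, smul_add, add_smul]; abel]
          exact sub_mem (sub_mem (hQp _) (hQp _)) (hQp _)
        have h1' : 2 * Q a * polar Q (p v) v' ∈ 𝔪 := by
          convert h1 using 1
          simp only [show p v' = (2 * Q a) • v' - polar Q a v' • a from rfl, polar_sub_right,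
            polar_smul_right, smul_eq_mul]
          rw [polar_comm Q (p v) a, hp, mul_zero, sub_zero]
        exact (IsLocalRing.maximalIdeal.isMaximal R).isPrime.mem_or_mem h1' |>.resolve_left
          fun h => h (h2.mul ha)
      have hc : ∀ v k, e.coord k (p v) ∈ 𝔪 := fun v k => by
        rw [← hw, polar_comm]; exact hBp _ _
      have hunit : ∀ k, IsUnit (polar Q a (e k)) ∧ IsUnit (e.coord k a) := fun k => by
        have h := hc (e k) k
        simp only [p, map_sub, map_smul, e.coord_apply, e.repr_self, Finsupp.single_eq_same,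
          smul_eq_mul, mul_one] at h
        rw [← IsUnit.mul_iff]
        by_contra hk
        refine (h2.mul ha) |> fun hu => ?_
        have : 2 * Q a ∈ 𝔪 := by
          have := add_mem h (show polar Q a (e k) * e.coord k a ∈ 𝔪 from hk)
          simpa using this
        exact this hu
      let j : Fin (Module.finrank R M) := ⟨1, by omega⟩
      have h := hc (e i) j
      simp only [p, map_sub, map_smul, e.coord_apply, e.repr_self, Finsupp.sub_apply,
        Finsupp.smul_apply, smul_eq_mul] at h
      rw [Finsupp.single_eq_of_ne (show j ≠ i by simp [i, j]), mul_zero, zero_sub, neg_mem_iff] at h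
      exact h ((hunit i).1.mul (hunit j).2)
    obtain ⟨u, hu⟩ := h2.mul ha
    refine ⟨a, (↑u⁻¹ : R) • (a + b), ?_, ?_⟩
    · rw [polar_smul_right, polar_add_right, hab, polar_self', add_zero, smul_eq_mul, ← hu,
        Units.inv_mul]
    · have hQab : Q (a + b) = Q a + Q b := by
        have : polar Q a b = 0 := hab
        rw [polar, sub_sub, sub_eq_zero] at this
        exact this
      have : Q a * (1 - 4 * Q a * Q ((↑u⁻¹ : R) • (a + b))) = - Q b := by
        rw [QuadraticMap.map_smul, hQab, smul_eq_mul]
        have hu' : (↑u⁻¹ : R) * (2 * Q a) = 1 := by rw [← hu, Units.inv_mul]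
        linear_combination (-(↑u⁻¹ : R) * (2 * Q a) * (Q a + Q b) - (Q a + Q b)) * hu'
      exact (IsUnit.mul_iff.mp (this ▸ hb.neg)).2
  · refine ⟨e i, w i, huw, ?_⟩
    rcases IsLocalRing.isUnit_or_isUnit_one_sub_self (4 * Q (e i) * Q (w i)) with h | h
    · exact absurd (IsUnit.mul_iff.mp (IsUnit.mul_iff.mp h).1).1 fun h4 => h2 <| by
        rw [show (4 : R) = 2 * 2 by norm_num, IsUnit.mul_iff] at h4
        exact h4.1
    · exact h

end Arf

universe w

theorem exists_arf {R : Type u} [CommRing R] [IsLocalRing R] :
    ∀ (m : ℕ) {M : Type v} [AddCommGroup M] [Module R M] [Module.Free R M] [Module.Finite R M]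
      (Q : QuadraticForm R M), Module.finrank R M = 2 * m → QuadGrp.IsRegular Q →
      ∃ ζ, IsArf Q m ζ := by
  intro m
  induction m with
  | zero =>
    intro M _ _ _ _ Q hM hQ
    haveI : Subsingleton M := by
      rw [← Module.finrank_eq_zero_iff_of_free R]
      exact hM
    refine ⟨0, zero_mem _, fun v => by simp [Subsingleton.elim v 0],
      ⟨0, by simp, by simp⟩, by simp, Fin 0, inferInstance, Module.Basis.empty M, [], fun i => i.elim0,
      -1, isUnit_one.neg, ?_⟩
    simp [iter_nil]
  | succ m ih =>
    intro M _ _ _ _ Q hM hQ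
    obtain ⟨a, b, hab, hδ⟩ := exists_plane Q hQ (by omega)
    obtain ⟨u, hu⟩ := hδ
    set p := Q a with hp
    set r := Q b with hr
    let α : M →ₗ[R] R := (↑u⁻¹ : R) • (Q.polarBilin b - (2 * r) • Q.polarBilin a)
    let β : M →ₗ[R] R := (↑u⁻¹ : R) • (Q.polarBilin a - (2 * p) • Q.polarBilin b)
    have hui : (↑u⁻¹ : R) * (1 - 4 * p * r) = 1 := by rw [← hu, Units.inv_mul]
    have hba : polar Q b a = 1 := by rw [polar_comm, hab]
    have hαa : α a = 1 := by
      simp only [α, LinearMap.smul_apply, LinearMap.sub_apply, polarBilin_apply_apply, hba, polar_self',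
        ← hp, smul_eq_mul]
      linear_combination hui
    have hαb : α b = 0 := by
      simp only [α, LinearMap.smul_apply, LinearMap.sub_apply, polarBilin_apply_apply, hab, polar_self',
        ← hr, smul_eq_mul]
      ring
    have hβa : β a = 0 := by
      simp only [β, LinearMap.smul_apply, LinearMap.sub_apply, polarBilin_apply_apply, hba, polar_self',
        ← hp, smul_eq_mul]
      ring
    have hβb : β b = 1 := by
      simp only [β, LinearMap.smul_apply, LinearMap.sub_apply, polarBilin_apply_apply, hab, polar_self',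
        ← hr, smul_eq_mul]
      linear_combination hui
    let K : Submodule R M := LinearMap.ker (Q.polarBilin a) ⊓ LinearMap.ker (Q.polarBilin b)
    have hKa : ∀ k : K, polar Q a k = 0 := fun k => k.2.1
    have hKb : ∀ k : K, polar Q b k = 0 := fun k => k.2.2
    have hαK : ∀ k : K, α k = 0 := fun k => by simp [α, hKa, hKb]
    have hβK : ∀ k : K, β k = 0 := fun k => by simp [β, hKa, hKb]
    let π : M →ₗ[R] K := (LinearMap.id - α.smulRight a - β.smulRight b).codRestrict K fun v => by
      refine ⟨?_, ?_⟩ <;>
        simp only [LinearMap.mem_ker, polarBilin_apply_apply, LinearMap.sub_apply, LinearMap.id_apply,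
          LinearMap.smulRight_apply, SetLike.mem_coe, polar_sub_right, polar_smul_right, hab, hba,
          polar_self', ← hp, ← hr, α, β, LinearMap.smul_apply, smul_eq_mul]
      · linear_combination (-polar Q a v) * hui
      · linear_combination (-polar Q b v) * hui
    have hπ : ∀ v, v = α v • a + β v • b + (π v : M) := fun v => by simp [π]
    have hπK : ∀ k : K, π k = k := fun k => by ext; simp [π, hαK, hβK]
    haveI : Module.Finite R K := Module.Finite.of_surjective π fun k => ⟨k, hπK k⟩
    haveI : Module.Projective R K :=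
      Module.Projective.of_split K.subtype π (LinearMap.ext hπK)
    haveI : Module.Free R K := Module.free_of_flat_of_isLocalRing
    let e : M ≃ₗ[R] (R × R) × K := LinearEquiv.ofLinearMap ((α.prod β).prod π)
      (((LinearMap.toSpanSingleton R M a).coprod (LinearMap.toSpanSingleton R M b)).coprod K.subtype)
      (by
        have hπa : π a = 0 := by ext; simp [π, hαa, hβa]
        have hπb : π b = 0 := by ext; simp [π, hαb, hβb]
        ext <;> simp [hαa, hαb, hβa, hβb, hαK, hβK, hπa, hπb, hπK, LinearMap.toSpanSingleton])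
      (LinearMap.ext fun v => (hπ v).symm)
    have hK : Module.finrank R K = 2 * m := by
      have := e.finrank_eq
      rw [Module.finrank_prod, Module.finrank_prod, Module.finrank_self, hM] at this
      omega
    let P : QuadraticForm R K := Q.comp K.subtype
    let j : P →qᵢ Q := { K.subtype with map_app' := fun _ => rfl }
    have hP : QuadGrp.IsRegular P := by
      refine ⟨fun k k' hkk => ?_, fun f => ?_⟩
      · refine Subtype.ext (hQ.1 (LinearMap.ext fun v => ?_))
        have := LinearMap.congr_fun hkk (π v)
        change polar Q (k : M) (π v : M) = polar Q (k' : M) (π v : M) at this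
        change polar Q (k : M) v = polar Q (k' : M) v
        rw [hπ v]
        simp only [polar_add_right, polar_smul_right, polar_comm Q (k : M) a,
          polar_comm Q (k : M) b, polar_comm Q (k' : M) a, polar_comm Q (k' : M) b, hKa, hKb, this]
      · obtain ⟨w, hw⟩ := hQ.2 (f ∘ₗ π)
        have hw' : ∀ v, polar Q w v = f (π v) := LinearMap.congr_fun hw
        have hwa : polar Q a w = 0 ∧ polar Q b w = 0 := by
          constructor <;> rw [polar_comm, hw']
          · rw [show π a = 0 by ext; simp [π, hαa, hβa], map_zero]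
          · rw [show π b = 0 by ext; simp [π, hαb, hβb], map_zero]
        refine ⟨⟨w, hwa.1, hwa.2⟩, LinearMap.ext fun k => ?_⟩
        change polar Q w (k : M) = f k
        rw [hw', hπK]
    obtain ⟨ζ', hev', htw', ⟨c', hc', hc'u⟩, hst', I, _, bK, LK, hLK, s, hs, htop⟩ := ih P hK hP
    obtain ⟨x, hx⟩ : ∃ x, x = ι Q a * ι Q b := ⟨_, rfl⟩
    set y := map j ζ' with hy
    have hba' : ι Q b * ι Q a = 1 - x := by
      rw [hx, eq_sub_iff_add_eq, ι_mul_ι_add_swap, hba, map_one]
    have haa : ι Q a * ι Q a = algebraMap R _ p := ι_sq_scalar Q a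
    have hbb : ι Q b * ι Q b = algebraMap R _ r := ι_sq_scalar Q b
    have hax : ι Q a * x = (1 - x) * ι Q a := by
      rw [sub_mul, one_mul, eq_sub_iff_add_eq, hx, mul_assoc (ι Q a) (ι Q b), ← mul_add,
        hba', hx, add_sub_cancel, mul_one]
    have hbx : ι Q b * x = (1 - x) * ι Q b := by rw [← hba', hx, mul_assoc]
    have hay : ι Q a * y = y * ι Q a := by
      rw [hy, ι_mul_map_of_orth j hKa, involute_eq_of_mem_even hev']
    have hby : ι Q b * y = y * ι Q b := by
      rw [hy, ι_mul_map_of_orth j hKb, involute_eq_of_mem_even hev']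
    have hxy : x * y = y * x := by
      rw [hx, mul_assoc, hby, ← mul_assoc, hay, mul_assoc]
    have hkx : ∀ k : K, ι Q k * x = x * ι Q k := fun k => by
      have ha' : ι Q k * ι Q a = -(ι Q a * ι Q k) := by
        rw [eq_neg_iff_add_eq_zero, ι_mul_ι_add_swap, polar_comm, hKa, map_zero]
      have hb' : ι Q k * ι Q b = -(ι Q b * ι Q k) := by
        rw [eq_neg_iff_add_eq_zero, ι_mul_ι_add_swap, polar_comm, hKb, map_zero]
      rw [hx, ← mul_assoc, ha', neg_mul, mul_assoc, hb', mul_neg, neg_neg, mul_assoc]
    have hky : ∀ k : K, ι Q k * y = (1 - y) * ι Q k := fun k => by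
      have := congrArg (map j) (htw' k)
      rwa [map_mul, map_mul, map_sub, map_one, map_apply_ι] at this
    have hxx : x * x = x + algebraMap R _ (-(p * r)) := by
      calc x * x = ι Q a * (ι Q b * ι Q a) * ι Q b := by simp only [hx, mul_assoc]
        _ = x - (ι Q a * ι Q a) * (ι Q b * ι Q b) := by
          rw [hba', hx]; noncomm_ring
        _ = _ := by rw [haa, hbb, map_neg, map_mul, sub_eq_add_neg]
    have hyy : y * y = y + algebraMap R _ c' := by
      rw [hy, ← map_mul, hc', map_add, AlgHom.commutes]
    have hxe : x ∈ evenOdd Q 0 := hx ▸ ι_mul_ι_mem_evenOdd_zero Q a b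
    have hye : y ∈ evenOdd Q 0 := map_mem_evenOdd j 0 hev'
    have hz : 2 * (x + y - 2 * (x * y)) - 1 = -((2 * x - 1) * map j (2 * ζ' - 1)) := by
      rw [map_sub, map_mul, map_ofNat, map_one, ← hy]
      noncomm_ring
    refine ⟨x + y - 2 * (x * y), ?_, fun v => ?_, ⟨-(p * r) + c' + 4 * (-(p * r) * c'), ?_, ?_⟩, ?_, ?_⟩
    · refine sub_mem (add_mem hxe hye) ?_
      rw [two_mul]
      exact add_mem (by simpa using SetLike.mul_mem_graded hxe hye)
        (by simpa using SetLike.mul_mem_graded hxe hye)
    · have H : ∀ w, (ι Q w * x = (1 - x) * ι Q w ∧ ι Q w * y = y * ι Q w) ∨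
          (ι Q w * x = x * ι Q w ∧ ι Q w * y = (1 - y) * ι Q w) →
          ι Q w * (x + y - 2 * (x * y)) = (1 - (x + y - 2 * (x * y))) * ι Q w := by
        rintro w (⟨h1, h2⟩ | ⟨h1, h2⟩)
        · calc ι Q w * (x + y - 2 * (x * y))
              = ι Q w * x + ι Q w * y - 2 * ((ι Q w * x) * y) := by noncomm_ring
            _ = (1 - x) * ι Q w + y * ι Q w - 2 * ((1 - x) * (ι Q w * y)) := by
              rw [h1, h2, mul_assoc (1 - x), h2]
            _ = _ := by rw [h2]; noncomm_ring
        · calc ι Q w * (x + y - 2 * (x * y))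
              = ι Q w * x + ι Q w * y - 2 * ((ι Q w * x) * y) := by noncomm_ring
            _ = x * ι Q w + (1 - y) * ι Q w - 2 * (x * (ι Q w * y)) := by
              rw [h1, h2, mul_assoc x, h2]
            _ = _ := by rw [h2]; noncomm_ring
      rw [hπ v]
      simp only [map_add, map_smul, add_mul, smul_mul_assoc, mul_add, mul_smul_comm]
      rw [H a (Or.inl ⟨hax, hay⟩), H b (Or.inl ⟨hbx, hby⟩), H _ (Or.inr ⟨hkx _, hky _⟩)]
    · calc (x + y - 2 * (x * y)) * (x + y - 2 * (x * y))
          = x * x + x * y + y * x + y * y - 2 * (x * x * y) - 2 * (y * x * y) - 2 * (x * y * x)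
            - 2 * (x * (y * y)) + 4 * (x * y * x * y) := by noncomm_ring
        _ = x * x + 2 * (x * y) + y * y - 4 * (x * x * y) - 4 * (x * (y * y))
            + 4 * (x * x * (y * y)) := by
          rw [← hxy, show x * y * x = x * x * y by rw [mul_assoc, ← hxy, mul_assoc]]
          noncomm_ring
        _ = _ := by
          rw [hxx, hyy, map_add, map_add, map_mul, map_mul, map_ofNat]
          noncomm_ring
    · have hu2 : 1 + 4 * (-(p * r) + c' + 4 * (-(p * r) * c')) = (1 - 4 * p * r) * (1 + 4 * c') := by
        ring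
      rw [hu2, ← hu]
      exact u.isUnit.mul hc'u
    · have hsx : star (2 * x - 1) = -(2 * x - 1) := by
        simp only [hx, star_sub, star_one, two_mul, star_add, star_mul, star_ι, neg_mul_neg, hba']
        abel
      rw [hz, star_neg, star_mul, hsx, map_star, hst', map_smul, smul_mul_assoc, mul_neg,
        pow_succ, mul_neg_one, neg_smul, smul_neg, neg_neg, smul_neg]
      rw [neg_neg]
      congr 1
      have hcomm : Commute (map j (2 * ζ' - 1)) (2 * x - 1) := by
        rw [map_sub, map_mul, map_ofNat, map_one, ← hy]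
        exact (((Commute.ofNat_right _ 2).mul_right ((Commute.ofNat_left 2 _).mul_left
          hxy.symm)).sub_right (Commute.one_right _)).sub_left (Commute.one_left _)
      exact hcomm
    · let c := ((Module.Basis.finTwoProd R).prod bK).map e.symm
      refine ⟨Fin 2 ⊕ I, inferInstance, c, [Sum.inl 0, Sum.inl 1] ++ LK.map Sum.inr, ?_,
        -s, hs.neg, ?_⟩
      · rintro (i | i)
        · fin_cases i <;> simp
        · simp [hLK i]
      have hc0 : c.coord (Sum.inl 0) = α := LinearMap.ext fun v => by simp [c, e]
      have hc1 : c.coord (Sum.inl 1) = β := LinearMap.ext fun v => by simp [c, e]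
      have hci : ∀ i, (c.coord (Sum.inr i)).comp j.toLinearMap = bK.coord i := fun i =>
        LinearMap.ext fun k => by simp [c, e, j, hπK]
      set Y := map j (2 * ζ' - 1) with hY
      have hαY : contractLeft α Y = 0 := contract_map_eq_zero j hαK _
      have hβY : contractLeft β Y = 0 := contract_map_eq_zero j hβK _
      rw [hz, map_neg, List.map_append, iter_append, List.map_cons, List.map_cons, List.map_nil,
        iter_cons, iter_cons, iter_nil, hc0, hc1, sub_mul, one_mul, map_sub (contractLeft α), hαY,
        sub_zero, hx, mul_assoc, mul_assoc, two_mul, map_add (contractLeft α),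
        contractLeft_ι_mul, hαa, one_smul, contractLeft_ι_mul, hαb, hαY, zero_smul, mul_zero,
        sub_zero, mul_zero, sub_zero, map_add (contractLeft β), contractLeft_ι_mul, hβb, hβY,
        one_smul, mul_zero, sub_zero, hY, List.map_map, map_add, iter_map, List.map_map,
        show ((fun d => d.comp j.toLinearMap) ∘ c.coord ∘ Sum.inr) = bK.coord from funext hci, htop,
        AlgHom.commutes, ← map_add, ← map_neg]
      congr 1
      ring

end GrothLib.Cliff28
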