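import Groth.Agent.Lib.Cliff28.Represent
import Groth.Agent.Lib.Cliff28.EvenGlobal
import Groth.Agent.Lib.Cliff28.EvenLocal
import Groth.Agent.Lib.Cliff28.Fppf
import Groth.Agent.Lib.RedSmooth.Basic
import Mathlib.Algebra.Field.ZMod
import Mathlib.RingTheory.TensorProduct.Quotient
import Mathlib.RingTheory.Int.Basic

/-!
# The naive special orthogonal group of even rank is reduced and not flat over the integers
-/

set_option autoImplicit false
set_option linter.unusedSectionVars false

open Matrix GrothLib.QuadHalfDisc GrothLib.QuadTable QuadGrp TensorProduct CliffordAlgebra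

namespace GrothLib.Cliff28

universe u

open GrothLib.QuadCoord hiding stdBasis

theorem hyp_regular (A : Type u) [CommRing A] (m : ℕ) : QuadGrp.IsRegular (hyp A m) := by
  refine ⟨fun v w h => ?_, fun d => ?_⟩
  · refine Prod.ext (funext fun i => ?_) (funext fun i => ?_)
    · have e := LinearMap.congr_fun h ((0, Pi.single i 1) : HypSpace A m)
      simpa [QuadraticMap.polarBilin_apply_apply, polar_hyp, Pi.single_apply] using e
    · have e := LinearMap.congr_fun h ((Pi.single i 1, 0) : HypSpace A m)
      simpa [QuadraticMap.polarBilin_apply_apply, polar_hyp, Pi.single_apply] using e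
  · refine ⟨(fun i => d (0, Pi.single i 1), fun i => d (Pi.single i 1, 0)), ?_⟩
    refine ((Pi.basisFun A (Fin m)).prod (Pi.basisFun A (Fin m))).ext fun k => ?_
    rcases k with i | i <;>
      simp [QuadraticMap.polarBilin_apply_apply, polar_hyp, Pi.single_apply]

theorem isUnit_det_table_splitForm (A : Type u) [CommRing A] (m : ℕ) :
    IsUnit (polarMat (table (splitForm A (2 * m)))).det := by
  have h := (isRegular_iff_isUnit_det ((Pi.basisFun A (Fin (2 * m))).map (pairUp A m)) _).mp (hyp_regular A m)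
  rwa [coeffs_map _ _ _ _ (hyp_pairUp A m)] at h

section Reduced

variable {R : Type u} [CommRing R] [IsDomain R] {n : ℕ} {a : Sym2 (Fin n) → R}

theorem isReduced_coord_true (ha : IsUnit (polarMat a).det) (hI : (Ideal.span {(2 : R)}).IsRadical) :
    IsReduced (Coord a true) := by
  have hsm : Algebra.Smooth R (Coord a false) :=
    ⟨formallySmooth fun B _ _ I hI G hG => lift_of_isUnit_det I hI hG ha fun h => absurd h Bool.false_ne_true,
      finitePresentation⟩
  haveI hO : IsReduced (Coord a false) := RedSmooth.isReduced_of_algebra_smooth R (Coord a false)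
  haveI : IsReduced (R ⧸ Ideal.span {(2 : R)}) :=
    (Ideal.isRadical_iff_quotient_reduced _).mp hI
  haveI : IsReduced ((R ⧸ Ideal.span {(2 : R)}) ⊗[R] Coord a false) :=
    RedSmooth.isReduced_of_algebra_smooth (R ⧸ Ideal.span {(2 : R)})
      ((R ⧸ Ideal.span {(2 : R)}) ⊗[R] Coord a false)
  haveI h2red : IsReduced (Coord a false ⧸ (Ideal.span {(2 : R)}).map (algebraMap R (Coord a false))) :=
    isReduced_of_injective
      ((Algebra.TensorProduct.comm R (Coord a false) (R ⧸ Ideal.span {(2 : R)})).toRingEquiv.toRingHom.comp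
        (Algebra.TensorProduct.quotIdealMapEquivTensorQuot (Coord a false) (Ideal.span {(2 : R)})).toRingEquiv.toRingHom)
      ((Algebra.TensorProduct.comm R (Coord a false) (R ⧸ Ideal.span {(2 : R)})).injective.comp
        (Algebra.TensorProduct.quotIdealMapEquivTensorQuot (Coord a false) (Ideal.span {(2 : R)})).injective)
  set O := Coord a false with hOdef
  set G := matOf (AlgHom.id R O) with hG
  set D := G.det with hD
  have hmap : (Ideal.span {(2 : R)}).map (algebraMap R O) = Ideal.span {(2 : O)} := by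
    rw [Ideal.map_span, Set.image_singleton, map_ofNat]
  rw [hmap] at h2red
  have hsq : D * D = 1 := by
    have h := congrArg (fun q => (polarMat q).det) (matOf_isPoint (AlgHom.id R O)).table
    simp only [polarMat_transform, det_mul, det_transpose, ← hG, ← hD] at h
    have hu : IsUnit (polarMat fun q => algebraMap R O (a q)).det := by
      rw [← polarMat_map, ← RingHom.mapMatrix_apply, ← RingHom.map_det]
      exact ha.map _
    refine hu.mul_left_cancel ?_
    linear_combination h
  have h2rad : ∀ y k, y ^ k ∈ Ideal.span {(2 : O)} → y ∈ Ideal.span {(2 : O)} := fun y k h => by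
    rw [← Ideal.Quotient.eq_zero_iff_mem] at h ⊢
    rw [map_pow] at h
    exact IsNilpotent.eq_zero ⟨k, h⟩
  have hD2 : D - 1 ∈ Ideal.span {(2 : O)} :=
    h2rad _ 2 (Ideal.mem_span_singleton'.mpr ⟨1 - D, by linear_combination -hsq⟩)
  let J : Ideal O := Ideal.span {D - 1}
  haveI hJ : IsReduced (O ⧸ J) := by
    refine ⟨fun x ⟨k, hx⟩ => ?_⟩
    obtain ⟨y, rfl⟩ := Ideal.Quotient.mk_surjective x
    rw [← map_pow, Ideal.Quotient.eq_zero_iff_mem] at hx
    obtain ⟨c, hc⟩ := Ideal.mem_span_singleton'.mp hx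
    -- `y` is a multiple of two
    obtain ⟨z, hz⟩ := Ideal.mem_span_singleton'.mp (h2rad y k (hc ▸ Ideal.mul_mem_left _ c hD2))
    -- and is killed by `D + 1`
    have hy : (D + 1) * y = 0 := by
      refine IsNilpotent.eq_zero ⟨k + 1, ?_⟩
      rw [mul_pow, pow_succ y k, ← hc]
      have : (D + 1) * (D - 1) = 0 := by linear_combination hsq
      rw [pow_succ' (D + 1) k]
      linear_combination ((D + 1) ^ k * c * y) * this
    have hw : z * (D + 1) = 0 := IsNilpotent.eq_zero ⟨2, by
      linear_combination z * hy + (z ^ 2) * hsq + z * (D + 1) * hz⟩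
    rw [Ideal.Quotient.eq_zero_iff_mem]
    exact Ideal.mem_span_singleton'.mpr ⟨-z, by linear_combination hz - hw⟩
  let π : O →ₐ[R] O ⧸ J := { toRingHom := Ideal.Quotient.mk J, commutes' := fun r => rfl }
  obtain ⟨φ, hφ⟩ := exists_matOf (a := a) (s := true) (G := G.map π)
    (A := O ⧸ J) (by
      have h := isPoint_map (A := O) (B := O ⧸ J) π (matOf_isPoint (AlgHom.id R O))
      refine ⟨h.isUnit_det, h.table, fun _ => ?_⟩
      rw [← AlgHom.mapMatrix_apply, ← AlgHom.map_det]
      change Ideal.Quotient.mk J D = 1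
      rw [← sub_eq_zero, ← map_one (Ideal.Quotient.mk J), ← map_sub, Ideal.Quotient.eq_zero_iff_mem]
      exact Ideal.mem_span_singleton_self _)
  have hp := matOf_isPoint (AlgHom.id R (Coord a true))
  obtain ⟨ψ, hψ⟩ := exists_matOf (a := a) (s := false) (G := matOf (AlgHom.id R (Coord a true)))
    ⟨hp.isUnit_det, hp.table, fun h => absurd h Bool.false_ne_true⟩
  have hker : ∀ x ∈ J, ψ.toRingHom x = 0 := fun x hx => by
    obtain ⟨c, rfl⟩ := Ideal.mem_span_singleton'.mp hx
    change ψ (c * (D - 1)) = 0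
    rw [map_mul, map_sub, map_one, hD, AlgHom.map_det, AlgHom.mapMatrix_apply, hG, ← matOf_comp,
      AlgHom.comp_id, hψ, hp.det_one rfl, sub_self, mul_zero]
  let ψ' : O ⧸ J →ₐ[R] Coord a true :=
    { toRingHom := Ideal.Quotient.lift J ψ.toRingHom hker, commutes' := fun r => ψ.commutes r }
  have hid : ψ'.comp φ = AlgHom.id R _ := matOf_injective (by
    rw [matOf_comp (A := O ⧸ J) φ ψ', hφ, Matrix.map_map]
    refine Eq.trans ?_ hψ
    rw [hG]
    rfl)
  exact isReduced_of_injective φ.toRingHom fun x y h => by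
    have := congrArg ψ' h
    simpa [← AlgHom.comp_apply, hid] using this

end Reduced

section NotFlat

variable {m : ℕ}

theorem not_flat_coord_true (hm : 1 ≤ m) :
    ¬ Module.Flat ℤ (Coord (table (splitForm ℤ (2 * m))) true) := by
  intro hflat
  have hK2 : ∀ x : ZMod 2, x = 0 ∨ x = 1 := by decide
  classical
  set a := table (splitForm ℤ (2 * m)) with ha
  set C := Coord a true with hC
  set G := matOf (AlgHom.id ℤ C) with hG
  have hp := matOf_isPoint (AlgHom.id ℤ C)
  set aC : Sym2 (Fin (2 * m)) → C := fun q => algebraMap ℤ C (a q) with haC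
  let Q := formOfTable aC
  have hM : Module.finrank C (Fin (2 * m) → C) = 2 * m ∨ Subsingleton C := by
    rcases subsingleton_or_nontrivial C with h | h
    · exact Or.inr h
    · exact Or.inl (by simp)
  have hQ : QuadGrp.IsRegular Q := by
    rw [isRegular_iff_isUnit_det (Pi.basisFun C _), coeffs_formOfTable, haC,
      ← polarMat_map, ← RingHom.mapMatrix_apply, ← RingHom.map_det]
    exact (isUnit_det_table_splitForm ℤ m).map _
  let bC := Pi.basisFun C (Fin (2 * m))
  have hGu : IsUnit (LinearMap.toMatrix bC bC (Matrix.toLin' G)).det := by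
    rw [LinearMap.toMatrix_eq_toMatrix', LinearMap.toMatrix'_toLin']
    exact hp.isUnit_det
  let g := LinearEquiv.ofIsUnitDet hGu
  have hgl : g.toLinearMap = Matrix.toLin' G := LinearEquiv.coe_ofIsUnitDet hGu
  have hg : g ∈ QuadGrp.O Q := by
    intro v
    have : Q.comp g.toLinearMap = Q := by
      refine QuadCoord.eq_of_coeffs_eq bC ?_
      rw [coeffs_comp, coeffs_formOfTable, hgl, LinearMap.toMatrix_eq_toMatrix',
        LinearMap.toMatrix'_toLin']
      exact hp.table
    exact QuadraticMap.congr_fun this v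
  -- a point over the field with two elements
  let K := ZMod 2
  haveI : Fact (Nat.Prime 2) := ⟨Nat.prime_two⟩
  haveI : IsDomain K := inferInstanceAs (IsDomain (ZMod 2))
  set aK : Sym2 (Fin (2 * m)) → K := fun q => algebraMap ℤ K (a q) with haK
  have haK' : aK = table (splitForm K (2 * m)) := map_table_splitForm (algebraMap ℤ K)
  let v₀ : Fin (2 * m) → K := (pairUp K m).symm (Pi.single ⟨0, hm⟩ 1, Pi.single ⟨0, hm⟩ 1)
  let QK := formOfTable aK
  have hv₀ : QK v₀ = 1 := by
    have e : QK = splitForm K (2 * m) := QuadCoord.eq_of_coeffs_eq (Pi.basisFun K _) (by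
      rw [coeffs_formOfTable, haK'])
    rw [e, ← hyp_pairUp, LinearEquiv.apply_symm_apply, hyp_apply, Finset.sum_eq_single ⟨0, hm⟩]
    · simp
    · intro j _ hj; simp [hj]
    · simp
  have hv₁ : ((1 : Kˣ) : K) = QK v₀ := by rw [Units.val_one, hv₀]
  let r := reflect v₀ 1 hv₁
  have hr : r ∈ QuadGrp.O QK := reflect_mem_O v₀ 1 hv₁
  set Gr := LinearMap.toMatrix (Pi.basisFun K (Fin (2 * m))) (Pi.basisFun K _) r.toLinearMap with hGr
  have hru : IsUnit Gr.det := by rw [hGr, LinearMap.det_toMatrix]; exact LinearEquiv.isUnit_det' r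
  obtain ⟨φ, hφ⟩ := exists_matOf (a := a) (s := true) (A := K) (G := Gr) ⟨hru, by
      conv_lhs => rw [← haK, ← coeffs_formOfTable aK, hGr, ← coeffs_comp]
      rw [show QK.comp r.toLinearMap = QK from QuadraticMap.ext hr, coeffs_formOfTable],
    fun _ => by
      rcases hK2 Gr.det with h | h
      · exact absurd h hru.ne_zero
      · exact h⟩
  haveI : Nontrivial C := φ.toRingHom.domain_nontrivial
  have hM' : Module.finrank C (Fin (2 * m) → C) = 2 * m := by simp
  let P : Ideal C := RingHom.ker φ.toRingHom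
  haveI : P.IsPrime := RingHom.ker_isPrime _
  -- torsion free
  have h2 : ∀ x : C, (2 : C) * x = 0 → x = 0 := fun x hx => by
    have h := Module.Flat.lTensor_preserves_injective_linearMap (M := C)
      (LinearMap.lsmul ℤ ℤ 2) (fun p q hpq => mul_left_cancel₀ two_ne_zero hpq)
    have e : ∀ y : C, (LinearMap.lTensor C (LinearMap.lsmul ℤ ℤ 2)) (y ⊗ₜ[ℤ] 1) = (2 * y) ⊗ₜ[ℤ] 1 := fun y => by
      rw [LinearMap.lTensor_tmul]
      change y ⊗ₜ[ℤ] ((2 : ℤ) • (1 : ℤ)) = _
      rw [← TensorProduct.smul_tmul]
      exact congrArg (· ⊗ₜ[ℤ] (1 : ℤ)) (zsmul_eq_mul y 2)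
    have := h ((e x).trans (by rw [hx, TensorProduct.zero_tmul, map_zero]) : _ = LinearMap.lTensor C _ 0)
    simpa using congrArg (TensorProduct.rid ℤ C) this
  have hloc : (⟨P, inferInstance⟩ : PrimeSpectrum C) ∈ dicksonLocus Q g hg := by
    rcases mem_dicksonLocus_cases hQ hm hM' hg ⟨P, inferInstance⟩ with ⟨h, -⟩ | ⟨-, h⟩
    · exact h
    exfalso
    rw [hgl, LinearMap.det_toLin', hp.det_one rfl, map_one] at h
    have : algebraMap C (Localization.AtPrime P) 2 = 0 := by
      rw [map_ofNat]; linear_combination h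
    obtain ⟨⟨t, ht⟩, e⟩ := (IsLocalization.map_eq_zero_iff P.primeCompl _ _).mp this
    exact ht (by rw [h2 t (by rw [mul_comm]; exact e)]; exact zero_mem P)
  obtain ⟨S, δ, y, ζ, Z, -, hS, -, hye, hy, -⟩ := exists_twist_lift hQ hM' P
  obtain ⟨t, ht, htz⟩ := exists_smul_eq_zero Q P (x := map (QuadGrp.isometryOfMem Q g hg) y - y) (by
    rw [map_sub, hloc y hye fun z hz => commute_even_of_twist hy hz, sub_self])
  -- push down to `K`
  let bK := Pi.basisFun K (Fin (2 * m))
  have hσ := specMap_isometry (R := K) bK QK (φ : C →+* K) aC fun p => by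
    rw [coeffs_formOfTable]
    exact φ.commutes _
  let σ := specMap bK (φ : C →+* K)
  set yK := bc Q QK σ hσ y with hyK
  have hS1 : φ S = 1 := by
    rcases hK2 (φ S) with h | h
    · exact absurd (RingHom.mem_ker.mpr h) hS
    · exact h
  have ht1 : φ t = 1 := by
    rcases hK2 (φ t) with h | h
    · exact absurd (RingHom.mem_ker.mpr h) ht
    · exact h
  have e1 := congrArg (bc Q QK σ hσ) htz
  rw [bc_smul, map_sub, bc_map Q QK σ hσ _ (QuadGrp.isometryOfMem QK r hr) (fun x => ?_),
    map_zero, ← hyK] at e1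
  swap
  · rw [QuadGrp.isometryOfMem_apply, QuadGrp.isometryOfMem_apply]
    refine bK.ext_elem fun i => ?_
    have hl : ∀ (z : Fin (2 * m) → C) (i), bK.repr (σ z) i = φ (z i) := fun z i => by
      change bK.repr (∑ j, φ (z j) • bK j) i = _
      simp [bK, Pi.single_apply]
    rw [hl, show g x = Matrix.toLin' G x from LinearMap.congr_fun hgl x, Matrix.toLin'_apply,
      show bK.repr (r (σ x)) i = _ from
        congrFun (LinearMap.toMatrix_mulVec_repr bK bK r.toLinearMap (σ x)).symm i]
    simp only [mulVec, dotProduct, map_sum, map_mul, hl]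
    refine Finset.sum_congr rfl fun j _ => ?_
    rw [← hGr, ← hφ, hG]
    rfl
  have e2 : map (QuadGrp.isometryOfMem QK r hr) yK = yK := sub_eq_zero.mp (by simpa [ht1] using e1)
  have hyKe : yK ∈ evenOdd QK 0 := bc_mem_evenOdd _ _ _ _ 0 hye
  have hv : ι QK v₀ * yK + yK * ι QK v₀ = ι QK v₀ := by
    have key : ∀ w, ι QK w * yK + yK * ι QK w = ι QK w := by
      refine span_specMap bK (φ : C →+* K) (by simp) ?_ ?_ ?_
      · intro a b ha hb; rw [map_add, add_mul, mul_add, ← add_add_add_comm]; rw [ha, hb]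
      · intro c a ha; rw [map_smul, smul_mul_assoc, mul_smul_comm, ← smul_add, ha]
      · intro x
        have := congrArg (bc Q QK σ hσ) (hy x)
        rw [map_add, map_mul, map_mul, bc_smul, bc_ι] at this
        rw [this, RingHom.coe_coe, hS1, one_smul]
    exact key v₀
  rw [map_reflect, involute_eq_of_mem_even hyKe, inv_one, Units.val_one, one_smul] at e2
  rw [eq_sub_of_add_eq hv, sub_mul, mul_assoc, ι_sq_scalar, hv₀, map_one, mul_one, sub_eq_iff_eq_add] at e2
  haveI : CharP (CliffordAlgebra QK) 2 := charP_of_injective_algebraMap (algebraMap_injective QK) 2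
  rw [CharTwo.add_self_eq_zero] at e2
  haveI : Nontrivial (CliffordAlgebra QK) := (algebraMap_injective QK).nontrivial
  exact one_ne_zero e2

end NotFlat

end GrothLib.Cliff28
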