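import Groth.Agent.Lib.Cliff28.EvenLocal
import Groth.Agent.Lib.Cliff28.HDBlock

/-!
# Semiregular forms of odd rank over a local ring

`GrothLib.Cliff28.exists_oddCentre`: such a form splits off a line `R e` with `Q e` a unit and a
regular even rank complement; `z = e (2ζ - 1)` is then an odd central element of unit square.
-/

set_option autoImplicit false
set_option linter.unusedSectionVars false

open CliffordAlgebra QuadraticMap QuadGrp GrothLib.QuadHalfDisc Matrix

namespace GrothLib.Cliff28

universe u v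

variable {R : Type u} [CommRing R] {M : Type v} [AddCommGroup M] [Module R M]

theorem coeffs_map_equiv {n : ℕ} (b c : Module.Basis (Fin n) R M) (Q : QuadraticForm R M) :
    coeffs c (LinearEquiv.refl R R) Q =
      transform (coeffs b (LinearEquiv.refl R R) Q)
        (LinearMap.toMatrix b b (b.equiv c (Equiv.refl _)).toLinearMap) := by
  rw [← coeffs_comp]
  funext p
  induction p using Sym2.ind with
  | _ i j =>
    simp [coeffs_mk, QuadraticMap.polar]

theorem isSemiregular_of_basis {n : ℕ} (hn : Odd n) (b c : Module.Basis (Fin n) R M)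
    (Q : QuadraticForm R M) (h : IsSemiregular b (LinearEquiv.refl R R) Q) :
    IsSemiregular c (LinearEquiv.refl R R) Q := by
  change IsUnit (hd _)
  rw [coeffs_map_equiv b c, hd_transform hn]
  refine IsUnit.mul ?_ h
  rw [LinearMap.det_toMatrix]
  exact (LinearEquiv.isUnit_det' _).pow 2

/-- Moving the `p`-th basis vector to a vector of unit `p`-th coordinate. -/
theorem exists_basis_update {I : Type*} (b : Module.Basis I R M) (p : I) (x : M)
    (hx : IsUnit (b.coord p x)) :
    ∃ c : Module.Basis I R M, c p = x ∧ ∀ i, i ≠ p → c i = b i := by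
  classical
  obtain ⟨t, ht⟩ := hx
  have hbp : b.coord p (b p) = 1 := by simp
  let g : M ≃ₗ[R] M := LinearEquiv.ofLinearMap (LinearMap.id + (b.coord p).smulRight (x - b p))
    (LinearMap.id - ((↑t⁻¹ : R) • b.coord p).smulRight (x - b p))
    (LinearMap.ext fun v => by
      simp only [LinearMap.comp_apply, LinearMap.add_apply, LinearMap.sub_apply, LinearMap.id_apply,
        LinearMap.smulRight_apply, LinearMap.smul_apply, map_sub, map_smul, smul_eq_mul, hbp, ← ht]
      match_scalars <;> first | ring1 | linear_combination (-(b.coord p v)) * Units.inv_mul t |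
        linear_combination (b.coord p v) * Units.inv_mul t)
    (LinearMap.ext fun v => by
      simp only [LinearMap.comp_apply, LinearMap.add_apply, LinearMap.sub_apply, LinearMap.id_apply,
        LinearMap.smulRight_apply, LinearMap.smul_apply, map_add, map_sub, map_smul, smul_eq_mul, hbp,
        ← ht]
      match_scalars <;> first | ring1 | linear_combination (-(b.coord p v)) * Units.inv_mul t |
        linear_combination (b.coord p v) * Units.inv_mul t)
  refine ⟨b.map g, ?_, fun i hi => ?_⟩
  · simp [g]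
  · simp [g, Finsupp.single_eq_of_ne (Ne.symm hi)]

variable [IsLocalRing R] (m : ℕ) (b : Module.Basis (Fin (2 * m + 1)) R M) (Q : QuadraticForm R M)

theorem isUnit_coord_of_isUnit_value {a : M} (ha : IsUnit (Q a)) : ∃ p, IsUnit (b.coord p a) := by
  by_contra! h
  refine (IsLocalRing.mem_maximalIdeal _).mp ?_ ha
  rw [← b.sum_repr a, toBilin_sum]
  exact Submodule.sum_mem _ fun i _ => Submodule.sum_mem _ fun j _ =>
    Ideal.mul_mem_right _ _ (Ideal.mul_mem_right _ _ (h i))

theorem exists_orth_basis (hQ : IsSemiregular b (LinearEquiv.refl R R) Q) :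
    ∃ c : Module.Basis (Fin (2 * m + 1)) R M,
      IsUnit (Q (c 0)) ∧ (∀ i : Fin (2 * m), polar Q (c 0) (c i.succ) = 0) ∧
      IsUnit (polarMat fun p => coeffs c (LinearEquiv.refl R R) Q (p.map Fin.succ)).det := by
  classical
  set a := coeffs b (LinearEquiv.refl R R) Q with hadef
  have hn : Odd (2 * m + 1) := odd_two_mul_add_one m
  suffices ∃ c : Module.Basis (Fin (2 * m + 1)) R M, ∀ i : Fin (2 * m), polar Q (c 0) (c i.succ) = 0 by
    obtain ⟨c, hc⟩ := this
    have h := isSemiregular_of_basis hn b c Q hQ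
    change IsUnit (hd _) at h
    rw [hd_block _ (even_two_mul m) fun j => by
      rw [coeffs_mk, if_neg (Fin.succ_ne_zero j).symm, LinearEquiv.refl_apply, hc], IsUnit.mul_iff,
      coeffs_mk, if_pos rfl, LinearEquiv.refl_apply] at h
    exact ⟨c, h.1, hc, h.2⟩
  by_cases h2 : IsUnit (2 : R)
  · have hreg : IsRegular Q := by
      rw [isRegular_iff_isUnit_det b, ← two_mul_hd hn]
      exact h2.mul hQ
    obtain ⟨a₀, ha₀⟩ : ∃ a₀, IsUnit (Q a₀) := by
      obtain ⟨w, hw⟩ := hreg.2 (b.coord 0)
      have h1 : polar Q w (b 0) = 1 := by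
        have := LinearMap.congr_fun hw (b 0)
        simpa using this
      by_contra! h
      have : polar Q w (b 0) ∈ IsLocalRing.maximalIdeal R := sub_mem (sub_mem (h _) (h _)) (h _)
      rw [h1] at this
      exact (IsLocalRing.maximalIdeal.isMaximal R).ne_top ((Ideal.eq_top_iff_one _).mpr this)
    obtain ⟨p, hp⟩ := isUnit_coord_of_isUnit_value m b Q ha₀
    obtain ⟨c₁, hc₁, -⟩ := exists_basis_update b p a₀ hp
    let c₂ := c₁.reindex (Equiv.swap p 0)
    have hc₂ : c₂ 0 = a₀ := by simp [c₂, hc₁]
    obtain ⟨e, he⟩ := h2.mul ha₀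
    let φ : M →ₗ[R] R := (↑e⁻¹ : R) • (Q.polarBilin a₀) - c₂.coord 0
    have hφ : φ a₀ = 0 := by
      have h0 : c₂.coord 0 a₀ = 1 := by rw [← hc₂]; simp
      simp only [φ, LinearMap.sub_apply, LinearMap.smul_apply, polarBilin_apply_apply, polar_self',
        ← he, smul_eq_mul, Units.inv_mul, h0, sub_self]
    let g : M ≃ₗ[R] M := LinearEquiv.ofLinearMap (LinearMap.id - φ.smulRight a₀)
      (LinearMap.id + φ.smulRight a₀)
      (LinearMap.ext fun v => by simp [hφ])
      (LinearMap.ext fun v => by simp [hφ])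
    refine ⟨c₂.map g, fun i => ?_⟩
    have e0 : g (c₂ 0) = a₀ := by rw [hc₂]; simp [g, hφ]
    have ei : g (c₂ i.succ) = c₂ i.succ - φ (c₂ i.succ) • a₀ := rfl
    rw [Module.Basis.map_apply, Module.Basis.map_apply, e0, ei, polar_sub_right, polar_smul_right,
      polar_self', ← he]
    simp only [φ, LinearMap.sub_apply, LinearMap.smul_apply, polarBilin_apply_apply, smul_eq_mul,
      c₂.coord_apply, c₂.repr_self, Finsupp.single_eq_of_ne (Fin.succ_ne_zero i).symm, sub_zero]
    linear_combination (-(polar Q a₀ (c₂ i.succ))) * Units.inv_mul e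
  · obtain ⟨p, hp⟩ := QuadTable.exists_diag_notMem hn a hQ (IsLocalRing.maximalIdeal R)
      ((IsLocalRing.mem_maximalIdeal _).mpr h2)
    rw [IsLocalRing.mem_maximalIdeal, mem_nonunits_iff, not_not] at hp
    set D := adjugate (polarMat a) with hD
    let x := ∑ i, D i p • b i
    have hx : b.coord p x = D p p := by simp [x, Finsupp.single_apply]
    obtain ⟨c₁, hcp, hci⟩ := exists_basis_update b p x (hx ▸ hp)
    have hB : ∀ i, polar Q x (b i) = (2 * hd a) * if i = p then 1 else 0 := fun i => by
      have h := congrFun (congrFun (QuadTable.mul_adjugate_odd hn a) i) p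
      rw [Matrix.mul_apply, Matrix.smul_apply, Matrix.one_apply, smul_eq_mul] at h
      rw [← h, ← polarBilin_apply_apply]
      simp only [x, map_sum, LinearMap.sum_apply, map_smul, LinearMap.smul_apply, smul_eq_mul,
        polarBilin_apply_apply]
      refine Finset.sum_congr rfl fun k _ => ?_
      rw [mul_comm, hadef, ← toMatrix_polarBilin, LinearMap.toMatrix_apply,
        Module.Basis.dualBasis_repr, polarBilin_apply_apply, polar_comm, hD, hadef,
        ← toMatrix_polarBilin]
    refine ⟨c₁.reindex (Equiv.swap p 0), fun i => ?_⟩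
    have hne : Equiv.swap p 0 i.succ ≠ p := fun h => by
      have := congrArg (Equiv.swap p 0) h
      simp only [Equiv.swap_apply_self, Equiv.swap_apply_left] at this
      exact Fin.succ_ne_zero i this
    rw [Module.Basis.reindex_apply, Module.Basis.reindex_apply, Equiv.symm_swap,
      Equiv.swap_apply_right, hcp, hci _ hne, hB, if_neg hne, mul_zero]

/-- `z` is an odd central element of unit square of the Clifford algebra of `Q`. -/
structure IsOddCentre (z : CliffordAlgebra Q) : Prop where
  odd : z ∈ evenOdd Q 1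
  central : ∀ v, ι Q v * z = z * ι Q v
  sq : ∃ d : R, IsUnit d ∧ z * z = algebraMap R _ d
  star_eq : star z = ((-1 : R) ^ (m + 1)) • z
  even_scalar : ∀ x ∈ evenOdd Q 0, (∀ v, ι Q v * x = x * ι Q v) → ∃ r, x = algebraMap R _ r
  top : ∃ (I : Type) (_ : Fintype I) (c : Module.Basis I R M) (L : List I),
    (∀ i, i ∈ L) ∧ ∃ s : R, IsUnit s ∧ iter Q (L.map c.coord) z = algebraMap R _ (s * 2 ^ m)

/-- An orthogonal splitting `R e ⊕ N` with `Q e` a unit and a regular form on `N = R^{2m}`. -/
structure OddSplit where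
  e : M
  unit : IsUnit (Q e)
  P : QuadraticForm R (Fin (2 * m) → R)
  regular : IsRegular P
  j : P →qᵢ Q
  orth : ∀ k, polar Q e (j k) = 0
  c : Module.Basis (Fin (2 * m + 1)) R M
  c_zero : c 0 = e
  c_succ : ∀ i : Fin (2 * m), c i.succ = j (Pi.single i 1)

include b in
theorem exists_oddSplit (hQ : IsSemiregular b (LinearEquiv.refl R R) Q) :
    Nonempty (OddSplit m Q) := by
  classical
  obtain ⟨c, hu, horth, hdet⟩ := exists_orth_basis m b Q hQ
  let jl : (Fin (2 * m) → R) →ₗ[R] M := Fintype.linearCombination R fun i => c i.succ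
  have hj : ∀ i, jl (Pi.single i 1) = c i.succ := fun i => by
    simp [jl, Fintype.linearCombination_apply_single]
  refine ⟨⟨c 0, hu, Q.comp jl, ?_, { jl with map_app' := fun _ => rfl }, fun k => ?_, c, rfl,
    fun i => (hj i).symm⟩⟩
  · rw [isRegular_iff_isUnit_det (Pi.basisFun R (Fin (2 * m)))]
    convert hdet using 3
    funext p
    induction p using Sym2.ind with
    | _ i l =>
      simp [coeffs_mk, QuadraticMap.polar, hj, Fin.succ_inj]
  · change polar Q (c 0) (jl k) = 0
    rw [← polarBilin_apply_apply, show jl k = ∑ i, k i • c i.succ from rfl, map_sum]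
    simp [horth]

variable {m Q}

theorem OddSplit.decomp (S : OddSplit m Q) (v : M) :
    ∃ (r : R) (k : Fin (2 * m) → R), v = r • S.e + S.j k := by
  refine ⟨S.c.repr v 0, fun i => S.c.repr v i.succ, ?_⟩
  conv_lhs => rw [← S.c.sum_repr v, Fin.sum_univ_succ, S.c_zero]
  congr 1
  rw [pi_eq_sum_univ (fun i : Fin (2 * m) => S.c.repr v i.succ), map_sum]
  refine Finset.sum_congr rfl fun i _ => ?_
  rw [map_smul, S.c_succ]
  congr 2
  ext k
  simp [Pi.single_apply, eq_comm]

theorem exists_oddCentre (hQ : IsSemiregular b (LinearEquiv.refl R R) Q) :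
    ∃ z, IsOddCentre m Q z := by
  classical
  obtain ⟨S⟩ := exists_oddSplit m b Q hQ
  obtain ⟨ζ, Z⟩ := exists_arf m S.P (by simp) S.regular
  set y := map S.j (2 * ζ - 1) with hy
  have hye : y ∈ evenOdd Q 0 := map_mem_evenOdd S.j 0 Z.z_even
  have hey : ι Q S.e * y = y * ι Q S.e := by
    rw [hy, ι_mul_map_of_orth S.j S.orth, involute_eq_of_mem_even Z.z_even]
  have hee : ι Q S.e * ι Q S.e = algebraMap R _ (Q S.e) := ι_sq_scalar _ _
  refine ⟨ι Q S.e * y, ?_, fun v => ?_, ?_, ?_, fun x hx hxc => ?_, ?_⟩
  · simpa using SetLike.mul_mem_graded (ι_mem_evenOdd_one Q S.e) hye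
  · have hk : ∀ k, ι Q (S.j k) * (ι Q S.e * y) = ι Q S.e * y * ι Q (S.j k) := fun k => by
      have h1 : ι Q (S.j k) * ι Q S.e = -(ι Q S.e * ι Q (S.j k)) := by
        rw [eq_neg_iff_add_eq_zero, ι_mul_ι_add_swap, polar_comm, S.orth, map_zero]
      have h2 : ι Q (S.j k) * y = -(y * ι Q (S.j k)) := by
        have := congrArg (map S.j) (Z.z_anti k)
        rwa [map_mul, map_neg, map_mul, map_apply_ι] at this
      rw [← mul_assoc, h1, neg_mul, mul_assoc, h2, mul_neg, neg_neg, mul_assoc]
    obtain ⟨r, k, rfl⟩ := S.decomp v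
    rw [map_add, map_smul, add_mul, mul_add, hk, smul_mul_assoc, mul_smul_comm, mul_assoc (ι Q S.e) y (ι Q S.e),
      ← hey]
  · obtain ⟨d, hd, hdd⟩ := Z.exists_z_mul_z
    refine ⟨Q S.e * d, S.unit.mul hd, ?_⟩
    rw [mul_assoc, ← mul_assoc y, ← hey, mul_assoc (ι Q S.e) y, ← mul_assoc, hee, hy, ← map_mul, hdd,
      AlgHom.commutes, ← map_mul]
  · rw [star_mul, star_ι, hy, map_star, Z.star_eq, map_smul, ← hy, smul_mul_assoc, mul_neg, ← hey,
      smul_neg, pow_succ, mul_neg_one, neg_smul]
  · refine scalar_of_forall_contract S.c Q ?_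
    have hsucc : ∀ i : Fin (2 * m), contractLeft (S.c.coord i.succ) x = 0 := fun i => by
      obtain ⟨k, hk⟩ := S.regular.2 ((Pi.basisFun R (Fin (2 * m))).coord i)
      have e : Q.polarBilin (S.j k) = S.c.coord i.succ := S.c.ext fun l => by
        refine Fin.cases ?_ (fun l' => ?_) l
        · rw [polarBilin_apply_apply, S.c_zero, polar_comm, S.orth, S.c.coord_apply, ← S.c_zero,
            S.c.repr_self, Finsupp.single_eq_of_ne (Fin.succ_ne_zero i)]
        · have h := LinearMap.congr_fun hk (Pi.single l' 1)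
          rw [polarBilin_apply_apply] at h
          have hjp : polar Q (S.j k) (S.j (Pi.single l' 1)) = polar S.P k (Pi.single l' 1) := by
            simp [QuadraticMap.polar, ← map_add]
          rw [polarBilin_apply_apply, S.c_succ, hjp, h, ← S.c_succ, S.c.coord_apply, S.c.repr_self]
          simp [Finsupp.single_apply, Pi.single_apply, Fin.succ_inj, eq_comm]
      rw [← e]
      exact contractLeft_eq_zero_of_even Q hx (hxc _)
    intro i
    refine Fin.cases ?_ hsucc i
    have hodd := contractLeft_mem_evenOdd Q (S.c.coord 0) 0 hx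
    haveI : Module.Free R M := Module.Free.of_basis S.c
    obtain ⟨r, hr⟩ : ∃ r, contractLeft (S.c.coord 0) x = algebraMap R _ r :=
      scalar_of_forall_contract S.c Q fun i => Fin.cases (contractLeft_contractLeft _ x)
        (fun i' => by rw [contractLeft_comm, hsucc, map_zero, neg_zero]) i
    rw [hr, zero_add] at hodd
    rw [hr, algebraMap_mem_odd Q hodd, map_zero]
  · obtain ⟨I, _, bN, L, hL, s, hs, htop⟩ := Z.top
    let φ : M →ₗ[R] (Fin (2 * m) → R) := LinearMap.pi fun i => S.c.coord i.succ
    have hje : ∀ k i, S.c.repr (S.j k) i = Fin.cases 0 k i := by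
      intro k
      have : S.j k = ∑ l, k l • S.c l.succ := by
        conv_lhs => rw [pi_eq_sum_univ k, map_sum]
        refine Finset.sum_congr rfl fun l _ => ?_
        rw [map_smul, S.c_succ]
        congr 2
        ext i; simp [Pi.single_apply, eq_comm]
      intro i
      rw [this, map_sum, Finsupp.coe_finsetSum, Finset.sum_apply]
      refine Fin.cases ?_ (fun i' => ?_) i
      · simp [(Fin.succ_ne_zero _)]
      · simp [Finsupp.single_apply, Fin.succ_inj]
    have hφj : ∀ k, φ (S.j k) = k := fun k => funext fun i => by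
      change S.c.repr (S.j k) i.succ = k i
      simp [hje]
    let E : M ≃ₗ[R] R × (Fin (2 * m) → R) := LinearEquiv.ofLinearMap ((S.c.coord 0).prod φ)
      ((LinearMap.toSpanSingleton R M S.e).coprod S.j.toLinearMap)
      (by
        have he0 : S.c.repr S.e 0 = 1 := by simp [← S.c_zero]
        have heφ : φ S.e = 0 := funext fun i => by
          change S.c.repr S.e i.succ = 0
          simp [← S.c_zero, (Fin.succ_ne_zero i)]
        refine LinearMap.ext fun x => ?_
        obtain ⟨r, k⟩ := x
        have hk0 : S.c.repr (S.j k) 0 = 0 := by simp [hje]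
        simp [he0, heφ, hk0, hφj])
      (LinearMap.ext fun v => by
        obtain ⟨r, k, rfl⟩ := S.decomp v
        have hk0 : S.c.repr (S.j k) 0 = 0 := by simp [hje]
        have he0 : S.c.repr S.e 0 = 1 := by simp [← S.c_zero]
        have heφ : φ S.e = 0 := funext fun i => by
          change S.c.repr S.e i.succ = 0
          simp [← S.c_zero, (Fin.succ_ne_zero i)]
        simp [he0, heφ, hk0, hφj])
    let c' := ((Module.Basis.singleton (Fin 1) R).prod bN).map E.symm
    refine ⟨Fin 1 ⊕ I, inferInstance, c', Sum.inl 0 :: L.map Sum.inr, ?_, s, hs, ?_⟩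
    · rintro (i | i)
      · simp [Subsingleton.elim i 0]
      · simp [hL i]
    have hc0 : c'.coord (Sum.inl 0) = S.c.coord 0 := LinearMap.ext fun v => by simp [c', E]
    have hci : ∀ i, (c'.coord (Sum.inr i)).comp S.j.toLinearMap = bN.coord i := fun i =>
      LinearMap.ext fun k => by simp [c', E, hφj]
    have hzero : ∀ k, S.c.coord 0 (S.j k) = 0 := fun k => by simp [hje]
    rw [List.map_cons, iter_cons, hc0, contractLeft_ι_mul, ← S.c_zero, S.c.coord_apply, S.c.repr_self,
      Finsupp.single_eq_same, one_smul, hy, contract_map_eq_zero S.j hzero, mul_zero, sub_zero,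
      List.map_map, iter_map, List.map_map,
      show ((fun d => d.comp S.j.toLinearMap) ∘ c'.coord ∘ Sum.inr) = bN.coord from funext hci, htop,
      AlgHom.commutes]

end GrothLib.Cliff28
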