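import Groth.Agent.Lib.Cliff28.Azumaya
import Groth.Agent.Lib.Cliff28.OddStruct

/-!
# Odd rank: the centre and the determinant

`GrothLib.Cliff28`: over a local ring the centre of the Clifford algebra of a semiregular form of
odd rank is `R + R z`, and an isometry multiplies `z` by its determinant.
-/

set_option autoImplicit false
set_option linter.unusedSectionVars false

open CliffordAlgebra QuadraticMap TensorProduct GrothLib.QuadHalfDisc

namespace GrothLib.Cliff28

universe u v

section Local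

variable {R : Type u} [CommRing R] {M : Type v} [AddCommGroup M] [Module R M] [Module.Free R M]
  [Module.Finite R M] {m : ℕ} {Q : QuadraticForm R M} {z : CliffordAlgebra Q}

namespace IsOddCentre

variable (Z : IsOddCentre m Q z)

include Z

theorem isUnit : IsUnit z := by
  obtain ⟨d, hd, h⟩ := Z.sq
  exact (isUnit_pow_iff two_ne_zero).mp (by rw [pow_two, h]; exact hd.map _)

theorem odd_eq {x : CliffordAlgebra Q} (hx : x ∈ evenOdd Q 1)
    (hc : ∀ v, ι Q v * x = x * ι Q v) : ∃ t : R, x = t • z := by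
  obtain ⟨r, hr⟩ := Z.even_scalar (z * x) ((show (1 : ZMod 2) + 1 = 0 from rfl) ▸
    SetLike.mul_mem_graded Z.odd hx) fun v => by
      rw [← mul_assoc, Z.central, mul_assoc, hc, mul_assoc]
  obtain ⟨d, ⟨e, rfl⟩, h⟩ := Z.sq
  refine ⟨(↑e⁻¹ : R) * r, ?_⟩
  have : ((e : R)) • x = r • z := by
    rw [Algebra.smul_def, ← h, mul_assoc, hr, Algebra.smul_def, Algebra.commutes]
  rw [mul_smul, ← this, smul_smul, Units.inv_mul, one_smul]

theorem central_eq {x : CliffordAlgebra Q} (hc : ∀ v, ι Q v * x = x * ι Q v) :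
    ∃ a t : R, x = a • 1 + t • z := by
  obtain ⟨x0, h0, x1, h1, rfl⟩ := exists_even_add_odd Q x
  have hs := fun v => parity_commute h0 h1 (hc v)
  obtain ⟨a, ha⟩ := Z.even_scalar x0 h0 fun v => (hs v).1
  obtain ⟨t, ht⟩ := Z.odd_eq h1 fun v => (hs v).2
  exact ⟨a, t, by rw [ha, ht, Algebra.algebraMap_eq_smul_one]⟩

theorem indep {a t : R} (h : a • (1 : CliffordAlgebra Q) + t • z = 0) : a = 0 ∧ t = 0 := by
  have := even_odd_unique Q (Submodule.smul_mem _ a (SetLike.one_mem_graded _))
    (Submodule.smul_mem _ t Z.odd) (zero_mem _) (zero_mem _) (h.trans (add_zero 0).symm)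
  exact ⟨smul_one_eq_zero Q this.1, smul_eq_zero_of_isUnit Q Z.isUnit this.2⟩

theorem map_central {g : M ≃ₗ[R] M} (hg : g ∈ QuadGrp.O Q) (v : M) :
    ι Q v * map (QuadGrp.isometryOfMem Q g hg) z = map (QuadGrp.isometryOfMem Q g hg) z * ι Q v := by
  have := congrArg (map (QuadGrp.isometryOfMem Q g hg)) (Z.central (g.symm v))
  simpa [QuadGrp.isometryOfMem_apply] using this

theorem map_two_pow {g : M ≃ₗ[R] M} (hg : g ∈ QuadGrp.O Q) :
    ∃ r : R, map (QuadGrp.isometryOfMem Q g hg) z = r • z ∧
      2 ^ m * r = 2 ^ m * LinearMap.det g.toLinearMap := by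
  obtain ⟨r, hr⟩ := Z.odd_eq (map_mem_evenOdd _ 1 Z.odd) (Z.map_central hg)
  refine ⟨r, hr, ?_⟩
  obtain ⟨I, _, c, L, hL, s, hs, htop⟩ := Z.top
  have e := top_map Q c L hL (QuadGrp.isometryOfMem Q g hg) z
  rw [hr, map_smul, htop, Algebra.smul_def, Algebra.smul_def, ← map_mul, ← map_mul,
    show (QuadGrp.isometryOfMem Q g hg).toLinearMap = g.toLinearMap from rfl] at e
  refine hs.mul_left_cancel ?_
  linear_combination algebraMap_injective Q e

end IsOddCentre

variable [IsLocalRing R]

/-- An isometry of determinant one fixes `z`. -/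
theorem IsOddCentre.map_eq_of_det_eq_one (Z : IsOddCentre m Q z)
    (b : Module.Basis (Fin (2 * m + 1)) R M) (hQ : QuadGrp.IsSemiregular b (LinearEquiv.refl R R) Q)
    {g : M ≃ₗ[R] M} (hg : g ∈ QuadGrp.O Q) (hdet1 : LinearMap.det g.toLinearMap = 1) :
    map (QuadGrp.isometryOfMem Q g hg) z = z := by
  classical
  have hn : Odd (2 * m + 1) := odd_two_mul_add_one m
  set a := QuadGrp.coeffs b (LinearEquiv.refl R R) Q with ha
  set G := LinearMap.toMatrix b b g.toLinearMap with hG
  have hta : transform a G = a := by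
    rw [ha, hG, ← coeffs_comp, show Q.comp g.toLinearMap = Q from QuadraticMap.ext hg]
  let d : TableRing.{u} (2 * m + 1) := hd fun p => MvPolynomial.X p
  have hd' : IsUnit (tableEval a d) := by
    rw [map_hd]
    simp only [tableEval, MvPolynomial.eval₂Hom_X']
    exact hQ
  obtain ⟨A, _, _, φ, a', G', ψ, h2, hφa, hφG, hdetu, ht, hs1, hψd, hψX⟩ :=
    exists_generic a G true d hd' (fun U _ _ hU => QuadCoord.formallySmooth fun B _ _ I hI Gm hGm => by
      refine QuadCoord.lift_of_odd (a := _) I hI hGm hn ?_ rfl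
      rw [← map_hd]
      exact hU)
      (by rw [hG, LinearMap.det_toMatrix, hdet1]; exact isUnit_one) hta
      (fun _ => by rw [hG, LinearMap.det_toMatrix, hdet1])
  let Q' := formOfTable a'
  have hQ' : QuadGrp.IsSemiregular (Pi.basisFun A (Fin (2 * m + 1))) (LinearEquiv.refl A A) Q' := by
    change IsUnit (hd (QuadGrp.coeffs _ _ _))
    rw [coeffs_formOfTable]
    rw [map_hd] at hψd
    simpa only [hψX] using hψd
  obtain ⟨z', Z'⟩ := exists_oddCentre (Pi.basisFun A (Fin (2 * m + 1))) hQ'
  have hG'u : IsUnit (LinearMap.toMatrix (Pi.basisFun A (Fin (2 * m + 1)))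
      (Pi.basisFun A (Fin (2 * m + 1))) (Matrix.toLin' G')).det := by
    rwa [LinearMap.toMatrix_eq_toMatrix', LinearMap.toMatrix'_toLin']
  let g' := LinearEquiv.ofIsUnitDet hG'u
  have hg'l : g'.toLinearMap = Matrix.toLin' G' := LinearMap.ext fun x => rfl
  have hg' : g' ∈ QuadGrp.O Q' := by
    intro v
    have : Q'.comp g'.toLinearMap = Q' := by
      refine QuadCoord.eq_of_coeffs_eq (Pi.basisFun A (Fin (2 * m + 1))) ?_
      rw [coeffs_comp, coeffs_formOfTable, hg'l, LinearMap.toMatrix_eq_toMatrix',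
        LinearMap.toMatrix'_toLin', ht]
    exact QuadraticMap.congr_fun this v
  obtain ⟨r', hr', hr2⟩ := Z'.map_two_pow hg'
  rw [hg'l, LinearMap.det_toLin', hs1 rfl, mul_one] at hr2
  have h2pow : ∀ (k : ℕ) (x : A), 2 ^ k * x = 0 → x = 0 := by
    intro k
    induction k with
    | zero => simp
    | succ k ih => intro x hx; exact ih x (h2 _ (by rw [← hx, pow_succ]; ring))
  have hr'' : r' = 1 := sub_eq_zero.mp (h2pow m _ (by rw [mul_sub, hr2, mul_one, sub_self]))
  have hσ := specMap_isometry b Q φ a' hφa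
  set zb := bc Q' Q (specMap b φ) hσ z' with hzb
  have hcomm : ∀ v, ι Q v * zb = zb * ι Q v := by
    refine span_specMap b φ (P := fun v => ι Q v * zb = zb * ι Q v) (by simp) ?_ ?_ ?_
    · intro v w hv hw; rw [map_add, add_mul, mul_add, hv, hw]
    · intro c v hv; rw [map_smul, smul_mul_assoc, hv, mul_smul_comm]
    · intro x
      rw [hzb, ← bc_ι Q' Q (specMap b φ) hσ, ← map_mul, Z'.central, map_mul]
  obtain ⟨t, ht'⟩ := Z.odd_eq (bc_mem_evenOdd _ _ _ _ 1 Z'.odd) hcomm
  obtain ⟨d', hd'u, hd''⟩ := Z'.sq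
  obtain ⟨d0, hd0u, hd0⟩ := Z.sq
  have htu : IsUnit t := by
    have : t * t * d0 = φ d' := algebraMap_injective Q <| by
      have e := congrArg (bc Q' Q (specMap b φ) hσ) hd''
      rw [map_mul, ht', bc_algebraMap, smul_mul_smul_comm, hd0, Algebra.smul_def, ← map_mul] at e
      exact e
    exact (IsUnit.mul_iff.mp (IsUnit.mul_iff.mp (this ▸ hd'u.map φ)).1).1
  have e1 : map (QuadGrp.isometryOfMem Q g hg) zb = zb := by
    rw [hzb, ← bc_map Q' Q (specMap b φ) hσ (QuadGrp.isometryOfMem Q' g' hg'), hr', hr'', one_smul]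
    intro x
    rw [QuadGrp.isometryOfMem_apply, QuadGrp.isometryOfMem_apply]
    change g.toLinearMap _ = _
    rw [specMap_toLin' b φ g.toLinearMap G' hφG]
    exact congrArg _ (LinearMap.congr_fun hg'l x).symm
  rw [hzb, ht', map_smul] at e1
  exact htu.smul_left_cancel.mp e1

theorem map_neg_one_like {g : M ≃ₗ[R] M} (hg : g ∈ QuadGrp.O Q) (e : Rˣ)
    (hg' : g.trans (LinearEquiv.smulOfUnit e) ∈ QuadGrp.O Q) (he : e * e = 1)
    {x : CliffordAlgebra Q} (hx : x ∈ evenOdd Q 1) :
    map (QuadGrp.isometryOfMem Q _ hg') x = (e : R) • map (QuadGrp.isometryOfMem Q g hg) x := by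
  have he' : (e : R) * e = 1 := by rw [← Units.val_mul, he, Units.val_one]
  induction x, hx using odd_induction with
  | ι v =>
    rw [map_apply_ι, map_apply_ι, ← map_smul]
    rfl
  | add a c ha hc iha ihc => rw [map_add, map_add, iha, ihc, smul_add]
  | ι_mul_ι_mul a c x hx ih =>
    rw [map_mul, map_mul, map_mul, map_mul, ih, map_apply_ι, map_apply_ι, map_apply_ι, map_apply_ι,
      mul_smul_comm]
    congr 1
    change ι Q ((e : R) • g a) * ι Q ((e : R) • g c) * _ = _
    rw [map_smul, map_smul, smul_mul_smul_comm, he', one_smul]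
    rfl

/-- An isometry multiplies `z` by its determinant. -/
theorem IsOddCentre.map_eq_det (Z : IsOddCentre m Q z)
    (b : Module.Basis (Fin (2 * m + 1)) R M) (hQ : QuadGrp.IsSemiregular b (LinearEquiv.refl R R) Q)
    {g : M ≃ₗ[R] M} (hg : g ∈ QuadGrp.O Q) :
    map (QuadGrp.isometryOfMem Q g hg) z = LinearMap.det g.toLinearMap • z := by
  set e := LinearEquiv.det g with he_def
  have he : e * e = 1 := by
    have h := halfDisc_comp b Q (odd_two_mul_add_one m) g.toLinearMap
    rw [show Q.comp g.toLinearMap = Q from QuadraticMap.ext fun v => hg v] at h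
    have h2 := hQ.mul_right_cancel ((one_mul _).trans h)
    refine Units.ext ?_
    rw [Units.val_mul, Units.val_one, ← pow_two, he_def, LinearEquiv.coe_det, ← h2]
  have hev : (e : R) = LinearMap.det g.toLinearMap := LinearEquiv.coe_det g
  have hee : (e : R) * e = 1 := by rw [← Units.val_mul, he, Units.val_one]
  have hg' : g.trans (LinearEquiv.smulOfUnit e) ∈ QuadGrp.O Q := fun v => by
    change Q ((e : R) • g v) = Q v
    rw [QuadraticMap.map_smul, hg, hee, one_smul]
  have hdet : LinearMap.det (g.trans (LinearEquiv.smulOfUnit e)).toLinearMap = 1 := by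
    rw [show (g.trans (LinearEquiv.smulOfUnit e)).toLinearMap = (e : R) • g.toLinearMap from
      LinearMap.ext fun v => rfl, LinearMap.det_smul, ← hev,
      Module.finrank_eq_card_basis b, Fintype.card_fin, pow_succ, pow_mul, pow_two, hee, one_pow, one_mul,
      hee]
  have h1 := Z.map_eq_of_det_eq_one b hQ hg' hdet
  rw [map_neg_one_like hg e hg' he Z.odd] at h1
  calc map (QuadGrp.isometryOfMem Q g hg) z
      = ((e : R) * e) • map (QuadGrp.isometryOfMem Q g hg) z := by rw [hee, one_smul]
    _ = _ := by rw [mul_smul, h1, hev]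

end Local

section Global

variable {R : Type u} [CommRing R] {M : Type v} [AddCommGroup M] [Module R M] [Module.Free R M]
  {m : ℕ} (A : Type u) [CommRing A] [Algebra R A]

theorem isSemiregular_baseChange [Module.Finite R M] (b : Module.Basis (Fin (2 * m + 1)) R M)
    {Q : QuadraticForm R M} (hQ : QuadGrp.IsSemiregular b (LinearEquiv.refl R R) Q) :
    QuadGrp.IsSemiregular (b.baseChange A) (LinearEquiv.refl A A) (QuadGrp.baseChangeForm A Q) := by
  change IsUnit (hd (QuadGrp.coeffs _ _ _))
  rw [coeffs_baseChange, ← map_hd]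
  exact IsUnit.map _ hQ

theorem star_eq_of_central [Module.Finite R M] (b : Module.Basis (Fin (2 * m + 1)) R M)
    {Q : QuadraticForm R M} (hQ : QuadGrp.IsSemiregular b (LinearEquiv.refl R R) Q)
    {z : CliffordAlgebra Q} (hz : ∀ v, ι Q v * z = z * ι Q v) (hz1 : z ∈ evenOdd Q 1) :
    star z = ((-1 : R) ^ (m + 1)) • z := by
  refine sub_eq_zero.mp (eq_zero_of_localizations Q fun P _ => ?_)
  obtain ⟨z', Z'⟩ := exists_oddCentre (b.baseChange (Localization.AtPrime P))
    (isSemiregular_baseChange _ b hQ)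
  have hcomm : ∀ w, ι _ w * bcA (Localization.AtPrime P) Q z =
      bcA (Localization.AtPrime P) Q z * ι _ w := fun w => by
    rw [commute_ι_of_unitσ (Localization.AtPrime P) Q 1 (fun v => ?_) w, one_smul]
    have e : bcA (Localization.AtPrime P) Q (ι Q v) = _ := bc_ι Q _ _ _ v
    rw [one_smul, ← e, ← map_mul, ← map_mul, hz]
  obtain ⟨t, ht⟩ := Z'.odd_eq (bc_mem_evenOdd _ _ _ _ 1 hz1) hcomm
  rw [map_sub, bc_star, bc_smul, ht, CliffordAlgebra.star_smul, Z'.star_eq, smul_comm, map_pow,
    map_neg, map_one, sub_self]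

theorem det_eq_one_of_conj [Module.Finite R M] (b : Module.Basis (Fin (2 * m + 1)) R M)
    {Q : QuadraticForm R M} (hQ : QuadGrp.IsSemiregular b (LinearEquiv.refl R R) Q)
    {u : (CliffordAlgebra Q)ˣ} {g : M ≃ₗ[R] M} (hg : g ∈ QuadGrp.O Q)
    (h : ∀ v, (u : CliffordAlgebra Q) * ι Q v * ↑u⁻¹ = ι Q (g v)) :
    LinearMap.det g.toLinearMap = 1 := by
  refine eq_of_localizations fun P _ => ?_
  set A := Localization.AtPrime P
  obtain ⟨z', Z'⟩ := exists_oddCentre (b.baseChange A) (isSemiregular_baseChange _ b hQ)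
  let uA := Units.map (bcA A Q).toMonoidHom u
  have huA : ∀ y, map (QuadGrp.isometryOfMem _ _ (baseChange_mem_O A hg)) y *
      (uA : CliffordAlgebra (QuadGrp.baseChangeForm A Q)) =
      (uA : CliffordAlgebra (QuadGrp.baseChangeForm A Q)) * y := by
    intro y
    induction y using CliffordAlgebra.induction with
    | algebraMap r => rw [AlgHom.commutes, Algebra.commutes]
    | ι w =>
      rw [map_apply_ι, QuadGrp.isometryOfMem_apply]
      induction w using TensorProduct.induction_on with
      | zero => simp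
      | tmul a v =>
        rw [LinearEquiv.baseChange_tmul,
          show a ⊗ₜ[R] g v = a • unitσ A (g v) by
            rw [unitσ_apply, TensorProduct.smul_tmul', smul_eq_mul, mul_one],
          show a ⊗ₜ[R] v = a • unitσ A v by
            rw [unitσ_apply, TensorProduct.smul_tmul', smul_eq_mul, mul_one],
          map_smul, map_smul, smul_mul_assoc, mul_smul_comm]
        congr 1
        have e : ∀ x, bcA A Q (ι Q x) = _ := fun x => bc_ι Q _ _ _ x
        rw [← e, ← e, ← h v]
        change bcA A Q _ * bcA A Q _ = bcA A Q _ * bcA A Q _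
        rw [← map_mul, ← map_mul, mul_assoc, Units.inv_mul, mul_one]
      | add x y hx hy => rw [map_add, map_add, map_add, add_mul, mul_add, hx, hy]
    | mul x y hx hy => rw [map_mul, mul_assoc, hy, ← mul_assoc, hx, mul_assoc]
    | add x y hx hy => rw [map_add, add_mul, mul_add, hx, hy]
  have hz := huA z'
  rw [Z'.map_eq_det (b.baseChange A) (isSemiregular_baseChange _ b hQ) (baseChange_mem_O A hg),
    det_baseChange, smul_mul_assoc, ← (commute_of_commute_ι (fun v => (Z'.central v).symm)
      (uA : CliffordAlgebra _)).eq] at hz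
  have hu : IsUnit (z' * (uA : CliffordAlgebra _)) := Z'.isUnit.mul uA.isUnit
  have h0 : (algebraMap R A (LinearMap.det g.toLinearMap) - 1) •
      (z' * (uA : CliffordAlgebra (QuadGrp.baseChangeForm A Q))) = 0 := by
    rw [sub_smul, one_smul, sub_eq_zero]; exact hz
  rw [map_one]
  exact sub_eq_zero.mp (smul_eq_zero_of_isUnit _ hu h0)

theorem exists_linearEquiv_of_conj {Q : QuadraticForm R M} {u : (CliffordAlgebra Q)ˣ}
    (hu : u ∈ QuadGrp.GPin' Q) :
    ∃ g : M ≃ₗ[R] M, g ∈ QuadGrp.O Q ∧
      ∀ v, (u : CliffordAlgebra Q) * ι Q v * ↑u⁻¹ = ι Q (g v) := by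
  choose f hf using fun v => exists_conj hu v
  choose f' hf' using fun v => exists_conj ((QuadGrp.GPin' Q).inv_mem hu) v
  have hf1 : ∀ v, ι Q (f v) = (u : CliffordAlgebra Q) * ι Q v * ↑u⁻¹ := fun v => by
    rw [← hf v, mul_assoc, Units.mul_inv, mul_one]
  have hf2 : ∀ v, ι Q (f' v) = (↑u⁻¹ : CliffordAlgebra Q) * ι Q v * ↑u := fun v => by
    rw [← hf' v, mul_assoc, Units.inv_mul, mul_one]
  let g : M ≃ₗ[R] M :=
    { toFun := f
      invFun := f'
      map_add' := fun v w => ι_injective Q (by rw [map_add, hf1, hf1, hf1, map_add, mul_add, add_mul])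
      map_smul' := fun r v => ι_injective Q (by
        rw [RingHom.id_apply, map_smul, hf1, hf1, map_smul, mul_smul_comm, smul_mul_assoc])
      left_inv := fun v => ι_injective Q (by
        rw [hf2, hf1]
        simp only [← mul_assoc, Units.inv_mul, one_mul]
        simp only [mul_assoc, Units.inv_mul, mul_one])
      right_inv := fun v => ι_injective Q (by
        rw [hf1, hf2]
        simp only [← mul_assoc, Units.mul_inv, one_mul]
        simp only [mul_assoc, Units.mul_inv, mul_one]) }
  refine ⟨g, fun v => algebraMap_injective Q ?_, fun v => (hf1 v).symm⟩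
  rw [← ι_sq_scalar]
  change ι Q (f v) * ι Q (f v) = _
  rw [hf1]
  calc _ = (u : CliffordAlgebra Q) * ι Q v * ((↑u⁻¹ : CliffordAlgebra Q) * u) * ι Q v * ↑u⁻¹ := by
        simp only [mul_assoc]
    _ = _ := by
      rw [Units.inv_mul, mul_one, mul_assoc (u : CliffordAlgebra Q), ι_sq_scalar, ← Algebra.commutes,
        mul_assoc, Units.mul_inv, mul_one]

end Global

end GrothLib.Cliff28
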