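import Groth.Agent.Lib.Cliff28.Odd

/-!
# Odd rank: lifting isometries of determinant one to the even Clifford group
-/

set_option autoImplicit false
set_option linter.unusedSectionVars false

open CliffordAlgebra QuadraticMap

namespace GrothLib.Cliff28

universe u v

section Rho

variable {R : Type u} [CommRing R] {M : Type v} [AddCommGroup M] [Module R M] {m : ℕ}
  {Q : QuadraticForm R M} (S : OddSplit m Q)

/-- The form `-Q(e) P` on the complement. -/
noncomputable abbrev twForm : QuadraticForm R (Fin (2 * m) → R) := (-Q S.e) • S.P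

/-- The map `k ↦ e k` from `C(-Q(e) P)` to the even part of `C(Q)`. -/
noncomputable def rho : CliffordAlgebra (twForm S) →ₐ[R] CliffordAlgebra Q :=
  lift (twForm S) ⟨LinearMap.mulLeft R (ι Q S.e) ∘ₗ ι Q ∘ₗ S.j.toLinearMap, fun k => by
    have h : ι Q (S.j k) * ι Q S.e = -(ι Q S.e * ι Q (S.j k)) := by
      rw [eq_neg_iff_add_eq_zero, ι_mul_ι_add_swap, polar_comm, S.orth, map_zero]
    change ι Q S.e * ι Q (S.j k) * (ι Q S.e * ι Q (S.j k)) =
      algebraMap R _ ((-Q S.e) • S.P k)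
    rw [mul_assoc, ← mul_assoc (ι Q (S.j k)), h, neg_mul, mul_neg, ← mul_assoc (ι Q S.e),
      ← mul_assoc (ι Q S.e) (ι Q S.e), ι_sq_scalar, mul_assoc, ι_sq_scalar, S.j.map_app, ← map_mul,
      ← map_neg, smul_eq_mul, neg_mul]⟩

theorem rho_ι (k : Fin (2 * m) → R) : rho S (ι _ k) = ι Q S.e * ι Q (S.j k) :=
  lift_ι_apply _ _ _

theorem rho_mem_even (y : CliffordAlgebra (twForm S)) : rho S y ∈ evenOdd Q 0 := by
  induction y using CliffordAlgebra.induction with
  | algebraMap r => rw [AlgHom.commutes]; exact SetLike.algebraMap_mem_graded _ _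
  | ι k => rw [rho_ι]; exact ι_mul_ι_mem_evenOdd_zero Q _ _
  | mul a b ha hb => rw [map_mul]; simpa using SetLike.mul_mem_graded ha hb
  | add a b ha hb => rw [map_add]; exact add_mem ha hb

variable [IsLocalRing R] [Module.Free R M] [Module.Finite R M]

theorem twForm_regular : QuadGrp.IsRegular (twForm S) := by
  obtain ⟨e, he⟩ := S.unit.neg
  have h : QuadraticMap.polarBilin (twForm S) =
      ((LinearEquiv.smulOfUnit e).toLinearMap ∘ₗ QuadraticMap.polarBilin S.P :
        (Fin (2 * m) → R) →ₗ[R] _) := by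
    refine LinearMap.ext fun x => LinearMap.ext fun y => ?_
    change polar (⇑((-Q S.e) • S.P)) x y = (e : R) • polar S.P x y
    rw [he, QuadraticMap.coeFn_smul, QuadraticMap.polar_smul]
  change Function.Bijective _
  rw [h]
  exact (LinearEquiv.smulOfUnit e).bijective.comp S.regular

theorem rho_injective : Function.Injective (rho S) := by
  obtain ⟨ζ, Z⟩ := exists_arf m (twForm S) (by simp) (twForm_regular S)
  obtain ⟨z', hz'⟩ := Z.isUnit_z
  rw [injective_iff_map_eq_zero]
  refine fun y hy => eq_zero_of_stable (Pi.basisFun R (Fin (2 * m))) (twForm S)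
    (fun y => rho S y = 0) (fun i x hx => ?_) (fun r hr => ?_) hy
  · obtain ⟨w, hw⟩ := (twForm_regular S).2 ((Pi.basisFun R (Fin (2 * m))).coord i)
    have hinv : involute x = (z' : CliffordAlgebra (twForm S)) * x * ↑z'⁻¹ := by
      rw [hz', twisted_mul Z.z_anti, ← hz', mul_assoc, Units.mul_inv, mul_one]
    rw [← hw]
    have e := ι_mul_eq (twForm S) w x
    have e' := congrArg (rho S) e
    simp only [map_add, map_mul, hinv, hx, mul_zero, zero_mul, zero_add] at e'
    exact e'.symm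
  · rw [AlgHom.commutes] at hr
    exact algebraMap_injective Q (hr.trans (map_zero _).symm)

theorem exists_rho_eq {x : CliffordAlgebra Q} (hx : x ∈ evenOdd Q 0) : ∃ y, rho S y = x := by
  suffices x ∈ (rho S).range from this
  obtain ⟨e, he⟩ := S.unit
  have hk : ∀ k, ι Q (S.j k) * ι Q S.e = -(ι Q S.e * ι Q (S.j k)) := fun k => by
    rw [eq_neg_iff_add_eq_zero, ι_mul_ι_add_swap, polar_comm, S.orth, map_zero]
  have he' : ι Q S.e * ι Q S.e ∈ (rho S).range := by
    rw [ι_sq_scalar]; exact (rho S).range.algebraMap_mem _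
  have hek : ∀ k, ι Q S.e * ι Q (S.j k) ∈ (rho S).range := fun k => ⟨ι _ k, rho_ι S k⟩
  have hkl : ∀ k l, ι Q (S.j k) * ι Q (S.j l) ∈ (rho S).range := fun k l => by
    have : ι Q (S.j k) * ι Q (S.j l) =
        (↑e⁻¹ : R) • -((ι Q S.e * ι Q (S.j k)) * (ι Q S.e * ι Q (S.j l))) := by
      rw [mul_assoc (ι Q S.e), ← mul_assoc (ι Q (S.j k)), hk, neg_mul, mul_neg, neg_neg,
        ← mul_assoc (ι Q S.e), ← mul_assoc (ι Q S.e) (ι Q S.e), ι_sq_scalar, ← he, mul_assoc,
        ← Algebra.smul_def, smul_smul, Units.inv_mul, one_smul]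
    rw [this]
    exact (rho S).range.smul_mem (neg_mem ((rho S).range.mul_mem (hek k) (hek l))) _
  have hpair : ∀ v w, ι Q v * ι Q w ∈ (rho S).range := by
    intro v w
    obtain ⟨r, k, rfl⟩ := S.decomp v
    obtain ⟨r', l, rfl⟩ := S.decomp w
    rw [map_add, map_add, map_smul, map_smul, add_mul, mul_add, mul_add]
    refine add_mem (add_mem ?_ ?_) (add_mem ?_ (hkl k l))
    · rw [smul_mul_assoc, mul_smul_comm]
      exact (rho S).range.smul_mem ((rho S).range.smul_mem he' _) _
    · rw [smul_mul_assoc]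
      exact (rho S).range.smul_mem (hek l) _
    · rw [mul_smul_comm, hk]
      exact (rho S).range.smul_mem (neg_mem (hek k)) _
  induction x, hx using even_induction with
  | algebraMap r => exact (rho S).range.algebraMap_mem r
  | add a b ha hb iha ihb => exact add_mem iha ihb
  | ι_mul_ι_mul a b y hy ih => exact (rho S).range.mul_mem (hpair a b) ih

end Rho

section Lift

variable {R : Type u} [CommRing R] [IsLocalRing R] {M : Type v} [AddCommGroup M] [Module R M]
  [Module.Free R M] [Module.Finite R M] {m : ℕ} {Q : QuadraticForm R M}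

theorem exists_even_intertwiner (S : OddSplit m Q) {g : M ≃ₗ[R] M} (hg : g ∈ QuadGrp.O Q) :
    ∃ U : (CliffordAlgebra Q)ˣ, (U : CliffordAlgebra Q) ∈ evenOdd Q 0 ∧
      ∀ y ∈ evenOdd Q 0, map (QuadGrp.isometryOfMem Q g hg) y * U = U * y := by
  have hinj := rho_injective S
  have hex : ∀ (h : M ≃ₗ[R] M) (hh : h ∈ QuadGrp.O Q) (y : CliffordAlgebra (twForm S)),
      ∃ y', rho S y' = map (QuadGrp.isometryOfMem Q h hh) (rho S y) := fun h hh y =>
    exists_rho_eq S (map_mem_evenOdd _ 0 (rho_mem_even S y))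
  choose F hF using hex
  have hF' : ∀ y, F g hg (F g⁻¹ ((QuadGrp.O Q).inv_mem hg) y) = y := fun y => hinj <| by
    rw [hF, hF, ← AlgHom.comp_apply]
    have : (map (QuadGrp.isometryOfMem Q g hg)).comp
        (map (QuadGrp.isometryOfMem Q g⁻¹ ((QuadGrp.O Q).inv_mem hg))) = AlgHom.id R _ := by
      apply hom_ext; ext v; simp [QuadGrp.isometryOfMem_apply]
    rw [this]; rfl
  have hF'' : ∀ y, F g⁻¹ ((QuadGrp.O Q).inv_mem hg) (F g hg y) = y := fun y => hinj <| by
    rw [hF, hF, ← AlgHom.comp_apply]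
    have : (map (QuadGrp.isometryOfMem Q g⁻¹ ((QuadGrp.O Q).inv_mem hg))).comp
        (map (QuadGrp.isometryOfMem Q g hg)) = AlgHom.id R _ := by
      apply hom_ext; ext v; simp [QuadGrp.isometryOfMem_apply]
    rw [this]; rfl
  let γ : CliffordAlgebra (twForm S) ≃ₐ[R] CliffordAlgebra (twForm S) :=
    { toFun := F g hg
      invFun := F g⁻¹ ((QuadGrp.O Q).inv_mem hg)
      left_inv := hF''
      right_inv := hF'
      map_mul' := fun a b => hinj (by rw [map_mul, hF, hF, hF, map_mul, map_mul])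
      map_add' := fun a b => hinj (by rw [map_add, hF, hF, hF, map_add, map_add])
      commutes' := fun r => hinj (by rw [hF, AlgHom.commutes, AlgHom.commutes]) }
  obtain ⟨u, hu⟩ := exists_conj_clifford (twForm_regular S) (m := m) (by simp) γ
  refine ⟨Units.map (rho S).toMonoidHom u, rho_mem_even S _, fun x hx => ?_⟩
  obtain ⟨y, rfl⟩ := exists_rho_eq S hx
  have h := congrArg (rho S) (hu y)
  rw [map_mul, map_mul] at h
  rw [← hF g hg y]
  exact h

theorem exists_gSpin_lift_odd (b : Module.Basis (Fin (2 * m + 1)) R M)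
    (hQ : QuadGrp.IsSemiregular b (LinearEquiv.refl R R) Q) {g : M ≃ₗ[R] M}
    (hg : g ∈ QuadGrp.O Q) (hdet : LinearMap.det g.toLinearMap = 1) :
    ∃ u ∈ QuadGrp.GSpin Q, ∀ v, (u : CliffordAlgebra Q) * ι Q v * ↑u⁻¹ = ι Q (g v) := by
  obtain ⟨S⟩ := exists_oddSplit m b Q hQ
  obtain ⟨z, Z⟩ := exists_oddCentre b hQ
  have hgz := Z.map_eq_of_det_eq_one b hQ hg hdet
  obtain ⟨U, hU, hint⟩ := exists_even_intertwiner S hg
  obtain ⟨zu, hzu⟩ := Z.isUnit
  have hUz : z * (U : CliffordAlgebra Q) = U * z :=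
    (commute_of_commute_ι (fun v => (Z.central v).symm) _).eq
  have key : ∀ v, ι Q (g v) * (U : CliffordAlgebra Q) = U * ι Q v := by
    intro v
    have hzv : z * ι Q v ∈ evenOdd Q 0 :=
      (show (1 : ZMod 2) + 1 = 0 from rfl) ▸ SetLike.mul_mem_graded Z.odd (ι_mem_evenOdd_one Q v)
    have h := hint _ hzv
    rw [map_mul, hgz, map_apply_ι, QuadGrp.isometryOfMem_apply, mul_assoc,
      ← mul_assoc (U : CliffordAlgebra Q), ← hUz, mul_assoc] at h
    rw [← hzu] at h
    exact zu.isUnit.mul_left_cancel h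
  have hconj : ∀ v, (U : CliffordAlgebra Q) * ι Q v * ↑U⁻¹ = ι Q (g v) := fun v => by
    rw [← key, mul_assoc, Units.mul_inv, mul_one]
  exact ⟨U, ⟨⟨mem_GPin'_of_conj hconj, ⟨1, IsIdempotentElem.one, by rwa [one_smul],
    by rw [sub_self, zero_smul]; exact zero_mem _⟩⟩, hU⟩, hconj⟩

theorem mem_GPin'_of_central {w : (CliffordAlgebra Q)ˣ}
    (hw : ∀ v, ι Q v * (w : CliffordAlgebra Q) = w * ι Q v) : w ∈ QuadGrp.GPin' Q :=
  mem_GPin'_of_conj (g := LinearEquiv.refl R M) fun v => by
    rw [← hw, mul_assoc, Units.mul_inv, mul_one]; rfl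

theorem exists_central_mul_gSpin (b : Module.Basis (Fin (2 * m + 1)) R M)
    (hQ : QuadGrp.IsSemiregular b (LinearEquiv.refl R R) Q) {u' : (CliffordAlgebra Q)ˣ}
    (hu' : u' ∈ QuadGrp.GPin' Q) :
    ∃ z : CliffordAlgebra Q, z ∈ Subalgebra.center R (CliffordAlgebra Q) ∧ IsUnit z ∧
      ∃ u ∈ QuadGrp.GSpin Q, (u' : CliffordAlgebra Q) = z * u := by
  obtain ⟨g, hg, hconj⟩ := exists_linearEquiv_of_conj hu'
  obtain ⟨u, hu, hconj'⟩ := exists_gSpin_lift_odd b hQ hg (det_eq_one_of_conj b hQ hg hconj)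
  have hc : ∀ v, ι Q v * ((u' : CliffordAlgebra Q) * ↑u⁻¹) = u' * ↑u⁻¹ * ι Q v := by
    intro v
    have h1 : (↑u⁻¹ : CliffordAlgebra Q) * ι Q v = ι Q (g.symm v) * ↑u⁻¹ := by
      rw [← LinearEquiv.apply_symm_apply g v, ← hconj', LinearEquiv.symm_apply_apply]
      simp only [← mul_assoc, Units.inv_mul, one_mul]
    have h2 : (u' : CliffordAlgebra Q) * ι Q (g.symm v) = ι Q v * u' := by
      conv_rhs => rw [← LinearEquiv.apply_symm_apply g v, ← hconj, mul_assoc, Units.inv_mul, mul_one]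
    rw [mul_assoc _ _ (ι Q v), h1, ← mul_assoc, ← mul_assoc, h2]
  refine ⟨(u' : CliffordAlgebra Q) * ↑u⁻¹, Subalgebra.mem_center_iff.mpr fun y => ?_,
    u'.isUnit.mul u⁻¹.isUnit, u, hu, by rw [mul_assoc, Units.inv_mul, mul_one]⟩
  exact (commute_of_commute_ι (fun v => (hc v).symm) y).eq.symm

end Lift

section PinGroup

variable {R : Type u} [CommRing R] {M : Type v} [AddCommGroup M] [Module R M] [Module.Free R M]
  [Module.Finite R M] {m : ℕ} {Q : QuadraticForm R M}

theorem isLocHomog_of_norm_one [Invertible (2 : R)] (hm : Odd m)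
    (b : Module.Basis (Fin (2 * m + 1)) R M) (hQ : QuadGrp.IsSemiregular b (LinearEquiv.refl R R) Q)
    {u : (CliffordAlgebra Q)ˣ} (hu : u ∈ QuadGrp.GPin' Q)
    (hN : star (u : CliffordAlgebra Q) * u = 1) : QuadGrp.IsLocHomog Q (u : CliffordAlgebra Q) := by
  have hreg : QuadGrp.IsRegular Q := by
    rw [isRegular_iff_isUnit_det b, ← GrothLib.QuadHalfDisc.two_mul_hd (odd_two_mul_add_one m)]
    exact (isUnit_of_invertible (2 : R)).mul hQ
  obtain ⟨u0, h0, u1, h1, hu01⟩ := exists_even_add_odd Q (u : CliffordAlgebra Q)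
  set k := (↑u⁻¹ : CliffordAlgebra Q) * u0 with hk
  have hu0 : u0 = (u : CliffordAlgebra Q) * k := by rw [hk, ← mul_assoc, Units.mul_inv, one_mul]
  have hkc : ∀ v, ι Q v * k = k * ι Q v := by
    intro v
    obtain ⟨w, hw⟩ := exists_conj hu v
    have hw0 : ι Q w * u0 = u0 * ι Q v := by
      have e := hw
      rw [hu01, mul_add, add_mul, add_comm, add_comm (u0 * ι Q v)] at e
      have h11 : (1 : ZMod 2) + 1 = 0 := rfl
      exact (even_odd_unique Q (h11 ▸ SetLike.mul_mem_graded (ι_mem_evenOdd_one Q w) h1)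
        (by simpa using SetLike.mul_mem_graded (ι_mem_evenOdd_one Q w) h0)
        (h11 ▸ SetLike.mul_mem_graded h1 (ι_mem_evenOdd_one Q v))
        (by simpa using SetLike.mul_mem_graded h0 (ι_mem_evenOdd_one Q v)) e).2
    have hw' : ι Q v * (↑u⁻¹ : CliffordAlgebra Q) = ↑u⁻¹ * ι Q w := by
      rw [← Units.mul_left_inj u, mul_assoc, Units.inv_mul, mul_one, mul_assoc, hw, ← mul_assoc,
        Units.inv_mul, one_mul]
    rw [hk, ← mul_assoc, hw', mul_assoc, hw0, mul_assoc]
  have hstar : star k = k := by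
    obtain ⟨k0, hk0, k1, hk1, hk01⟩ := exists_even_add_odd Q k
    have hs := fun v => parity_commute hk0 hk1 (hk01 ▸ hkc v)
    obtain ⟨a, ha⟩ := scalar_of_contract_polar hreg fun v => contractLeft_eq_zero_of_even Q hk0 (hs v).1
    rw [hk01, star_add, ha, CliffordAlgebra.star_algebraMap, star_eq_of_central b hQ (fun v => (hs v).2) hk1,
      hm.add_one.neg_one_pow, one_smul]
  have hev : ∀ (i : ZMod 2) (x : CliffordAlgebra Q), x ∈ evenOdd Q i → star x ∈ evenOdd Q i :=
    fun i x hx => by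
      rw [star_def]
      exact (reverse_mem_evenOdd_iff (Q := Q)).mpr ((involute_mem_evenOdd_iff (Q := Q)).mpr hx)
  have hkk : star u0 * u0 = k * k := by
    rw [hu0, star_mul, hstar, mul_assoc, ← mul_assoc (star (u : CliffordAlgebra Q)), hN, one_mul]
  have hu1 : u1 = (u : CliffordAlgebra Q) * (1 - k) := by
    rw [mul_sub, mul_one, ← hu0, hu01, add_sub_cancel_left]
  have hk11 : star u1 * u1 = (1 - k) * (1 - k) := by
    rw [hu1, star_mul, star_sub, star_one, hstar, mul_assoc,
      ← mul_assoc (star (u : CliffordAlgebra Q)), hN, one_mul]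
  have hsum : k * k + (1 - k) * (1 - k) = 1 := by
    have e := hN
    rw [hu01, star_add, add_mul, mul_add, mul_add] at e
    have h11 : (1 : ZMod 2) + 1 = 0 := rfl
    have e' : (star u0 * u0 + star u1 * u1) + (star u0 * u1 + star u1 * u0) = 1 + 0 := by
      rw [add_zero, ← e]; abel
    rw [← hkk, ← hk11]
    exact (even_odd_unique Q
      (add_mem (by simpa using SetLike.mul_mem_graded (hev 0 _ h0) h0)
        (h11 ▸ SetLike.mul_mem_graded (hev 1 _ h1) h1))
      (add_mem (by simpa using SetLike.mul_mem_graded (hev 0 _ h0) h1)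
        (by simpa using SetLike.mul_mem_graded (hev 1 _ h1) h0))
      (SetLike.one_mem_graded _) (zero_mem _) e').1
  have hkk2 : k * k = k := by
    have h2 : (2 : R) • (k * k - k) = 0 := by
      rw [two_smul]
      calc (k * k - k) + (k * k - k) = (k * k + (1 - k) * (1 - k)) - 1 := by noncomm_ring
        _ = 0 := by rw [hsum, sub_self]
    exact sub_eq_zero.mp ((isUnit_of_invertible (2 : R)).smul_eq_zero.mp h2)
  have hkev : k ∈ evenOdd Q 0 := by
    rw [← hkk2, ← hkk]
    simpa using SetLike.mul_mem_graded (hev 0 _ h0) h0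
  obtain ⟨a, ha⟩ := scalar_of_contract_polar hreg fun v => contractLeft_eq_zero_of_even Q hkev (hkc v)
  have haa : a * a = a := algebraMap_injective Q (by rw [map_mul, ← ha, hkk2])
  refine ⟨a, haa, ?_, ?_⟩
  · have : a • (u : CliffordAlgebra Q) = u0 := by
      rw [Algebra.smul_def, Algebra.commutes, ← ha, ← hu0]
    rwa [this]
  · have : (1 - a) • (u : CliffordAlgebra Q) = u1 := by
      rw [Algebra.smul_def, Algebra.commutes, map_sub, map_one, ← ha, ← hu1]
    rwa [this]

end PinGroup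

end GrothLib.Cliff28
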