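import Mathlib.RingTheory.Flat.FaithfullyFlat.Basic
import Mathlib.RingTheory.TensorProduct.Maps
import Mathlib.LinearAlgebra.Matrix.ToLin
import Mathlib.LinearAlgebra.TensorProduct.RightExactness

/-!
# Separability descends along faithfully flat extensions; derivations are inner
-/

set_option autoImplicit false
set_option linter.unusedSectionVars false

open TensorProduct

namespace GrothLib.Cliff28

universe u v

variable {R : Type u} [CommRing R] {C : Type v} [Ring C] [Algebra R C]

/-- A separability element. -/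
def IsSeparability (R : Type u) [CommRing R] (C : Type v) [Ring C] [Algebra R C] (t : C ⊗[R] C) : Prop :=
  (∀ y : C, (y ⊗ₜ[R] (1 : C)) * t = t * ((1 : C) ⊗ₜ[R] y)) ∧ LinearMap.mul' R C t = 1

theorem exists_mem_of_faithfullyFlat (A : Type u) [CommRing A] [Algebra R A] [Module.FaithfullyFlat R A]
    {M N : Type*} [AddCommGroup M] [Module R M] [AddCommGroup N] [Module R N] (f : M →ₗ[R] N) {n : N}
    (h : (1 : A) ⊗ₜ[R] n ∈ LinearMap.range (f.baseChange A)) : n ∈ LinearMap.range f := by
  obtain ⟨x, hx⟩ := h
  let q := (LinearMap.range f).mkQ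
  have hz : ∀ x, q.baseChange A (f.baseChange A x) = 0 := fun x => by
    induction x using TensorProduct.induction_on with
    | zero => simp
    | tmul a m => simp [q, (Submodule.Quotient.mk_eq_zero _).mpr (LinearMap.mem_range_self f m)]
    | add y z hy hz => rw [map_add, map_add, hy, hz, add_zero]
  have h1 : (1 : A) ⊗ₜ[R] q n = 0 := by
    rw [← LinearMap.baseChange_tmul, ← hx, hz]
  exact (Submodule.Quotient.mk_eq_zero _).mp ((Module.FaithfullyFlat.one_tmul_eq_zero_iff R _ (A := A) (q n)).mp h1)

theorem exists_separability_of_matrix [Module.Finite R C] (A : Type u) [CommRing A] [Algebra R A]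
    [Module.FaithfullyFlat R A] {k : ℕ} [NeZero k]
    (e : A ⊗[R] C ≃ₐ[A] Matrix (Fin k) (Fin k) A) : ∃ t, IsSeparability R C t := by
  classical
  obtain ⟨s, hs⟩ := Module.Finite.fg_top (R := R) (M := C)
  let L : C ⊗[R] C →ₗ[R] ((↑s : Set C) → C ⊗[R] C) × C :=
    (LinearMap.pi fun y : (↑s : Set C) => LinearMap.mulLeft R ((y : C) ⊗ₜ[R] (1 : C)) -
      LinearMap.mulRight R ((1 : C) ⊗ₜ[R] (y : C))).prod (LinearMap.mul' R C)
  suffices h : ((0 : (↑s : Set C) → C ⊗[R] C), (1 : C)) ∈ LinearMap.range L by
    obtain ⟨t, ht⟩ := h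
    refine ⟨t, fun y => ?_, congrArg Prod.snd ht⟩
    have hy : y ∈ Submodule.span R (↑s : Set C) := hs ▸ Submodule.mem_top
    induction hy using Submodule.span_induction with
    | mem x hx => exact sub_eq_zero.mp (congrFun (congrArg Prod.fst ht) ⟨x, hx⟩)
    | zero => simp
    | add x z _ _ hx hz => rw [TensorProduct.add_tmul, TensorProduct.tmul_add, add_mul, mul_add, hx, hz]
    | smul r x _ hx =>
      rw [← TensorProduct.smul_tmul', TensorProduct.tmul_smul, smul_mul_assoc, mul_smul_comm, hx]
  refine exists_mem_of_faithfullyFlat A L ?_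
  let i1 : A ⊗[R] C →ₐ[A] A ⊗[R] (C ⊗[R] C) :=
    Algebra.TensorProduct.map (AlgHom.id A A) Algebra.TensorProduct.includeLeft
  let i2 : A ⊗[R] C →ₐ[A] A ⊗[R] (C ⊗[R] C) :=
    Algebra.TensorProduct.map (AlgHom.id A A) Algebra.TensorProduct.includeRight
  let E : Fin k → Fin k → A ⊗[R] C := fun i j => e.symm (Matrix.single i j 1)
  let t : A ⊗[R] (C ⊗[R] C) := ∑ i, i1 (E i 0) * i2 (E 0 i)
  refine ⟨t, ?_⟩
  have hμ : ∀ a b, (LinearMap.mul' R C).baseChange A (i1 a * i2 b) = a * b := fun a b => by
    induction a using TensorProduct.induction_on with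
    | zero => simp
    | add x y hx hy => rw [map_add, add_mul, map_add, hx, hy, add_mul]
    | tmul a x =>
      induction b using TensorProduct.induction_on with
      | zero => simp
      | add y z hy hz => rw [map_add, mul_add, map_add, hy, hz, mul_add]
      | tmul b y => simp [i1, i2]
  have hμt : (LinearMap.mul' R C).baseChange A t = 1 := by
    simp only [t, map_sum, hμ]
    simp only [E, ← map_mul, Matrix.single_mul_single_same, mul_one]
    rw [← map_sum, Matrix.sum_single_eq_diagonal, Matrix.diagonal_one, map_one]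
  have hcomm : ∀ z, i1 z * t = t * i2 z := by
    intro z
    obtain ⟨Y, rfl⟩ := e.symm.surjective z
    have h1 : ∀ i, i1 (e.symm Y) * i1 (E i 0) = ∑ l, Y l i • i1 (E l 0) := fun i => by
      rw [← map_mul]
      simp only [E, ← map_mul, ← map_smul, ← map_sum]
      refine congrArg (fun M => i1 (e.symm M)) ?_
      ext p q
      rcases eq_or_ne q 0 with rfl | hq
      · simp [Matrix.sum_apply, Matrix.single_apply, Matrix.mul_apply]
      · simp [Matrix.sum_apply, Matrix.single_apply, Matrix.mul_apply, Ne.symm hq]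
    have h2 : ∀ l, i2 (E 0 l) * i2 (e.symm Y) = ∑ i, Y l i • i2 (E 0 i) := fun l => by
      rw [← map_mul]
      simp only [E, ← map_mul, ← map_smul, ← map_sum]
      refine congrArg (fun M => i2 (e.symm M)) ?_
      ext p q
      rcases eq_or_ne p 0 with rfl | hp
      · simp [Matrix.sum_apply, Matrix.single_apply, Matrix.mul_apply]
      · simp [Matrix.sum_apply, Matrix.single_apply, Matrix.mul_apply, Ne.symm hp]
    simp only [t, Finset.mul_sum, Finset.sum_mul]
    calc ∑ i, i1 (e.symm Y) * (i1 (E i 0) * i2 (E 0 i))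
        = ∑ i, ∑ l, Y l i • (i1 (E l 0) * i2 (E 0 i)) := Finset.sum_congr rfl fun i _ => by
          rw [← mul_assoc, h1, Finset.sum_mul]; simp only [smul_mul_assoc]
      _ = ∑ l, ∑ i, Y l i • (i1 (E l 0) * i2 (E 0 i)) := Finset.sum_comm
      _ = _ := Finset.sum_congr rfl fun l _ => by
          rw [mul_assoc, h2, Finset.mul_sum]; simp only [mul_smul_comm]
  have hL : ∀ x, (LinearMap.snd R ((↑s : Set C) → C ⊗[R] C) C).baseChange A (L.baseChange A x) =
      (LinearMap.mul' R C).baseChange A x := fun x => by
    induction x using TensorProduct.induction_on with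
    | zero => simp
    | add y z hy hz => rw [map_add, map_add, hy, hz, map_add]
    | tmul a m => simp [L]
  have hL' : ∀ x y, ((LinearMap.proj y).comp (LinearMap.fst R ((↑s : Set C) → C ⊗[R] C) C)).baseChange A
      (L.baseChange A x) = i1 ((1 : A) ⊗ₜ[R] (y : C)) * x - x * i2 ((1 : A) ⊗ₜ[R] (y : C)) := fun x y => by
    induction x using TensorProduct.induction_on with
    | zero => simp
    | add x z hx hz => rw [map_add, map_add, hx, hz, mul_add, add_mul]; abel
    | tmul a m => simp [L, i1, i2, TensorProduct.tmul_sub]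
  -- an element of the base change of the product is determined by its projections
  let back : (A ⊗[R] C) → ((↑s : Set C) → A ⊗[R] (C ⊗[R] C)) → A ⊗[R] (((↑s : Set C) → C ⊗[R] C) × C) :=
    fun c f => (LinearMap.inr R _ _).baseChange A c +
      ∑ y, ((LinearMap.inl R _ _).comp (LinearMap.single R (fun _ : (↑s : Set C) => C ⊗[R] C) y)).baseChange A (f y)
  have hback : ∀ w, w = back ((LinearMap.snd R _ _).baseChange A w)
      (fun y => ((LinearMap.proj y).comp (LinearMap.fst R ((↑s : Set C) → C ⊗[R] C) C)).baseChange A w) := fun w => by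
    induction w using TensorProduct.induction_on with
    | zero => simp [back]
    | add y z hy hz =>
      simp only [back, map_add, Finset.sum_add_distrib] at hy hz ⊢
      conv_lhs => rw [hy, hz]
      abel
    | tmul a m =>
      simp only [back, LinearMap.baseChange_tmul, LinearMap.comp_apply]
      rw [← TensorProduct.tmul_sum, ← TensorProduct.tmul_add, ← map_sum]
      congr 1
      rw [show (∑ y, LinearMap.single R (fun _ : (↑s : Set C) => C ⊗[R] C) y
          (LinearMap.proj y (LinearMap.fst R _ C m))) = m.1 from Finset.univ_sum_single m.1]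
      simp
  rw [hback (L.baseChange A t), hback ((1 : A) ⊗ₜ[R] _), hL, hμt]
  congr 1
  funext y
  rw [hL', hcomm, sub_self]
  simp

/-- A derivation into a square zero part is inner. -/
theorem exists_inner {t : C ⊗[R] C} (ht : IsSeparability R C t) (K : Submodule R C)
    (hK : ∀ k ∈ K, ∀ c, k * c ∈ K) (δ : C →ₗ[R] C) (hδK : ∀ c, δ c ∈ K)
    (hδ : ∀ a b, δ (a * b) = a * δ b + δ a * b) :
    ∃ w ∈ K, ∀ y, δ y = w * y - y * w := by
  let Ψ : C ⊗[R] C →ₗ[R] C := TensorProduct.lift ((LinearMap.mul R C).comp δ)
  have h1 : ∀ (y : C) z, Ψ ((y ⊗ₜ[R] (1 : C)) * z) = y * Ψ z + δ y * LinearMap.mul' R C z := fun y z => by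
    induction z using TensorProduct.induction_on with
    | zero => simp
    | add a b ha hb => rw [mul_add, map_add, ha, hb, map_add, map_add, mul_add, mul_add]; abel
    | tmul a b => simp [Ψ, hδ, add_mul, mul_assoc]
  have h2 : ∀ (y : C) z, Ψ (z * ((1 : C) ⊗ₜ[R] y)) = Ψ z * y := fun y z => by
    induction z using TensorProduct.induction_on with
    | zero => simp
    | add a b ha hb => rw [add_mul, map_add, ha, hb, map_add, add_mul]
    | tmul a b => simp [Ψ, mul_assoc]
  have hw : ∀ z, Ψ z ∈ K := fun z => by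
    induction z using TensorProduct.induction_on with
    | zero => simp
    | add a b ha hb => rw [map_add]; exact add_mem ha hb
    | tmul a b => exact hK _ (hδK a) b
  refine ⟨Ψ t, hw t, fun y => eq_sub_of_add_eq ?_⟩
  have h := congrArg Ψ (ht.1 y)
  rw [h1, h2, ht.2, mul_one] at h
  rw [add_comm]; exact h

end GrothLib.Cliff28
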