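import Groth.Agent.Lib.Cliff28.BCEquiv
import Groth.Agent.Lib.Cliff28.Separable
import Groth.Agent.Lib.QuadGrp.RepIso
import Groth.Agent.Lib.QuadGrp.Infinitesimal
import Mathlib.LinearAlgebra.ExteriorAlgebra.Basis
import Mathlib.AlgebraicGeometry.Morphisms.Smooth
import Mathlib.RingTheory.Smooth.Basic
import Mathlib.Tactic.DeriveFintype
import Mathlib.AlgebraicGeometry.Morphisms.Affine

/-!
# The coordinate rings of the Clifford and pin groups
-/

set_option autoImplicit false
set_option linter.unusedSectionVars false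

open CliffordAlgebra TensorProduct
open scoped Pointwise

namespace GrothLib.Cliff28

universe u

variable {R : Type u} [CommRing R] {n : ℕ} (Q : QuadraticForm R (Fin n → R))

/-- A change of form to zero. -/
noncomputable def toZeroBilin : LinearMap.BilinForm R (Fin n → R) := (exists_changeForm Q).choose

theorem toZeroBilin_spec : (toZeroBilin Q).toQuadraticMap = (0 : QuadraticForm R (Fin n → R)) - Q :=
  (exists_changeForm Q).choose_spec

/-- A basis of the Clifford algebra. -/
noncomputable def cliffBasis : Module.Basis (Finset (Fin n)) R (CliffordAlgebra Q) :=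
  ((Pi.basisFun R (Fin n)).ExteriorAlgebra :
    Module.Basis (Finset (Fin n)) R (CliffordAlgebra (0 : QuadraticForm R (Fin n → R)))).map
    (changeFormEquiv (toZeroBilin_spec Q)).symm

/-- A projection onto the vectors. -/
noncomputable def vecProj : CliffordAlgebra Q →ₗ[R] CliffordAlgebra Q :=
  (ι Q).comp ((ExteriorAlgebra.ιInv (R := R) (M := Fin n → R)).comp (changeForm (toZeroBilin_spec Q)))

theorem vecProj_ι (v : Fin n → R) : vecProj Q (ι Q v) = ι Q v := by
  change ι Q (ExteriorAlgebra.ιInv (changeForm (toZeroBilin_spec Q) (ι Q v))) = _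
  rw [changeForm_ι]
  exact congrArg (ι Q) (ExteriorAlgebra.ι_leftInverse v)

theorem vecProj_mem (x : CliffordAlgebra Q) : vecProj Q x ∈ LinearMap.range (ι Q) :=
  LinearMap.mem_range_self _ _

/-- The projection onto a parity. -/
noncomputable def parityProj {S : Type*} [CommRing S] {N : Type*} [AddCommGroup N] [Module S N]
    (P : QuadraticForm S N) (i : ZMod 2) : CliffordAlgebra P →ₗ[S] CliffordAlgebra P :=
  (evenOdd P i).subtype.comp (part P i)

section Scalars

variable (A : Type u) [CommRing A] [Algebra R A]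

/-- The induced basis after base change. -/
noncomputable def bcBasis : Module.Basis (Finset (Fin n)) A (CliffordAlgebra (QuadGrp.baseChangeForm A Q)) :=
  (Algebra.TensorProduct.basis A (cliffBasis Q)).map (bcEquiv A Q).toLinearEquiv

theorem bcBasis_apply (i : Finset (Fin n)) : bcBasis Q A i = bcA A Q (cliffBasis Q i) := by
  rw [bcBasis, Module.Basis.map_apply, Algebra.TensorProduct.basis_apply, AlgEquiv.toLinearEquiv_apply,
    bcEquiv_apply, bcLift_tmul, one_smul]

variable {A}

theorem bcA_smul (r : R) (x : CliffordAlgebra Q) : bcA A Q (r • x) = algebraMap R A r • bcA A Q x :=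
  bc_smul _ _ _ _ r x

theorem bcA_repr (x : CliffordAlgebra Q) :
    bcA A Q x = ∑ i, algebraMap R A ((cliffBasis Q).repr x i) • bcBasis Q A i := by
  conv_lhs => rw [← (cliffBasis Q).sum_repr x]
  simp only [map_sum, bcA_smul, bcBasis_apply]

variable (A) in
/-- The extension of a linear map. -/
noncomputable def extMap (L : CliffordAlgebra Q →ₗ[R] CliffordAlgebra Q) :
    CliffordAlgebra (QuadGrp.baseChangeForm A Q) →ₗ[A] CliffordAlgebra (QuadGrp.baseChangeForm A Q) :=
  (bcBasis Q A).constr A fun i => bcA A Q (L (cliffBasis Q i))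

theorem extMap_bcA (L : CliffordAlgebra Q →ₗ[R] CliffordAlgebra Q) (x : CliffordAlgebra Q) :
    extMap Q A L (bcA A Q x) = bcA A Q (L x) := by
  conv_rhs => rw [← (cliffBasis Q).sum_repr x]
  rw [bcA_repr]
  simp only [map_sum, map_smul, bcA_smul, extMap, Module.Basis.constr_basis]

theorem mem_range_ι_iff (x : CliffordAlgebra (QuadGrp.baseChangeForm A Q)) :
    x ∈ LinearMap.range (ι (QuadGrp.baseChangeForm A Q)) ↔ extMap Q A (vecProj Q) x = x := by
  constructor
  · rintro ⟨w, rfl⟩
    induction w using TensorProduct.induction_on with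
    | zero => simp
    | add v w hv hw => simp only [map_add, hv, hw]
    | tmul a v =>
      have e : ι (QuadGrp.baseChangeForm A Q) (a ⊗ₜ[R] v) = a • bcA A Q (ι Q v) := by
        rw [bcA, bc_ι, unitσ_apply, ← map_smul, TensorProduct.smul_tmul', smul_eq_mul, mul_one]
      rw [e, map_smul, extMap_bcA, vecProj_ι]
  · intro h
    rw [← h, ← (bcBasis Q A).sum_repr x, map_sum]
    refine Submodule.sum_mem _ fun i _ => ?_
    rw [map_smul]
    refine Submodule.smul_mem _ _ ?_
    rw [extMap, Module.Basis.constr_basis]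
    obtain ⟨v, hv⟩ := vecProj_mem Q (cliffBasis Q i)
    exact ⟨unitσ A v, by rw [← hv, bcA, bc_ι]⟩

theorem extMap_parityProj (i : ZMod 2) (x : CliffordAlgebra (QuadGrp.baseChangeForm A Q)) :
    extMap Q A (parityProj Q i) x = parityProj (QuadGrp.baseChangeForm A Q) i x := by
  suffices h : extMap Q A (parityProj Q i) = parityProj (QuadGrp.baseChangeForm A Q) i by rw [h]
  refine (bcBasis Q A).ext fun k => ?_
  rw [bcBasis_apply, extMap_bcA]
  conv_rhs => rw [← part_add_part Q (cliffBasis Q k), map_add, map_add]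
  have h0 := bc_mem_evenOdd Q _ (unitσ A) (baseChangeForm_unitσ A Q) 0 (part Q 0 (cliffBasis Q k)).2
  have h1 := bc_mem_evenOdd Q _ (unitσ A) (baseChangeForm_unitσ A Q) 1 (part Q 1 (cliffBasis Q k)).2
  fin_cases i
  · change bcA A Q (part Q 0 _ : CliffordAlgebra Q) =
      (part (QuadGrp.baseChangeForm A Q) 0 _ : CliffordAlgebra (QuadGrp.baseChangeForm A Q)) +
      (part (QuadGrp.baseChangeForm A Q) 0 _ : CliffordAlgebra (QuadGrp.baseChangeForm A Q))
    rw [part_of_mem _ h0, part_of_mem_ne _ h1 (by decide), Submodule.coe_zero, add_zero]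
  · change bcA A Q (part Q 1 _ : CliffordAlgebra Q) =
      (part (QuadGrp.baseChangeForm A Q) 1 _ : CliffordAlgebra (QuadGrp.baseChangeForm A Q)) +
      (part (QuadGrp.baseChangeForm A Q) 1 _ : CliffordAlgebra (QuadGrp.baseChangeForm A Q))
    rw [part_of_mem _ h1, part_of_mem_ne _ h0 (by decide), Submodule.coe_zero, zero_add]

theorem mem_evenOdd_iff (i : ZMod 2) (x : CliffordAlgebra (QuadGrp.baseChangeForm A Q)) :
    x ∈ evenOdd (QuadGrp.baseChangeForm A Q) i ↔ extMap Q A (parityProj Q i) x = x := by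
  rw [extMap_parityProj]
  exact ⟨fun h => part_of_mem _ h, fun h => h ▸ (part (QuadGrp.baseChangeForm A Q) i x).2⟩

end Scalars

section Functorial

variable {A B : Type u} [CommRing A] [Algebra R A] [CommRing B] [Algebra R B] (φ : A →ₐ[R] B)

/-- The change of scalars on vectors. -/
noncomputable def vecMap : A ⊗[R] (Fin n → R) →ₛₗ[φ.toRingHom] B ⊗[R] (Fin n → R) where
  toFun := LinearMap.rTensor (Fin n → R) φ.toLinearMap
  map_add' := map_add _
  map_smul' a x := by
    induction x using TensorProduct.induction_on with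
    | zero => simp
    | tmul b v => simp [TensorProduct.smul_tmul']
    | add x y hx hy => simp only [smul_add, map_add, hx, hy]

theorem vecMap_tmul (a : A) (v : Fin n → R) : vecMap φ (a ⊗ₜ[R] v) = φ a ⊗ₜ[R] v := rfl

theorem vecMap_isometry (x : A ⊗[R] (Fin n → R)) :
    QuadGrp.baseChangeForm B Q (vecMap φ x) = φ.toRingHom (QuadGrp.baseChangeForm A Q x) := by
  have h0 : vecMap (n := n) φ 0 = 0 := (vecMap φ).map_zero
  have hpol : ∀ x y, QuadraticMap.polar (QuadGrp.baseChangeForm B Q) (vecMap (n := n) φ x) (vecMap φ y) =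
      φ (QuadraticMap.polar (QuadGrp.baseChangeForm A Q) x y) := by
    intro x y
    induction x using TensorProduct.induction_on with
    | zero => rw [h0]; simp [QuadraticMap.polar]
    | add p q hp hq => simp only [map_add, QuadraticMap.polar_add_left, hp, hq]
    | tmul a v =>
      induction y using TensorProduct.induction_on with
      | zero => rw [h0]; simp [QuadraticMap.polar]
      | add p q hp hq => simp only [map_add, QuadraticMap.polar_add_right, hp, hq]
      | tmul b w =>
        rw [vecMap_tmul, vecMap_tmul, show a ⊗ₜ[R] v = a • ((1 : A) ⊗ₜ[R] v) by simp [TensorProduct.smul_tmul'],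
          show b ⊗ₜ[R] w = b • ((1 : A) ⊗ₜ[R] w) by simp [TensorProduct.smul_tmul'],
          show φ a ⊗ₜ[R] v = φ a • ((1 : B) ⊗ₜ[R] v) by simp [TensorProduct.smul_tmul'],
          show φ b ⊗ₜ[R] w = φ b • ((1 : B) ⊗ₜ[R] w) by simp [TensorProduct.smul_tmul'],
          QuadraticMap.polar_smul_left, QuadraticMap.polar_smul_right, QuadraticMap.polar_smul_left,
          QuadraticMap.polar_smul_right, QuadInf.polar_baseChangeForm, QuadInf.polar_baseChangeForm]
        simp
  induction x using TensorProduct.induction_on with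
  | zero => rw [h0]; simp [QuadraticMap.polar]
  | tmul a v =>
    rw [vecMap_tmul, show a ⊗ₜ[R] v = a • ((1 : A) ⊗ₜ[R] v) by simp [TensorProduct.smul_tmul'],
      show φ a ⊗ₜ[R] v = φ a • ((1 : B) ⊗ₜ[R] v) by simp [TensorProduct.smul_tmul'],
      QuadraticMap.map_smul, QuadraticMap.map_smul, QuadInf.baseChangeForm_tmul, QuadInf.baseChangeForm_tmul]
    simp
  | add p q hp hq =>
    rw [map_add, QuadraticMap.map_add (QuadGrp.baseChangeForm B Q), QuadraticMap.map_add (QuadGrp.baseChangeForm A Q),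
      map_add, map_add, hp, hq, hpol]
    rfl

/-- The change of scalars on Clifford algebras. -/
noncomputable def cliffMap :
    CliffordAlgebra (QuadGrp.baseChangeForm A Q) →+* CliffordAlgebra (QuadGrp.baseChangeForm B Q) :=
  bc _ _ (vecMap φ) (vecMap_isometry Q φ)

theorem cliffMap_ι (v : A ⊗[R] (Fin n → R)) :
    cliffMap Q φ (ι _ v) = ι _ (LinearMap.rTensor (Fin n → R) φ.toLinearMap v) := bc_ι _ _ _ _ v

theorem cliffMap_algebraMap (a : A) : cliffMap Q φ (algebraMap A _ a) = algebraMap B _ (φ a) :=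
  bc_algebraMap _ _ _ _ a

theorem cliffMap_smul (a : A) (x : CliffordAlgebra (QuadGrp.baseChangeForm A Q)) :
    cliffMap Q φ (a • x) = φ a • cliffMap Q φ x := bc_smul _ _ _ _ a x

theorem cliffMap_bcA (x : CliffordAlgebra Q) : cliffMap Q φ (bcA A Q x) = bcA B Q x := by
  induction x using CliffordAlgebra.induction with
  | algebraMap r => rw [bcA, bc_algebraMap, cliffMap_algebraMap, bc_algebraMap, φ.commutes]
  | ι v =>
    rw [bcA, bc_ι, bc_ι, cliffMap_ι, unitσ_apply, unitσ_apply, LinearMap.rTensor_tmul,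
      AlgHom.toLinearMap_apply, map_one]
  | mul a b ha hb => rw [map_mul, map_mul, map_mul, ha, hb]
  | add a b ha hb => rw [map_add, map_add, map_add, ha, hb]

theorem repr_cliffMap (x : CliffordAlgebra (QuadGrp.baseChangeForm A Q)) (i : Finset (Fin n)) :
    (bcBasis Q B).repr (cliffMap Q φ x) i = φ ((bcBasis Q A).repr x i) := by
  conv_lhs => rw [← (bcBasis Q A).sum_repr x]
  simp only [map_sum, cliffMap_smul, bcBasis_apply Q A, cliffMap_bcA, ← bcBasis_apply Q B, map_smul,
    Module.Basis.repr_self, Finsupp.coe_finsetSum, Finset.sum_apply, Finsupp.smul_apply]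
  simp [Finsupp.single_apply]

theorem cliffMap_eq_zero_iff (x : CliffordAlgebra (QuadGrp.baseChangeForm A Q)) :
    cliffMap Q φ x = 0 ↔ ∀ i, φ ((bcBasis Q A).repr x i) = 0 := by
  rw [(bcBasis Q B).ext_elem_iff]
  simp [repr_cliffMap]

theorem cliffMap_extMap (L : CliffordAlgebra Q →ₗ[R] CliffordAlgebra Q)
    (x : CliffordAlgebra (QuadGrp.baseChangeForm A Q)) :
    cliffMap Q φ (extMap Q A L x) = extMap Q B L (cliffMap Q φ x) := by
  rw [← (bcBasis Q A).sum_repr x]
  simp only [map_sum, map_smul, cliffMap_smul, bcBasis_apply, extMap_bcA, cliffMap_bcA]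

theorem cliffMap_star (x : CliffordAlgebra (QuadGrp.baseChangeForm A Q)) :
    cliffMap Q φ (star x) = star (cliffMap Q φ x) := bc_star _ _ _ _ x

end Functorial

section Points

/-- The equations. -/
inductive EqIdx (n : ℕ) : Type
  | invL
  | invR
  | conjL (j : Fin n)
  | conjR (j : Fin n)
  | idem
  | even
  | odd
  | norm
  deriving Fintype

variable (A : Type u) [CommRing A] [Algebra R A]

/-- The `j`th basis vector in the Clifford algebra. -/
noncomputable def gen (j : Fin n) : CliffordAlgebra (QuadGrp.baseChangeForm A Q) :=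
  bcA A Q (ι Q (Pi.single j 1))

/-- The value of the equations. -/
noncomputable def eqn (s : Bool) (x y : CliffordAlgebra (QuadGrp.baseChangeForm A Q)) (e : A) :
    EqIdx n → CliffordAlgebra (QuadGrp.baseChangeForm A Q)
  | .invL => x * y - 1
  | .invR => y * x - 1
  | .conjL j => extMap Q A (vecProj Q) (x * gen Q A j * y) - x * gen Q A j * y
  | .conjR j => extMap Q A (vecProj Q) (y * gen Q A j * x) - y * gen Q A j * x
  | .idem => algebraMap A _ (e * e - e)
  | .even => extMap Q A (parityProj Q 0) (e • x) - e • x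
  | .odd => extMap Q A (parityProj Q 1) ((1 - e) • x) - (1 - e) • x
  | .norm => if s then star x * x - 1 else 0

variable {A} {B : Type u} [CommRing B] [Algebra R B]

theorem cliffMap_eqn (φ : A →ₐ[R] B) (s : Bool) (x y : CliffordAlgebra (QuadGrp.baseChangeForm A Q))
    (e : A) (k : EqIdx n) :
    cliffMap Q φ (eqn Q A s x y e k) = eqn Q B s (cliffMap Q φ x) (cliffMap Q φ y) (φ e) k := by
  have hg : ∀ j, cliffMap Q φ (gen Q A j) = gen Q B j := fun j => cliffMap_bcA Q φ _
  rcases k with _ | _ | j | j | _ | _ | _ | _ <;>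
    simp only [eqn, map_sub, map_mul, map_one, cliffMap_extMap, hg, cliffMap_algebraMap, cliffMap_smul]
  split <;> simp [cliffMap_star]

/-- The points. -/
def IsPinPt (s : Bool) (u : (CliffordAlgebra (QuadGrp.baseChangeForm A Q))ˣ) (e : A) : Prop :=
  ∀ k, eqn Q A s u ↑u⁻¹ e k = 0

theorem isPinPt_iff (s : Bool) (u : (CliffordAlgebra (QuadGrp.baseChangeForm A Q))ˣ) (e : A) :
    IsPinPt Q s u e ↔ u ∈ QuadGrp.GPin' (QuadGrp.baseChangeForm A Q) ∧
      (IsIdempotentElem e ∧
        e • (u : CliffordAlgebra (QuadGrp.baseChangeForm A Q)) ∈ evenOdd (QuadGrp.baseChangeForm A Q) 0 ∧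
        (1 - e) • (u : CliffordAlgebra (QuadGrp.baseChangeForm A Q)) ∈ evenOdd (QuadGrp.baseChangeForm A Q) 1) ∧
      (s = true → star (u : CliffordAlgebra (QuadGrp.baseChangeForm A Q)) * u = 1) := by
  let W := LinearMap.range (ι (QuadGrp.baseChangeForm A Q))
  let x : CliffordAlgebra (QuadGrp.baseChangeForm A Q) := u
  let y : CliffordAlgebra (QuadGrp.baseChangeForm A Q) := ↑u⁻¹
  have hgen : ∀ j, gen Q A j ∈ W := fun j => ⟨unitσ A (Pi.single j 1), (bc_ι _ _ _ _ _).symm⟩
  have hspan : ∀ a b : CliffordAlgebra (QuadGrp.baseChangeForm A Q),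
      (∀ j, a * gen Q A j * b ∈ W) → ∀ w ∈ W, a * w * b ∈ W := by
    rintro a b h _ ⟨w, rfl⟩
    have hw : w ∈ Submodule.span A (Set.range fun j : Fin n => unitσ A (Pi.single j (1 : R))) := by
      have : (fun j : Fin n => unitσ A (Pi.single j (1 : R))) = ⇑(Algebra.TensorProduct.basis A (Pi.basisFun R (Fin n))) :=
        funext fun j => by simp [unitσ_apply]
      rw [this, Module.Basis.span_eq]; exact Submodule.mem_top
    induction hw using Submodule.span_induction with
    | mem z hz =>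
      obtain ⟨j, rfl⟩ := hz
      have := h j
      rwa [gen, bcA, bc_ι] at this
    | zero => simp
    | add p q _ _ hp hq => rw [map_add, mul_add, add_mul]; exact add_mem hp hq
    | smul c p _ hp => rw [map_smul, mul_smul_comm, smul_mul_assoc]; exact W.smul_mem c hp
  have hsmul : ∀ z, z ∈ ConjAct.toConjAct u • W ↔ ∃ w ∈ W, z = x * w * y := fun z => by
    rw [Submodule.mem_smul_pointwise_iff_exists]
    simp [ConjAct.units_smul_def, x, y, eq_comm]
  rw [QuadGrp.mem_GPin']
  refine ⟨fun h => ⟨?_, ⟨?_, ?_, ?_⟩, fun hs => ?_⟩, ?_⟩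
  · refine le_antisymm (fun z hz => ?_) (fun z hz => ?_)
    · obtain ⟨w, hw, rfl⟩ := (hsmul z).mp hz
      exact hspan x y (fun j => (mem_range_ι_iff Q _).mpr (sub_eq_zero.mp (h (.conjL j)))) w hw
    · refine (hsmul z).mpr ⟨y * z * x,
        hspan y x (fun j => (mem_range_ι_iff Q _).mpr (sub_eq_zero.mp (h (.conjR j)))) z hz, ?_⟩
      simp only [x, y, ← mul_assoc, Units.mul_inv, one_mul]
      rw [mul_assoc, Units.mul_inv, mul_one]
  · have := h .idem
    rw [eqn, ← map_zero (algebraMap A (CliffordAlgebra (QuadGrp.baseChangeForm A Q)))] at this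
    exact sub_eq_zero.mp (algebraMap_injective _ this)
  · exact (mem_evenOdd_iff Q 0 _).mpr (sub_eq_zero.mp (h .even))
  · exact (mem_evenOdd_iff Q 1 _).mpr (sub_eq_zero.mp (h .odd))
  · have := h .norm
    rw [eqn, if_pos hs] at this
    exact sub_eq_zero.mp this
  · rintro ⟨hW, ⟨he, h0, h1⟩, hn⟩ (_ | _ | j | j | _ | _ | _ | _)
    · simp [eqn]
    · simp [eqn]
    · refine sub_eq_zero.mpr ((mem_range_ι_iff Q _).mp ?_)
      exact hW.le ((hsmul _).mpr ⟨_, hgen j, rfl⟩)
    · refine sub_eq_zero.mpr ((mem_range_ι_iff Q _).mp ?_)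
      obtain ⟨w, hw, e'⟩ := (hsmul _).mp (hW.ge (hgen j))
      rw [e']
      simp only [x, y, ← mul_assoc, Units.inv_mul, one_mul]
      rwa [mul_assoc, Units.inv_mul, mul_one]
    · rw [eqn, sub_eq_zero.mpr he.eq, map_zero]
    · exact sub_eq_zero.mpr ((mem_evenOdd_iff Q 0 _).mp h0)
    · exact sub_eq_zero.mpr ((mem_evenOdd_iff Q 1 _).mp h1)
    · rw [eqn]; split_ifs with hs
      · exact sub_eq_zero.mpr (hn hs)
      · rfl

theorem isPinPt_unique {s : Bool} {u : (CliffordAlgebra (QuadGrp.baseChangeForm A Q))ˣ} {e e' : A}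
    (h : IsPinPt Q s u e) (h' : IsPinPt Q s u e') : e = e' := by
  obtain ⟨-, ⟨-, h0, h1⟩, -⟩ := (isPinPt_iff Q s u e).mp h
  obtain ⟨-, ⟨-, h0', h1'⟩, -⟩ := (isPinPt_iff Q s u e').mp h'
  have hz : ∀ a b : A, a • (u : CliffordAlgebra (QuadGrp.baseChangeForm A Q)) ∈ evenOdd _ 0 →
      (1 - b) • (u : CliffordAlgebra (QuadGrp.baseChangeForm A Q)) ∈ evenOdd _ 1 → a * (1 - b) = 0 := by
    intro a b ha hb
    refine smul_eq_zero_of_isUnit _ u.isUnit (eq_zero_of_mem_zero_of_mem_one _ ?_ ?_)
    · rw [mul_comm, mul_smul]; exact Submodule.smul_mem _ _ ha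
    · rw [mul_smul]; exact Submodule.smul_mem _ _ hb
  linear_combination hz e e' h0 h1' - hz e' e h0' h1

end Points

section Coord

/-- The variables. -/
abbrev PinPoly (R : Type u) [CommRing R] (n : ℕ) := MvPolynomial (Finset (Fin n) ⊕ Finset (Fin n) ⊕ Unit) R

/-- The universal element. -/
noncomputable def genX : CliffordAlgebra (QuadGrp.baseChangeForm (PinPoly R n) Q) :=
  ∑ i, (MvPolynomial.X (Sum.inl i) : PinPoly R n) • bcBasis Q (PinPoly R n) i

/-- Its inverse. -/
noncomputable def genY : CliffordAlgebra (QuadGrp.baseChangeForm (PinPoly R n) Q) :=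
  ∑ i, (MvPolynomial.X (Sum.inr (Sum.inl i)) : PinPoly R n) • bcBasis Q (PinPoly R n) i

/-- The equations. -/
noncomputable def pinRels (s : Bool) (p : EqIdx n × Finset (Fin n)) : PinPoly R n :=
  (bcBasis Q (PinPoly R n)).repr
    (eqn Q (PinPoly R n) s (genX Q) (genY Q) (MvPolynomial.X (Sum.inr (Sum.inr ()))) p.1) p.2

/-- The coordinate ring. -/
abbrev PinCoord (s : Bool) := PinPoly R n ⧸ Ideal.span (Set.range (pinRels Q s))

variable {Q} {s : Bool} {A B : Type u} [CommRing A] [Algebra R A] [CommRing B] [Algebra R B]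

/-- The map on variables of a point. -/
noncomputable abbrev pol (φ : PinCoord Q s →ₐ[R] A) : PinPoly R n →ₐ[R] A :=
  φ.comp (Ideal.Quotient.mkₐ R _)

theorem cliffMap_gen (ψ : PinPoly R n →ₐ[R] A) (c : Finset (Fin n) → Finset (Fin n) ⊕ Finset (Fin n) ⊕ Unit)
    (i : Finset (Fin n)) :
    (bcBasis Q A).repr (cliffMap Q ψ (∑ j, (MvPolynomial.X (c j) : PinPoly R n) • bcBasis Q (PinPoly R n) j)) i =
      ψ (MvPolynomial.X (c i)) := by
  rw [repr_cliffMap, map_sum, Finsupp.coe_finsetSum, Finset.sum_apply]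
  simp [Finsupp.single_apply]

theorem eqn_pol (φ : PinCoord Q s →ₐ[R] A) (k : EqIdx n) :
    eqn Q A s (cliffMap Q (pol φ) (genX Q)) (cliffMap Q (pol φ) (genY Q))
      (pol φ (MvPolynomial.X (Sum.inr (Sum.inr ())))) k = 0 := by
  rw [← cliffMap_eqn, cliffMap_eq_zero_iff]
  intro i
  change φ (Ideal.Quotient.mk _ _) = 0
  rw [show (bcBasis Q (PinPoly R n)).repr (eqn Q _ s (genX Q) (genY Q)
      (MvPolynomial.X (Sum.inr (Sum.inr ()))) k) i = pinRels Q s (k, i) from rfl,
    Ideal.Quotient.eq_zero_iff_mem.2 (Ideal.subset_span (Set.mem_range_self _)), map_zero]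

/-- The element of a point. -/
noncomputable def pinOf (φ : PinCoord Q s →ₐ[R] A) : (CliffordAlgebra (QuadGrp.baseChangeForm A Q))ˣ where
  val := cliffMap Q (pol φ) (genX Q)
  inv := cliffMap Q (pol φ) (genY Q)
  val_inv := sub_eq_zero.mp (eqn_pol φ .invL)
  inv_val := sub_eq_zero.mp (eqn_pol φ .invR)

theorem pinOf_isPt (φ : PinCoord Q s →ₐ[R] A) :
    IsPinPt Q s (pinOf φ) (pol φ (MvPolynomial.X (Sum.inr (Sum.inr ())))) := eqn_pol φ

theorem cliffMap_comp {C : Type u} [CommRing C] [Algebra R C] (φ : A →ₐ[R] B) (ψ : B →ₐ[R] C)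
    (x : CliffordAlgebra (QuadGrp.baseChangeForm A Q)) :
    cliffMap Q (ψ.comp φ) x = cliffMap Q ψ (cliffMap Q φ x) :=
  (bcBasis Q C).ext_elem fun i => by simp [repr_cliffMap]

theorem pinOf_comp (φ : PinCoord Q s →ₐ[R] A) (f : A →ₐ[R] B) :
    (pinOf (f.comp φ) : CliffordAlgebra (QuadGrp.baseChangeForm B Q)) = cliffMap Q f (pinOf φ) :=
  cliffMap_comp (pol φ) f _

theorem pinOf_injective : Function.Injective (pinOf : (PinCoord Q s →ₐ[R] A) → _) := fun φ ψ h => by
  refine Ideal.Quotient.algHom_ext _ (MvPolynomial.algHom_ext fun v => ?_)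
  rcases v with i | i | ⟨⟩
  · have := congrArg (fun z => (bcBasis Q A).repr (Units.val z) i) h
    simp only [pinOf, genX, cliffMap_gen] at this
    exact this
  · have := congrArg (fun z => (bcBasis Q A).repr (Units.val z⁻¹) i) h
    simp only [pinOf, Units.inv_mk, genY, cliffMap_gen] at this
    exact this
  · exact isPinPt_unique Q (h ▸ pinOf_isPt φ) (pinOf_isPt ψ)

theorem exists_pinOf {u : (CliffordAlgebra (QuadGrp.baseChangeForm A Q))ˣ} {e : A}
    (h : IsPinPt Q s u e) : ∃ φ : PinCoord Q s →ₐ[R] A, pinOf φ = u := by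
  let ev : PinPoly R n →ₐ[R] A := MvPolynomial.aeval
    (Sum.elim (fun i => (bcBasis Q A).repr (u : CliffordAlgebra _) i)
      (Sum.elim (fun i => (bcBasis Q A).repr (↑u⁻¹ : CliffordAlgebra _) i) fun _ => e))
  have hX : cliffMap Q ev (genX Q) = u := (bcBasis Q A).ext_elem fun i => by
    rw [genX, cliffMap_gen]; exact MvPolynomial.aeval_X _ _
  have hY : cliffMap Q ev (genY Q) = (↑u⁻¹ : CliffordAlgebra _) := (bcBasis Q A).ext_elem fun i => by
    rw [genY, cliffMap_gen]; exact MvPolynomial.aeval_X _ _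
  have hker : ∀ x ∈ Ideal.span (Set.range (pinRels Q s)), ev x = 0 := by
    intro x hx
    refine (RingHom.mem_ker (f := ev.toRingHom)).1 (Ideal.span_le.2 ?_ hx)
    rintro _ ⟨⟨k, i⟩, rfl⟩
    refine RingHom.mem_ker.mpr ?_
    change ev ((bcBasis Q (PinPoly R n)).repr _ i) = 0
    rw [← repr_cliffMap, cliffMap_eqn, hX, hY, show ev (MvPolynomial.X (Sum.inr (Sum.inr ()))) = e from
      MvPolynomial.aeval_X _ _, h k, map_zero, Finsupp.zero_apply]
  exact ⟨Ideal.Quotient.liftₐ _ ev hker, Units.ext hX⟩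

theorem pinCoord_finitePresentation : Algebra.FinitePresentation R (PinCoord Q s) :=
  Algebra.FinitePresentation.quotient (Submodule.fg_span (Set.finite_range _))

end Coord

section Scheme

open CategoryTheory AlgebraicGeometry MonObj

/-- A group scheme pinned by the pin equations is affine, and smooth if its points lift. -/
theorem smooth_isAffineHom_of_lift (s : Bool)
    (T : ∀ (A : Type u) [CommRing A] [Algebra R A], Subgroup (CliffordAlgebra (QuadGrp.baseChangeForm A Q))ˣ)
    (hT : ∀ (A : Type u) [CommRing A] [Algebra R A] (u : (CliffordAlgebra (QuadGrp.baseChangeForm A Q))ˣ),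
      u ∈ T A ↔ ∃ e, IsPinPt Q s u e)
    (hlift : ∀ (B : Type u) [CommRing B] [Algebra R B] (I : Ideal B), I ^ 2 = ⊥ →
      ∀ u₀ ∈ T (B ⧸ I), ∃ u ∈ T B,
        cliffMap Q (Ideal.Quotient.mkₐ R I) (u : CliffordAlgebra (QuadGrp.baseChangeForm B Q)) =
          (u₀ : CliffordAlgebra (QuadGrp.baseChangeForm (B ⧸ I) Q)))
    (G : Over (Spec (CommRingCat.of R))) [GrpObj G] (D : QuadGrp.CliffRep Q T G) :
    AlgebraicGeometry.Smooth G.hom ∧ IsAffineHom G.hom := by
  let el : ∀ (A : Type u) [CommRing A] [Algebra R A], (QuadGrp.specOver R A ⟶ G) →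
      (CliffordAlgebra (QuadGrp.baseChangeForm A Q))ˣ := fun A _ _ y => (D.pts A y).1
  obtain ⟨e₀, he₀⟩ : ∃ e, IsPinPt Q s (pinOf (AlgHom.id R (PinCoord Q s))) e := ⟨_, pinOf_isPt _⟩
  let u : QuadGrp.specOver R (PinCoord Q s) ⟶ G :=
    (D.pts _).symm ⟨pinOf (AlgHom.id R _), (hT _ _).2 ⟨e₀, he₀⟩⟩
  have hu : el _ u = pinOf (AlgHom.id R _) := by simp [el, u]
  have hbij : ∀ (A : Type u) [CommRing A] [Algebra R A],
      Function.Bijective fun φ : PinCoord Q s →ₐ[R] A => QuadGrp.specOverMap R φ ≫ u := by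
    intro A _ _
    have key : ∀ φ : PinCoord Q s →ₐ[R] A, el A (QuadGrp.specOverMap R φ ≫ u) = pinOf φ := fun φ => by
      refine Units.ext ((D.natural _ A φ (cliffMap Q φ) (cliffMap_ι Q φ) (cliffMap_algebraMap Q φ) u).trans ?_)
      change cliffMap Q φ (el _ u : CliffordAlgebra _) = _
      rw [hu, ← pinOf_comp, AlgHom.comp_id]
    refine ⟨fun φ ψ h => pinOf_injective (by rw [← key, ← key]; exact congrArg _ h), fun y => ?_⟩
    obtain ⟨e, he⟩ := (hT A _).1 (D.pts A y).2
    obtain ⟨φ, hφ⟩ := exists_pinOf he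
    exact ⟨φ, (D.pts A).injective (Subtype.ext ((key φ).trans hφ))⟩
  haveI := RepIso.isIso_left u hbij
  have hw : u.left ≫ G.hom = Spec.map (CommRingCat.ofHom (algebraMap R (PinCoord Q s))) := Over.w u
  constructor
  · haveI : Algebra.FormallySmooth R (PinCoord Q s) :=
      Algebra.FormallySmooth.of_comp_surjective fun B _ _ I hI φ => by
        obtain ⟨v, hv, hvu⟩ := hlift B I hI (pinOf φ) ((hT _ _).2 ⟨_, pinOf_isPt φ⟩)
        obtain ⟨e, he⟩ := (hT B v).1 hv
        obtain ⟨ψ, hψ⟩ := exists_pinOf he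
        refine ⟨ψ, pinOf_injective (Units.ext ?_)⟩
        rw [pinOf_comp, hψ]
        exact hvu
    haveI : Algebra.Smooth R (PinCoord Q s) := ⟨inferInstance, pinCoord_finitePresentation⟩
    have : MorphismProperty.RespectsIso (@AlgebraicGeometry.Smooth.{u}) :=
      HasRingHomProperty.instIsZariskiLocalAtSource.toRespects
    rw [← MorphismProperty.cancel_left_of_respectsIso (P := @AlgebraicGeometry.Smooth.{u}) u.left G.hom]
    change AlgebraicGeometry.Smooth (u.left ≫ G.hom)
    rw [hw]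
    refine (HasRingHomProperty.Spec_iff (P := @AlgebraicGeometry.Smooth.{u})).mpr ?_
    rw [CommRingCat.hom_ofHom, RingHom.smooth_algebraMap]
    infer_instance
  · haveI : IsAffine (QuadGrp.specOver R (PinCoord Q s)).left :=
      inferInstanceAs (IsAffine (Spec (CommRingCat.of (PinCoord Q s))))
    haveI : IsAffine G.left := IsAffine.of_isIso (inv u.left)
    haveI : IsAffine ((Functor.fromPUnit (Spec (CommRingCat.of R))).obj G.right) :=
      inferInstanceAs (IsAffine (Spec (CommRingCat.of R)))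
    infer_instance

end Scheme

end GrothLib.Cliff28
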