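import Groth.Agent.Lib.Cliff28.Fppf
import Groth.Agent.Lib.Cliff28.Odd
import Mathlib.RingTheory.Flat.FaithfullyFlat.Basic

/-!
# The global structure of Clifford algebras of non-degenerate forms
-/

set_option autoImplicit false
set_option linter.unusedSectionVars false

open CliffordAlgebra QuadraticMap TensorProduct

namespace GrothLib.Cliff28

universe u v

variable {R : Type u} [CommRing R] {M : Type u} [AddCommGroup M] [Module R M] [Module.Free R M]
  [Module.Finite R M] {m : ℕ}

theorem exists_ι_compl (Q : QuadraticForm R M) :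
    ∃ W : Submodule R (CliffordAlgebra Q), IsCompl (LinearMap.range (ι Q)) W := by
  obtain ⟨B, hB⟩ := exists_changeForm Q
  let p : CliffordAlgebra Q →ₗ[R] M := (ExteriorAlgebra.ιInv (R := R) (M := M)).comp (changeForm hB)
  have hp : ∀ v, p (ι Q v) = v := fun v => by
    change ExteriorAlgebra.ιInv (changeForm hB (ι Q v)) = v
    rw [changeForm_ι]
    exact ExteriorAlgebra.ι_leftInverse v
  refine ⟨LinearMap.ker p, ?_, ?_⟩
  · rw [Submodule.disjoint_def]
    rintro x ⟨v, rfl⟩ hx
    rw [LinearMap.mem_ker, hp] at hx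
    rw [hx, map_zero]
  · rw [codisjoint_iff, eq_top_iff]
    intro x _
    refine Submodule.mem_sup.mpr ⟨ι Q (p x), LinearMap.mem_range_self _ _, x - ι Q (p x), ?_, add_sub_cancel _ _⟩
    rw [LinearMap.mem_ker, map_sub, hp, sub_self]

section Even

variable {Q : QuadraticForm R M}

theorem exists_fppf_matrix_even (b : Module.Basis (Fin (2 * m)) R M) (hm : 1 ≤ m)
    (hQ : QuadGrp.IsRegular Q) :
    ∃ (A : Type u) (_ : CommRing A) (_ : Algebra R A), Module.FaithfullyFlat R A ∧
      Algebra.FinitePresentation R A ∧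
      Nonempty ((A ⊗[R] CliffordAlgebra Q) ≃ₐ[A] Matrix (Fin (2 ^ m)) (Fin (2 ^ m)) A) ∧
      Nonempty ((A ⊗[R] ↥(CliffordAlgebra.even Q)) ≃ₐ[A]
        (Matrix (Fin (2 ^ (m - 1))) (Fin (2 ^ (m - 1))) A × Matrix (Fin (2 ^ (m - 1))) (Fin (2 ^ (m - 1))) A)) := by
  obtain ⟨A, _, _, hff, hfp, ⟨e⟩⟩ := exists_fppf_hyp_even b Q hQ
  exact ⟨A, inferInstance, inferInstance, hff, hfp,
    ⟨((bcEquiv A Q).trans (equivOfIsometry e)).trans (spinMatrixEquiv A m)⟩,
    ⟨((AlgEquiv.ofBijective (bcEvenHom A Q) (bcEvenHom_bijective A Q)).trans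
      (evenEquivOfIsometry e)).trans (halfSpinMatrixEquiv A m hm)⟩⟩

theorem center_eq_bot (hQ : QuadGrp.IsRegular Q) (hM : Module.finrank R M = 2 * m) :
    Subalgebra.center R (CliffordAlgebra Q) = ⊥ := by
  refine eq_bot_iff.mpr fun x hx => ?_
  obtain ⟨r, hr⟩ := centre_scalar hQ hM fun v => Subalgebra.mem_center_iff.mp hx (ι Q v)
  rw [hr]
  exact Subalgebra.algebraMap_mem _ r

theorem centralizer_center_even (hQ : QuadGrp.IsRegular Q) (hM : Module.finrank R M = 2 * m) :
    Subalgebra.centralizer R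
        ((CliffordAlgebra.even Q).val '' (Subalgebra.center R ↥(CliffordAlgebra.even Q) : Set ↥(CliffordAlgebra.even Q))) =
      CliffordAlgebra.even Q := by
  refine le_antisymm (fun x hx => ?_) fun x hx => ?_
  swap
  · rw [Subalgebra.mem_centralizer_iff]
    rintro _ ⟨z, hz, rfl⟩
    exact congrArg Subtype.val (Subalgebra.mem_center_iff.mp hz ⟨x, hx⟩).symm
  rw [Subalgebra.mem_centralizer_iff] at hx
  obtain ⟨x0, h0, x1, h1, rfl⟩ := exists_even_add_odd Q x
  suffices x1 = 0 by rw [this, add_zero]; exact h0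
  refine eq_zero_of_localizations Q fun P _ => ?_
  obtain ⟨S, δ, y, ζ, Z, hyζ, hS, -, hy0, hy, -⟩ := exists_twist_lift hQ hM P
  have hc : Commute y (x0 + x1) := by
    refine hx y ⟨⟨y, hy0⟩, ?_, rfl⟩
    rw [SetLike.mem_coe, mem_center_even_iff]
    exact fun w hw => commute_even_of_twist hy hw
  have hc1 : Commute y x1 := by
    have := hc.sub_right (commute_even_of_twist hy h0)
    rwa [add_sub_cancel_left] at this
  set A := Localization.AtPrime P
  obtain ⟨σ, hσ⟩ := (IsLocalization.map_units A (⟨S, hS⟩ : P.primeCompl)).exists_left_inv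
  set X := bcA A Q x1 with hX
  have hζX : ζ * X = X * ζ := by
    have e := congrArg (bcA A Q) hc1.eq
    rw [map_mul, map_mul, hyζ, ← hX, smul_mul_assoc, mul_smul_comm] at e
    have := congrArg (σ • ·) e
    change σ * algebraMap R A S = 1 at hσ
    simp only [smul_smul] at this
    erw [hσ, one_smul, one_smul] at this
    exact this
  have hodd := Z.odd_twist (y := X) (bc_mem_evenOdd _ _ _ _ 1 h1)
  have h : (2 * ζ - 1) * X = 0 := by
    rw [sub_mul, one_mul, mul_assoc, two_mul, ← add_sub_assoc']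
    nth_rw 2 [hζX]
    rw [hodd, sub_mul, one_mul, sub_sub_cancel_left, add_neg_cancel]
  exact Z.isUnit_z.mul_right_eq_zero.mp h

end Even

section Odd

variable {Q : QuadraticForm R M} (b : Module.Basis (Fin (2 * m + 1)) R M)

include b

theorem exists_fppf_matrix_odd (hQ : QuadGrp.IsSemiregular b (LinearEquiv.refl R R) Q) :
    ∃ (A : Type u) (_ : CommRing A) (_ : Algebra R A), Module.FaithfullyFlat R A ∧
      Algebra.FinitePresentation R A ∧
      Nonempty ((A ⊗[R] ↥(CliffordAlgebra.even Q)) ≃ₐ[A] Matrix (Fin (2 ^ m)) (Fin (2 ^ m)) A) := by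
  obtain ⟨A, _, _, hff, hfp, ⟨e⟩⟩ := exists_fppf_hyp_odd b Q hQ
  exact ⟨A, inferInstance, inferInstance, hff, hfp,
    ⟨((((AlgEquiv.ofBijective (bcEvenHom A Q) (bcEvenHom_bijective A Q)).trans
      (evenEquivOfIsometry e)).trans (evenEquivEvenNeg (EquivEven.Q' (hyp A m))).symm).trans
      (equivEven (hyp A m)).symm).trans (spinMatrixEquiv A m)⟩⟩

theorem exists_oddCentre_localization (hQ : QuadGrp.IsSemiregular b (LinearEquiv.refl R R) Q)
    (P : Ideal R) [P.IsPrime] :
    ∃ z : CliffordAlgebra (QuadGrp.baseChangeForm (Localization.AtPrime P) Q), IsOddCentre m _ z := by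
  refine exists_oddCentre (b.baseChange (Localization.AtPrime P)) ?_
  change IsUnit (QuadHalfDisc.hd _)
  rw [coeffs_baseChange, ← QuadHalfDisc.map_hd]
  exact hQ.map _

theorem even_central_scalar (hQ : QuadGrp.IsSemiregular b (LinearEquiv.refl R R) Q)
    {x : CliffordAlgebra Q} (hx : x ∈ evenOdd Q 0) (hc : ∀ v, ι Q v * x = x * ι Q v) :
    ∃ r, x = algebraMap R _ r := by
  refine scalar_of_forall_contract b Q fun i => eq_zero_of_localizations Q fun P _ => ?_
  obtain ⟨z, Z⟩ := exists_oddCentre_localization b hQ P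
  obtain ⟨r, hr⟩ := Z.even_scalar (bcA _ Q x) (bc_mem_evenOdd _ _ _ _ 0 hx) fun w => by
    rw [commute_ι_of_unitσ (Localization.AtPrime P) Q 1 (fun v => ?_) w, one_smul]
    have e : bcA (Localization.AtPrime P) Q (ι Q v) = _ := bc_ι Q _ _ _ v
    rw [one_smul, ← e, ← map_mul, ← map_mul, hc v]
  rw [bcA_contractLeft_coord, hr, contractLeft_algebraMap]

theorem exists_odd_central_sq (hQ : QuadGrp.IsSemiregular b (LinearEquiv.refl R R) Q)
    (P : Ideal R) [P.IsPrime] :
    ∃ l ∈ evenOdd Q 1, (∀ v, ι Q v * l = l * ι Q v) ∧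
      ∃ r ∉ P, l * l = algebraMap R _ r := by
  classical
  set A := Localization.AtPrime P
  obtain ⟨z, Z⟩ := exists_oddCentre_localization b hQ P
  obtain ⟨s, hs, y', hy'⟩ := exists_bcA_eq Q P z
  obtain ⟨y0, h0, y, hy, rfl⟩ := exists_even_add_odd Q y'
  have hyz : bcA A Q y = algebraMap R A s • z := by
    rw [map_add] at hy'
    exact (even_odd_unique _ (zero_mem _) (Submodule.smul_mem _ _ Z.odd) (bc_mem_evenOdd _ _ _ _ 0 h0)
      (bc_mem_evenOdd _ _ _ _ 1 hy) (by rw [zero_add]; exact hy')).2.symm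
  have hlin : ∀ i, ∃ t ∉ P, t • (ι Q (b i) * y - y * ι Q (b i)) = 0 := fun i => by
    refine exists_smul_eq_zero Q P ?_
    rw [map_sub, map_mul, map_mul, bc_ι, hyz, mul_smul_comm, smul_mul_assoc, Z.central, sub_self]
  choose t ht htz using hlin
  set T := ∏ i, t i with hT
  have hTP : T ∉ P := fun h => by
    obtain ⟨i, -, hi⟩ := Ideal.IsPrime.prod_mem_iff.mp h
    exact ht i hi
  have hcen : ∀ v, ι Q v * (T • y) = (T • y) * ι Q v := by
    intro v
    have h : (LinearMap.mulRight R (T • y)).comp (ι Q) = (LinearMap.mulLeft R (T • y)).comp (ι Q) :=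
      b.ext fun i => by
        simp only [LinearMap.comp_apply, LinearMap.mulRight_apply, LinearMap.mulLeft_apply,
          mul_smul_comm, smul_mul_assoc]
        rw [← sub_eq_zero, ← smul_sub, hT, ← Finset.mul_prod_erase Finset.univ t (Finset.mem_univ i),
          mul_comm, mul_smul, htz, smul_zero]
    exact LinearMap.congr_fun h v
  have hl : T • y ∈ evenOdd Q 1 := Submodule.smul_mem _ _ hy
  obtain ⟨r, hr⟩ := even_central_scalar b hQ
    ((show (1 : ZMod 2) + 1 = 0 from rfl) ▸ SetLike.mul_mem_graded hl hl) fun v => by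
      rw [← mul_assoc, hcen, mul_assoc, hcen, mul_assoc]
  refine ⟨T • y, hl, hcen, r, fun hrP => ?_, hr⟩
  obtain ⟨d, hdu, hd⟩ := Z.sq
  have e := congrArg (bcA A Q) hr
  rw [map_mul, bc_smul, hyz, smul_smul, smul_mul_smul_comm, hd, bc_algebraMap, Algebra.smul_def,
    ← map_mul] at e
  have e' := algebraMap_injective _ e
  have hu : IsUnit (algebraMap R A r) := by
    rw [← e', ← map_mul]
    refine ((?_ : IsUnit _).mul (?_ : IsUnit _)).mul hdu <;>
      exact IsLocalization.map_units A (⟨T * s, fun h => (‹P.IsPrime›.mem_or_mem h).elim hTP hs⟩ : P.primeCompl)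
  exact (IsLocalization.AtPrime.isUnit_to_map_iff A P r).mp hu hrP

theorem center_mul_even_bijective (hQ : QuadGrp.IsSemiregular b (LinearEquiv.refl R R) Q) :
    Function.Bijective (TensorProduct.lift
        (((LinearMap.mul R (CliffordAlgebra Q)).comp (Subalgebra.center R (CliffordAlgebra Q)).val.toLinearMap).compl₂
          (CliffordAlgebra.even Q).val.toLinearMap)) := by
  classical
  let J : Set R := {r | ∃ l ∈ evenOdd Q 1, (∀ v, ι Q v * l = l * ι Q v) ∧ l * l = algebraMap R _ r}
  have h1 : (1 : R) ∈ Ideal.span J := by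
    by_contra h
    obtain ⟨P, hP, hle⟩ := Ideal.exists_le_maximal (Ideal.span J) fun e => h (by rw [e]; exact Submodule.mem_top)
    obtain ⟨l, hl, hc, r, hr, hlr⟩ := exists_odd_central_sq b hQ P
    exact hr (hle (Ideal.subset_span ⟨l, hl, hc, hlr⟩))
  obtain ⟨k, c, g, hsum⟩ := Submodule.mem_span_set'.mp h1
  choose l hlo hlc hlsq using fun j => (g j).2
  have hlC : ∀ j, l j ∈ Subalgebra.center R (CliffordAlgebra Q) := fun j =>
    Subalgebra.mem_center_iff.mpr fun x => (commute_of_commute_ι (fun v => ((hlc j v).symm : Commute _ _)) x).eq.symm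
  have hpart : ∀ x : CliffordAlgebra Q, ∀ j, l j * part Q 1 x ∈ evenOdd Q 0 := fun x j =>
    (show (1 : ZMod 2) + 1 = 0 from rfl) ▸ SetLike.mul_mem_graded (hlo j) (part Q 1 x).2
  let C0 := CliffordAlgebra.even Q
  let Zc := Subalgebra.center R (CliffordAlgebra Q)
  let o : Fin k → (CliffordAlgebra Q →ₗ[R] C0) := fun j =>
    LinearMap.codRestrict (Subalgebra.toSubmodule C0)
      ((LinearMap.mulLeft R (l j)).comp ((evenOdd Q 1).subtype.comp (part Q 1))) fun x => hpart x j
  let o0 : CliffordAlgebra Q →ₗ[R] C0 :=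
    LinearMap.codRestrict (Subalgebra.toSubmodule C0)
      ((evenOdd Q 0).subtype.comp (part Q 0)) fun x => (part Q 0 x).2
  let ψ : CliffordAlgebra Q →ₗ[R] Zc ⊗[R] C0 :=
    (TensorProduct.mk R Zc C0 1).comp o0 +
      ∑ j, c j • (TensorProduct.mk R Zc C0 ⟨l j, hlC j⟩).comp (o j)
  have hone : ∀ x : CliffordAlgebra Q, ∑ j, c j • (l j * (l j * x)) = x := fun x => by
    simp only [← mul_assoc, hlsq, ← Algebra.smul_def, smul_smul, ← Finset.sum_smul]
    simp only [smul_eq_mul] at hsum
    rw [hsum, one_smul]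
  refine Function.bijective_iff_has_inverse.mpr ⟨ψ, fun t => ?_, fun x => ?_⟩
  · induction t using TensorProduct.induction_on with
    | zero => rw [map_zero, map_zero]
    | add t t' ht ht' => rw [map_add, map_add, ht, ht']
    | tmul z y =>
      rw [TensorProduct.lift.tmul]
      change ψ ((z : CliffordAlgebra Q) * (y : CliffordAlgebra Q)) = z ⊗ₜ[R] y
      obtain ⟨⟨zv, hz⟩, rfl⟩ : ∃ w, w = z := ⟨z, rfl⟩
      obtain ⟨z0, hz0, z1, hz1, hzsum⟩ := exists_even_add_odd Q zv
      have hzc := fun v => parity_commute hz0 hz1 (v := v) (hzsum ▸ Subalgebra.mem_center_iff.mp hz (ι Q v))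
      obtain ⟨r, hr⟩ := even_central_scalar b hQ hz0 fun v => (hzc v).1
      have hs : ∀ j, ∃ s, l j * z1 = algebraMap R _ s := fun j => by
        refine even_central_scalar b hQ ((show (1 : ZMod 2) + 1 = 0 from rfl) ▸
          SetLike.mul_mem_graded (hlo j) hz1) fun v => ?_
        rw [← mul_assoc, hlc, mul_assoc, (hzc v).2, mul_assoc]
      choose s hs using hs
      have hmem0 : z0 * (y : CliffordAlgebra Q) ∈ evenOdd Q 0 := zero_add (0 : ZMod 2) ▸ SetLike.mul_mem_graded hz0 y.2
      have hmem1 : z1 * (y : CliffordAlgebra Q) ∈ evenOdd Q 1 := add_zero (1 : ZMod 2) ▸ SetLike.mul_mem_graded hz1 y.2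
      have p0 : o0 (zv * (y : CliffordAlgebra Q)) = r • y := Subtype.ext (by
        change (part Q 0 _ : CliffordAlgebra Q) = r • (y : CliffordAlgebra Q)
        rw [hzsum, add_mul, map_add, Submodule.coe_add, part_of_mem Q hmem0, part_of_mem_ne Q hmem1 (by decide),
          Submodule.coe_zero, add_zero, hr, Algebra.smul_def])
      have p1 : ∀ j, o j (zv * (y : CliffordAlgebra Q)) = s j • y := fun j => Subtype.ext (by
        change l j * (part Q 1 _ : CliffordAlgebra Q) = s j • (y : CliffordAlgebra Q)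
        rw [hzsum, add_mul, map_add, Submodule.coe_add, part_of_mem Q hmem1, part_of_mem_ne Q hmem0 (by decide),
          Submodule.coe_zero, zero_add, ← mul_assoc, hs, Algebra.smul_def])
      simp only [ψ, LinearMap.add_apply, LinearMap.sum_apply, LinearMap.smul_apply, LinearMap.comp_apply,
        TensorProduct.mk_apply]
      rw [p0]
      simp only [p1, ← TensorProduct.smul_tmul, TensorProduct.smul_tmul', ← TensorProduct.sum_tmul, ← TensorProduct.add_tmul, smul_smul]
      congr 1
      refine Subtype.ext ?_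
      simp only [Subalgebra.coe_add, SetLike.val_smul, OneMemClass.coe_one, AddSubmonoidClass.coe_finsetSum]
      rw [hzsum, hr, ← Algebra.algebraMap_eq_smul_one]
      congr 1
      calc ∑ j, (c j * s j) • l j = ∑ j, c j • (l j * (l j * z1)) :=
            Finset.sum_congr rfl fun j _ => by rw [hs, ← Algebra.commutes, ← Algebra.smul_def, smul_smul]
        _ = z1 := hone z1
  · simp only [ψ, LinearMap.add_apply, LinearMap.sum_apply, LinearMap.smul_apply, LinearMap.comp_apply,
      TensorProduct.mk_apply, map_add, map_sum, map_smul, TensorProduct.lift.tmul]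
    change (1 : CliffordAlgebra Q) * (part Q 0 x : CliffordAlgebra Q) +
      ∑ j, c j • (l j * (l j * (part Q 1 x : CliffordAlgebra Q))) = x
    rw [one_mul, hone, part_add_part]

end Odd

end GrothLib.Cliff28
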