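import Groth.Agent.Lib.Cliff28.PinCoord
import Groth.Agent.Lib.Cliff28.Structure
import Groth.Agent.Lib.Cliff28.OddLift
import Groth.Agent.Lib.QuadGrp.Coord
import Mathlib.RingTheory.Idempotents

/-!
# Points of Clifford and pin groups lift along square zero extensions
-/

set_option autoImplicit false
set_option linter.unusedSectionVars false

open CliffordAlgebra TensorProduct GrothLib.QuadHalfDisc
open scoped Pointwise

namespace GrothLib.Cliff28

universe u

variable {R : Type u} [CommRing R] {n : ℕ} {Q : QuadraticForm R (Fin n → R)}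
  {B : Type u} [CommRing B] [Algebra R B] {I : Ideal B}

local notation "QB" => QuadGrp.baseChangeForm B Q

/-- Reduction of vectors. -/
noncomputable abbrev vRed (I : Ideal B) : B ⊗[R] (Fin n → R) →ₛₗ[(Ideal.Quotient.mkₐ R I).toRingHom]
    (B ⧸ I) ⊗[R] (Fin n → R) :=
  vecMap (Ideal.Quotient.mkₐ R I)

variable (Q) in
/-- Reduction of Clifford algebras. -/
noncomputable abbrev cRed (I : Ideal B) :
    CliffordAlgebra (QuadGrp.baseChangeForm B Q) →+* CliffordAlgebra (QuadGrp.baseChangeForm (B ⧸ I) Q) :=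
  cliffMap Q (Ideal.Quotient.mkₐ R I)

theorem mk_eq_mkₐ (b : B) : Ideal.Quotient.mkₐ R I b = Ideal.Quotient.mk I b := rfl

theorem cRed_surjective : Function.Surjective (cRed Q I) := fun z => by
  choose c hc using fun i => Ideal.Quotient.mk_surjective ((bcBasis Q (B ⧸ I)).repr z i)
  refine ⟨∑ i, c i • bcBasis Q B i, (bcBasis Q (B ⧸ I)).ext_elem fun i => ?_⟩
  rw [repr_cliffMap, map_sum, Finsupp.coe_finsetSum, Finset.sum_apply, ← hc i]
  simp [Finsupp.single_apply]

theorem repr_mem {x : CliffordAlgebra QB} (h : cRed Q I x = 0) (i : Finset (Fin n)) :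
    (bcBasis Q B).repr x i ∈ I :=
  Ideal.Quotient.eq_zero_iff_mem.mp ((cliffMap_eq_zero_iff Q _ x).mp h i)

theorem red_mul_eq_zero (hI : I ^ 2 = ⊥) {x y : CliffordAlgebra QB} (hx : cRed Q I x = 0)
    (hy : cRed Q I y = 0) : x * y = 0 := by
  rw [← (bcBasis Q B).sum_repr x, ← (bcBasis Q B).sum_repr y, Finset.sum_mul_sum]
  refine Finset.sum_eq_zero fun i _ => Finset.sum_eq_zero fun j _ => ?_
  have h : (bcBasis Q B).repr x i * (bcBasis Q B).repr y j ∈ (⊥ : Ideal B) := by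
    rw [← hI, pow_two]
    exact Ideal.mul_mem_mul (repr_mem hx i) (repr_mem hy j)
  rw [smul_mul_smul_comm, (Ideal.mem_bot).mp h, zero_smul]

theorem isUnit_of_red (hI : I ^ 2 = ⊥) {x : CliffordAlgebra QB} (h : IsUnit (cRed Q I x)) :
    IsUnit x := by
  obtain ⟨v, hv⟩ := h
  obtain ⟨z, hz⟩ := cRed_surjective (↑v⁻¹ : CliffordAlgebra (QuadGrp.baseChangeForm (B ⧸ I) Q))
  have h1 : cRed Q I (x * z - 1) = 0 := by rw [map_sub, map_mul, hz, ← hv, Units.mul_inv, map_one, sub_self]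
  have h2 : cRed Q I (z * x - 1) = 0 := by rw [map_sub, map_mul, hz, ← hv, Units.inv_mul, map_one, sub_self]
  refine isUnit_iff_exists_and_exists.mpr ⟨⟨z * (1 - (x * z - 1)), ?_⟩, ⟨(1 - (z * x - 1)) * z, ?_⟩⟩
  · have := red_mul_eq_zero hI h1 h1
    rw [← mul_assoc]
    calc x * z * (1 - (x * z - 1)) = (1 + (x * z - 1)) * (1 - (x * z - 1)) := by rw [add_sub_cancel]
      _ = 1 - (x * z - 1) * (x * z - 1) := by noncomm_ring
      _ = 1 := by rw [this, sub_zero]
  · have := red_mul_eq_zero hI h2 h2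
    rw [mul_assoc]
    calc (1 - (z * x - 1)) * (z * x) = (1 - (z * x - 1)) * (1 + (z * x - 1)) := by rw [add_sub_cancel]
      _ = 1 - (z * x - 1) * (z * x - 1) := by noncomm_ring
      _ = 1 := by rw [this, sub_zero]

/-- A unit lift. -/
theorem exists_unit_lift (hI : I ^ 2 = ⊥)
    (u₀ : (CliffordAlgebra (QuadGrp.baseChangeForm (B ⧸ I) Q))ˣ) {x : CliffordAlgebra QB}
    (hx : cRed Q I x = u₀) : ∃ v : (CliffordAlgebra QB)ˣ, (v : CliffordAlgebra QB) = x ∧
      cRed Q I (↑v⁻¹ : CliffordAlgebra QB) = (↑u₀⁻¹ : CliffordAlgebra _) := by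
  obtain ⟨v, rfl⟩ := isUnit_of_red hI (hx ▸ u₀.isUnit)
  have e : Units.map (cRed Q I).toMonoidHom v = u₀ := Units.ext hx
  exact ⟨v, rfl, by rw [← e]; rfl⟩

/-- Lifts of isometries. -/
theorem exists_isometry_lift (s : Bool) {g₀ : (B ⧸ I) ⊗[R] (Fin n → R) ≃ₗ[B ⧸ I] (B ⧸ I) ⊗[R] (Fin n → R)}
    (hg₀ : g₀ ∈ QuadGrp.O (QuadGrp.baseChangeForm (B ⧸ I) Q))
    (hdet : s = true → LinearMap.det g₀.toLinearMap = 1)
    (hsm : ∀ G : Matrix (Fin n) (Fin n) B,
      QuadCoord.IsPoint (QuadCoord.table Q) s (B ⧸ I) (G.map (Ideal.Quotient.mk I)) →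
        ∃ G', QuadCoord.IsPoint (QuadCoord.table Q) s B G' ∧ ∀ i j, G' i j - G i j ∈ I) :
    ∃ g : B ⊗[R] (Fin n → R) ≃ₗ[B] B ⊗[R] (Fin n → R), g ∈ QuadGrp.O QB ∧
      (s = true → LinearMap.det g.toLinearMap = 1) ∧ ∀ v, vRed I (g v) = g₀ (vRed I v) := by
  let c := QuadCoord.stdBasis (R := R) (n := n) B
  let c₀ := QuadCoord.stdBasis (R := R) (n := n) (B ⧸ I)
  let G₀ := LinearMap.toMatrix c₀ c₀ g₀.toLinearMap
  choose G hG using fun i j => Ideal.Quotient.mk_surjective (G₀ i j)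
  have eG : (Matrix.of G).map (Ideal.Quotient.mk I) = G₀ := Matrix.ext fun i j => hG i j
  have hp₀ : QuadCoord.IsPoint (QuadCoord.table Q) s (B ⧸ I) G₀ :=
    ⟨by rw [LinearMap.det_toMatrix]; exact LinearEquiv.isUnit_det' g₀,
      (QuadCoord.mem_orth_iff Q g₀).1 (QuadInf.baseChange_mem Q _ hg₀),
      fun h => by rw [LinearMap.det_toMatrix]; exact hdet h⟩
  obtain ⟨G', hG', hGI⟩ := hsm (Matrix.of G) (eG ▸ hp₀)
  have eG' : G'.map (Ideal.Quotient.mk I) = G₀ := by
    rw [← eG]; exact Matrix.ext fun i j => Ideal.Quotient.eq.2 (hGI i j)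
  let f := (LinearMap.toMatrix c c).symm G'
  have hf : LinearMap.toMatrix c c f = G' := LinearEquiv.apply_symm_apply _ _
  have hu : IsUnit (LinearMap.toMatrix c c f).det := by rw [hf]; exact hG'.isUnit_det
  let g := LinearEquiv.ofIsUnitDet (f := f) hu
  have hgl : g.toLinearMap = f := LinearEquiv.coe_ofIsUnitDet hu
  have hg : (QB).comp g.toLinearMap = QB := by
    refine QuadCoord.eq_of_coeffs_eq c ?_
    rw [coeffs_comp, hgl, hf, QuadCoord.coeffs_baseChangeForm]
    exact hG'.table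
  refine ⟨g, fun v => QuadraticMap.congr_fun hg v,
    fun h => by rw [hgl, ← LinearMap.det_toMatrix c, hf]; exact hG'.det_one h, fun v => ?_⟩
  have hrepr : ∀ (z : B ⊗[R] (Fin n → R)) i, c₀.repr (vRed I z) i = Ideal.Quotient.mk I (c.repr z i) :=
    fun z i => QuadCoord.repr_rTensor (Ideal.Quotient.mkₐ R I) z i
  refine c₀.ext_elem fun i => ?_
  rw [hrepr, show g v = f v from LinearMap.congr_fun hgl v, ← LinearMap.toMatrix_mulVec_repr c c f v, hf,
    show g₀ (vRed I v) = g₀.toLinearMap (vRed I v) from rfl,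
    ← LinearMap.toMatrix_mulVec_repr c₀ c₀ g₀.toLinearMap]
  change Ideal.Quotient.mk I ((G'.mulVec ⇑(c.repr v)) i) = (G₀.mulVec ⇑(c₀.repr (vRed I v))) i
  simp only [Matrix.mulVec, dotProduct, map_sum, map_mul, hrepr, ← eG', Matrix.map_apply]

theorem conj_map {A : Type u} [CommRing A] {M : Type u} [AddCommGroup M] [Module A M]
    {P : QuadraticForm A M} {u : (CliffordAlgebra P)ˣ} {g : M ≃ₗ[A] M} (hg : g ∈ QuadGrp.O P)
    (h : ∀ v, (u : CliffordAlgebra P) * ι P v * ↑u⁻¹ = ι P (g v)) (z : CliffordAlgebra P) :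
    map (QuadGrp.isometryOfMem P g hg) z = u * z * ↑u⁻¹ := by
  induction z using CliffordAlgebra.induction with
  | algebraMap r => rw [AlgHom.commutes, ← Algebra.commutes, mul_assoc, Units.mul_inv, mul_one]
  | ι v => rw [map_apply_ι, QuadGrp.isometryOfMem_apply, h]
  | mul a b ha hb =>
    rw [map_mul, ha, hb]
    simp only [mul_assoc]
    rw [← mul_assoc (↑u⁻¹ : CliffordAlgebra P) (u : CliffordAlgebra P), Units.inv_mul, one_mul]
  | add a b ha hb => rw [map_add, ha, hb, mul_add, add_mul]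

theorem cRed_map {g : B ⊗[R] (Fin n → R) ≃ₗ[B] B ⊗[R] (Fin n → R)} (hg : g ∈ QuadGrp.O QB)
    {g₀ : (B ⧸ I) ⊗[R] (Fin n → R) ≃ₗ[B ⧸ I] (B ⧸ I) ⊗[R] (Fin n → R)}
    (hg₀ : g₀ ∈ QuadGrp.O (QuadGrp.baseChangeForm (B ⧸ I) Q)) (h : ∀ v, vRed I (g v) = g₀ (vRed I v))
    (z : CliffordAlgebra QB) :
    cRed Q I (map (QuadGrp.isometryOfMem _ g hg) z) = map (QuadGrp.isometryOfMem _ g₀ hg₀) (cRed Q I z) :=
  bc_map _ _ _ _ _ _ (fun v => by
    rw [QuadGrp.isometryOfMem_apply, QuadGrp.isometryOfMem_apply]; exact (h v).symm) z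

/-- An algebra endomorphism congruent to the identity is conjugation by `1 + w`. -/
theorem exists_conj_of_congr {C : Type*} [Ring C] [Algebra B C] {t : C ⊗[B] C} (ht : IsSeparability B C t)
    (K : Submodule B C) (hKr : ∀ k ∈ K, ∀ c, k * c ∈ K) (hKl : ∀ k ∈ K, ∀ c, c * k ∈ K)
    (hK2 : ∀ k ∈ K, ∀ k' ∈ K, k * k' = 0) (γ : C →ₐ[B] C) (hγ : ∀ z, γ z - z ∈ K) :
    ∃ w ∈ K, ∀ z, γ z = (1 + w) * z * (1 - w) := by
  obtain ⟨w, hw, hδ⟩ := exists_inner ht K hKr (γ.toLinearMap - LinearMap.id) hγ fun a b => by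
    simp only [LinearMap.sub_apply, AlgHom.toLinearMap_apply, LinearMap.id_apply, map_mul]
    have h0 := hK2 _ (hγ a) _ (hγ b)
    calc γ a * γ b - a * b = a * (γ b - b) + (γ a - a) * b + (γ a - a) * (γ b - b) := by noncomm_ring
      _ = _ := by rw [h0, add_zero]
  refine ⟨w, hw, fun z => ?_⟩
  have e : γ z - z = w * z - z * w := hδ z
  have h3 : w * z * w = 0 := by rw [mul_assoc]; exact hK2 _ hw _ (hKl _ hw z)
  calc γ z = z + (w * z - z * w) := by rw [← e, add_sub_cancel]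
    _ = z + w * z - z * w - w * z * w := by rw [h3, sub_zero]; abel
    _ = _ := by noncomm_ring

/-- `1 + w` for `w` killed by the reduction. -/
noncomputable def oneAdd (hI : I ^ 2 = ⊥) {w : CliffordAlgebra QB} (hw : cRed Q I w = 0) :
    (CliffordAlgebra QB)ˣ where
  val := 1 + w
  inv := 1 - w
  val_inv := by
    calc (1 + w) * (1 - w) = 1 - w * w := by noncomm_ring
      _ = 1 := by rw [red_mul_eq_zero hI hw hw, sub_zero]
  inv_val := by
    calc (1 - w) * (1 + w) = 1 - w * w := by noncomm_ring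
      _ = 1 := by rw [red_mul_eq_zero hI hw hw, sub_zero]

theorem mem_gpin_iff {A : Type u} [CommRing A] [Algebra R A]
    (u : (CliffordAlgebra (QuadGrp.baseChangeForm A Q))ˣ) :
    u ∈ QuadGrp.gpin Q A ↔ ∃ e, IsPinPt Q false u e := by
  constructor
  · rintro ⟨h, e, he⟩
    exact ⟨e, (isPinPt_iff Q false u e).mpr ⟨h, he, fun h => absurd h Bool.false_ne_true⟩⟩
  · rintro ⟨e, he⟩
    obtain ⟨h, he', -⟩ := (isPinPt_iff Q false u e).mp he
    exact ⟨h, e, he'⟩

theorem mem_pin_iff {A : Type u} [CommRing A] [Algebra R A]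
    (u : (CliffordAlgebra (QuadGrp.baseChangeForm A Q))ˣ) :
    u ∈ QuadGrp.pin Q A ↔ ∃ e, IsPinPt Q true u e := by
  constructor
  · rintro ⟨⟨h, e, he⟩, hn⟩
    exact ⟨e, (isPinPt_iff Q true u e).mpr ⟨h, he, fun _ => hn⟩⟩
  · rintro ⟨e, he⟩
    obtain ⟨h, he', hn⟩ := (isPinPt_iff Q true u e).mp he
    exact ⟨⟨h, e, he'⟩, hn rfl⟩

theorem conj_expand {C : Type*} [Ring C] (W a : C) :
    (1 + W) * a * (1 - W) = a + (W * a - a * W) - W * a * W := by noncomm_ring

theorem conj_expand' {C : Type*} [Ring C] (W a : C) :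
    a - (W * a - a * W) - W * a * W = (1 - W) * a * (1 + W) := by noncomm_ring

theorem mem_GPin'_of_conj_global {A : Type u} [CommRing A] {M : Type u} [AddCommGroup M] [Module A M]
    {P : QuadraticForm A M} {u : (CliffordAlgebra P)ˣ} {g : M ≃ₗ[A] M}
    (h : ∀ v, (u : CliffordAlgebra P) * ι P v * ↑u⁻¹ = ι P (g v)) : u ∈ QuadGrp.GPin' P := by
  rw [QuadGrp.mem_GPin']
  refine le_antisymm ?_ fun z hz => ?_
  · intro z hz
    rw [Submodule.mem_smul_pointwise_iff_exists] at hz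
    obtain ⟨_, ⟨v, rfl⟩, rfl⟩ := hz
    exact ⟨_, (h v).symm.trans (by simp [ConjAct.units_smul_def])⟩
  · obtain ⟨v, rfl⟩ := hz
    rw [Submodule.mem_smul_pointwise_iff_exists]
    exact ⟨_, LinearMap.mem_range_self _ (g.symm v), by simp [ConjAct.units_smul_def, h]⟩

section Even

variable {m : ℕ} {Q : QuadraticForm R (Fin (2 * m) → R)}

theorem exists_gpin_lift_even (hm : 1 ≤ m) (hQ : QuadGrp.IsRegular Q) (hI : I ^ 2 = ⊥)
    (u₀ : (CliffordAlgebra (QuadGrp.baseChangeForm (B ⧸ I) Q))ˣ) (hu₀ : u₀ ∈ QuadGrp.gpin Q (B ⧸ I)) :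
    ∃ u ∈ QuadGrp.gpin Q B, cRed Q I (u : CliffordAlgebra (QuadGrp.baseChangeForm B Q)) =
      (u₀ : CliffordAlgebra (QuadGrp.baseChangeForm (B ⧸ I) Q)) := by
  rcases subsingleton_or_nontrivial B with hB | hB
  · haveI : Subsingleton (B ⧸ I) := (Ideal.Quotient.mk_surjective (I := I)).subsingleton
    haveI := Module.subsingleton (B ⧸ I) (CliffordAlgebra (QuadGrp.baseChangeForm (B ⧸ I) Q))
    exact ⟨1, one_mem _, Subsingleton.elim _ _⟩
  let c := QuadCoord.stdBasis (R := R) (n := 2 * m) B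
  have hQB := isRegular_baseChange B Q hQ
  obtain ⟨g₀, hg₀, hc₀⟩ := exists_linearEquiv_of_conj hu₀.1
  obtain ⟨g, hg, -, hgg⟩ := exists_isometry_lift false hg₀ (fun h => absurd h Bool.false_ne_true)
    fun G hG => QuadCoord.lift_of_isUnit_det I hI hG (QuadCoord.isUnit_det_polarMat Q hQ)
      fun h => absurd h Bool.false_ne_true
  obtain ⟨x, hx⟩ := cRed_surjective (u₀ : CliffordAlgebra (QuadGrp.baseChangeForm (B ⧸ I) Q))
  obtain ⟨v, rfl, hvinv⟩ := exists_unit_lift hI u₀ hx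
  set C := CliffordAlgebra (QuadGrp.baseChangeForm B Q) with hC
  haveI : Module.Finite B C := finite_clifford _
  obtain ⟨A, _, _, hA, -, ⟨e⟩, -⟩ := exists_fppf_matrix_even c hm hQB
  obtain ⟨t, ht⟩ := exists_separability_of_matrix A e
  let K : Submodule B C :=
    { carrier := {z | cRed Q I z = 0}
      add_mem' := fun {a b} ha hb => by simp_all
      zero_mem' := map_zero _
      smul_mem' := fun r z hz => by
        change cRed Q I (r • z) = 0
        rw [cliffMap_smul, show cliffMap Q _ z = 0 from hz, smul_zero] }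
  let Γ := map (QuadGrp.isometryOfMem _ g hg)
  let γ : C →ₐ[B] C := AlgHom.ofLinearMap
    ((LinearMap.mulLeft B (↑v⁻¹ : C)).comp ((LinearMap.mulRight B (v : C)).comp Γ.toLinearMap))
    (by simp [C]) (fun a b => by
      simp only [LinearMap.comp_apply, AlgHom.toLinearMap_apply, LinearMap.mulLeft_apply,
        LinearMap.mulRight_apply, map_mul, mul_assoc]
      rw [← mul_assoc (v : C) (↑v⁻¹ : C), Units.mul_inv, one_mul])
  have hγ : ∀ z, γ z - z ∈ K := fun z => by
    change cRed Q I ((↑v⁻¹ : C) * (Γ z * v) - z) = 0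
    rw [map_sub, map_mul, map_mul, cRed_map hg hg₀ hgg, conj_map hg₀ hc₀, hvinv, hx]
    simp only [mul_assoc, Units.inv_mul, mul_one]
    rw [← mul_assoc, Units.inv_mul, one_mul, sub_self]
  obtain ⟨w, hw, hwz⟩ := exists_conj_of_congr ht K
    (fun k hk z => by change cRed Q I (k * z) = 0; rw [map_mul, show cRed Q I k = 0 from hk, zero_mul])
    (fun k hk z => by change cRed Q I (z * k) = 0; rw [map_mul, show cRed Q I k = 0 from hk, mul_zero])
    (fun k hk k' hk' => red_mul_eq_zero hI hk hk') γ hγ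
  let u := v * oneAdd hI hw
  have hconj : ∀ z, (u : C) * z * ↑u⁻¹ = Γ z := fun z => by
    have e1 := hwz z
    change (↑v⁻¹ : C) * (Γ z * v) = (1 + w) * z * (1 - w) at e1
    rw [show (↑u⁻¹ : C) = (1 - w) * ↑v⁻¹ from rfl, show (u : C) = v * (1 + w) from rfl]
    calc (v : C) * (1 + w) * z * ((1 - w) * ↑v⁻¹) = v * ((1 + w) * z * (1 - w)) * ↑v⁻¹ := by
          simp only [mul_assoc]
      _ = v * ((↑v⁻¹ : C) * (Γ z * v)) * ↑v⁻¹ := by rw [e1]
      _ = Γ z := by rw [← mul_assoc (v : C), Units.mul_inv, one_mul, mul_assoc, Units.mul_inv, mul_one]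
  have hu : u ∈ QuadGrp.GPin' (QuadGrp.baseChangeForm B Q) := mem_GPin'_of_conj_global (g := g) fun z => by
    rw [hconj]; exact map_apply_ι _ _
  refine ⟨u, ⟨hu, isLocHomog_of_mem hQB (by rw [Module.finrank_eq_card_basis c, Fintype.card_fin]) hu⟩, ?_⟩
  change cRed Q I ((v : C) * (1 + w)) = _
  rw [map_mul, map_add, map_one, show cRed Q I w = 0 from hw, add_zero, mul_one, hx]

end Even

section Odd

variable {m : ℕ} {Q : QuadraticForm R (Fin (2 * m + 1) → R)}

theorem map_odd_central {A : Type u} [CommRing A] {M : Type u} [AddCommGroup M] [Module A M] [Module.Free A M]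
    [Module.Finite A M] {P : QuadraticForm A M} (b : Module.Basis (Fin (2 * m + 1)) A M)
    (hP : QuadGrp.IsSemiregular b (LinearEquiv.refl A A) P) {g : M ≃ₗ[A] M} (hg : g ∈ QuadGrp.O P)
    (hdet : LinearMap.det g.toLinearMap = 1) {l : CliffordAlgebra P} (hl : l ∈ evenOdd P 1)
    (hc : ∀ v, ι P v * l = l * ι P v) : map (QuadGrp.isometryOfMem P g hg) l = l := by
  refine sub_eq_zero.mp (eq_zero_of_localizations P fun 𝔭 _ => ?_)
  obtain ⟨z, Z⟩ := exists_oddCentre_localization b hP 𝔭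
  obtain ⟨t, ht⟩ := Z.odd_eq (x := bcA (Localization.AtPrime 𝔭) P l) (bc_mem_evenOdd _ _ _ _ 1 hl) fun w => by
    rw [commute_ι_of_unitσ (Localization.AtPrime 𝔭) P 1 (fun v => ?_) w, one_smul]
    have e : bcA (Localization.AtPrime 𝔭) P (ι P v) = _ := bc_ι P _ _ _ v
    rw [one_smul, ← e, ← map_mul, ← map_mul, hc v]
  rw [map_sub, bcA_map _ hg, ht, map_smul,
    Z.map_eq_of_det_eq_one (b.baseChange _) (isSemiregular_baseChange _ b hP) (baseChange_mem_O _ hg)
      (by rw [det_baseChange, hdet, map_one]), sub_self]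

set_option maxHeartbeats 1600000 in
theorem exists_gpin_lift_odd (hQ : QuadGrp.IsSemiregular (Pi.basisFun R (Fin (2 * m + 1))) (LinearEquiv.refl R R) Q)
    (hI : I ^ 2 = ⊥) (u₀ : (CliffordAlgebra (QuadGrp.baseChangeForm (B ⧸ I) Q))ˣ)
    (hu₀ : u₀ ∈ QuadGrp.gpin Q (B ⧸ I)) :
    ∃ u ∈ QuadGrp.gpin Q B, cRed Q I (u : CliffordAlgebra (QuadGrp.baseChangeForm B Q)) =
      (u₀ : CliffordAlgebra (QuadGrp.baseChangeForm (B ⧸ I) Q)) := by
  obtain ⟨hu₀', e₀, he₀, h₀0, h₀1⟩ := hu₀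
  have hQB := isSemiregular_baseChange B (Pi.basisFun R (Fin (2 * m + 1))) hQ
  obtain ⟨g₀, hg₀, hc₀⟩ := exists_linearEquiv_of_conj hu₀'
  have hdet₀ := det_eq_one_of_conj ((Pi.basisFun R (Fin (2 * m + 1))).baseChange (B ⧸ I))
    (isSemiregular_baseChange (B ⧸ I) (Pi.basisFun R (Fin (2 * m + 1))) hQ) hg₀ hc₀
  obtain ⟨g, hg, hdet, hgg⟩ := exists_isometry_lift true hg₀ (fun _ => hdet₀)
    fun G hG => QuadCoord.lift_of_odd I hI hG (odd_two_mul_add_one m) hQ rfl
  obtain ⟨e, he, hee⟩ := exists_isIdempotentElem_eq_of_ker_isNilpotent (Ideal.Quotient.mk I)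
    (fun x hx => ⟨2, by
      rw [Ideal.mk_ker] at hx
      have := Ideal.pow_mem_pow hx 2
      rwa [hI, Ideal.mem_bot] at this⟩) e₀ (Ideal.Quotient.mk_surjective e₀) he₀
  set C := CliffordAlgebra (QuadGrp.baseChangeForm B Q) with hC
  obtain ⟨x', hx'⟩ := cRed_surjective (u₀ : CliffordAlgebra (QuadGrp.baseChangeForm (B ⧸ I) Q))
  let P := QuadGrp.baseChangeForm B Q
  obtain ⟨x, hxdef⟩ : ∃ x : C, x = e • (part P 0 x' : C) + (1 - e) • (part P 1 x' : C) := ⟨_, rfl⟩
  have hx : cRed Q I x = u₀ := by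
    have hd : (u₀ : CliffordAlgebra (QuadGrp.baseChangeForm (B ⧸ I) Q)) =
        cRed Q I (part P 0 x' : C) + cRed Q I (part P 1 x' : C) := by
      rw [← map_add, part_add_part]
      exact hx'.symm
    have m0 : cRed Q I (part P 0 x' : C) ∈ evenOdd (QuadGrp.baseChangeForm (B ⧸ I) Q) 0 :=
      bc_mem_evenOdd _ _ _ _ 0 (part P 0 x').2
    have m1 : cRed Q I (part P 1 x' : C) ∈ evenOdd (QuadGrp.baseChangeForm (B ⧸ I) Q) 1 :=
      bc_mem_evenOdd _ _ _ _ 1 (part P 1 x').2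
    have a1 : e₀ • cRed Q I (part P 1 x' : C) = 0 := by
      refine eq_zero_of_mem_zero_of_mem_one _ ?_ (Submodule.smul_mem _ _ m1)
      have : e₀ • cRed Q I (part P 1 x' : C) =
          e₀ • (u₀ : CliffordAlgebra (QuadGrp.baseChangeForm (B ⧸ I) Q)) - e₀ • cRed Q I (part P 0 x' : C) := by
        rw [hd, smul_add, add_sub_cancel_left]
      rw [this]
      exact sub_mem h₀0 (Submodule.smul_mem _ _ m0)
    have a0 : (1 - e₀) • cRed Q I (part P 0 x' : C) = 0 := by
      refine eq_zero_of_mem_zero_of_mem_one _ (Submodule.smul_mem _ _ m0) ?_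
      have : (1 - e₀) • cRed Q I (part P 0 x' : C) =
          (1 - e₀) • (u₀ : CliffordAlgebra (QuadGrp.baseChangeForm (B ⧸ I) Q)) - (1 - e₀) • cRed Q I (part P 1 x' : C) := by
        rw [hd, smul_add, add_sub_cancel_right]
      rw [this]
      exact sub_mem h₀1 (Submodule.smul_mem _ _ m1)
    rw [hxdef, map_add, cliffMap_smul, cliffMap_smul, map_sub, map_one, mk_eq_mkₐ, hee, hd]
    rw [sub_smul, one_smul] at a0 ⊢
    rw [a1, sub_zero, ← sub_eq_zero.mp a0]
  obtain ⟨v, hv, hvinv⟩ := exists_unit_lift hI u₀ hx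
  have he' : e * e = e := he.eq
  have hv0 : e • (v : C) ∈ evenOdd P 0 := by
    rw [hv, hxdef, smul_add, smul_smul, smul_smul, mul_sub, mul_one, he', sub_self, zero_smul, add_zero]
    exact Submodule.smul_mem _ _ (part P 0 x').2
  have hv1 : (1 - e) • (v : C) ∈ evenOdd P 1 := by
    rw [hv, hxdef, smul_add, smul_smul, smul_smul, sub_mul, one_mul, he', sub_self, zero_smul, zero_add]
    exact Submodule.smul_mem _ _ (part P 1 x').2
  obtain ⟨hi0, hi1⟩ := QuadGrp.isLocHomog_inv_aux P v e hv0 hv1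
  let Γ := map (QuadGrp.isometryOfMem _ g hg)
  let C0 := CliffordAlgebra.even P
  have hzz : (0 : ZMod 2) + 0 = 0 := rfl
  have h11 : (1 : ZMod 2) + 1 = 0 := rfl
  have hmem : ∀ z ∈ evenOdd P 0, (↑v⁻¹ : C) * (Γ z * v) ∈ evenOdd P 0 := fun z hz => by
    have hΓ := map_mem_evenOdd (QuadGrp.isometryOfMem P g hg) 0 hz
    have d0 : (e • (↑v⁻¹ : C)) * (Γ z * (e • (v : C))) ∈ evenOdd P 0 :=
      hzz ▸ SetLike.mul_mem_graded hi0 (hzz ▸ SetLike.mul_mem_graded hΓ hv0)
    have d1 : ((1 - e) • (↑v⁻¹ : C)) * (Γ z * ((1 - e) • (v : C))) ∈ evenOdd P 0 :=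
      h11 ▸ SetLike.mul_mem_graded hi1 (zero_add (1 : ZMod 2) ▸ SetLike.mul_mem_graded hΓ hv1)
    have : (↑v⁻¹ : C) * (Γ z * v) = (e • (↑v⁻¹ : C)) * (Γ z * (e • (v : C))) +
        ((1 - e) • (↑v⁻¹ : C)) * (Γ z * ((1 - e) • (v : C))) := by
      simp only [mul_smul_comm, smul_mul_assoc, smul_smul, ← add_smul]
      rw [show e * e + (1 - e) * (1 - e) = 1 by linear_combination 2 * he', one_smul]
    rw [this]
    exact add_mem d0 d1
  let γ : ↥C0 →ₐ[B] ↥C0 := AlgHom.ofLinearMap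
    (LinearMap.codRestrict (Subalgebra.toSubmodule C0)
      ((LinearMap.mulLeft B (↑v⁻¹ : C)).comp ((LinearMap.mulRight B (v : C)).comp
        (Γ.toLinearMap.comp C0.val.toLinearMap))) fun z => hmem z.1 z.2)
    (Subtype.ext (by
      change (↑v⁻¹ : C) * (Γ 1 * v) = 1
      rw [map_one, one_mul, Units.inv_mul]))
    (fun a b => Subtype.ext (by
      change (↑v⁻¹ : C) * (Γ (a.1 * b.1) * v) = (↑v⁻¹ : C) * (Γ a.1 * v) * ((↑v⁻¹ : C) * (Γ b.1 * v))
      simp only [map_mul, mul_assoc]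
      rw [← mul_assoc (v : C) (↑v⁻¹ : C), Units.mul_inv, one_mul]))
  haveI : Module.Finite B C := finite_clifford _
  haveI : Module.Finite B ↥C0 := Module.Finite.of_surjective (part P 0 : C →ₗ[B] ↥(evenOdd P 0))
    fun z => ⟨z.1, Subtype.ext (part_of_mem P z.2)⟩
  obtain ⟨A, _, _, hA, -, ⟨eA⟩⟩ := exists_fppf_matrix_odd _ hQB
  obtain ⟨t, ht⟩ := exists_separability_of_matrix A eA
  let K : Submodule B ↥C0 :=
    { carrier := {z | cRed Q I z.1 = 0}
      add_mem' := fun {a b} ha hb => by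
        change cRed Q I (a.1 + b.1) = 0
        rw [map_add, show cRed Q I a.1 = 0 from ha, show cRed Q I b.1 = 0 from hb, add_zero]
      zero_mem' := map_zero _
      smul_mem' := fun r z hz => by
        change cRed Q I (r • z.1) = 0
        rw [cliffMap_smul, show cliffMap Q _ z.1 = 0 from hz, smul_zero] }
  have hγ : ∀ z, γ z - z ∈ K := fun z => by
    change cRed Q I ((↑v⁻¹ : C) * (Γ z.1 * v) - z.1) = 0
    rw [map_sub, map_mul, map_mul, cRed_map hg hg₀ hgg, conj_map hg₀ hc₀, hvinv, hv, hx]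
    simp only [mul_assoc, Units.inv_mul, mul_one]
    rw [← mul_assoc, Units.inv_mul, one_mul, sub_self]
  obtain ⟨w, hw, hwz⟩ := exists_conj_of_congr ht K
    (fun k hk z => by change cRed Q I (k.1 * z.1) = 0; rw [map_mul, show cRed Q I k.1 = 0 from hk, zero_mul])
    (fun k hk z => by change cRed Q I (z.1 * k.1) = 0; rw [map_mul, show cRed Q I k.1 = 0 from hk, mul_zero])
    (fun k hk k' hk' => Subtype.ext (red_mul_eq_zero hI hk hk')) γ hγ
  let u := v * oneAdd hI (w := w.1) hw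
  have hconj0 : ∀ z ∈ evenOdd P 0, (u : C) * z * ↑u⁻¹ = Γ z := fun z hz => by
    have e1 := congrArg Subtype.val (hwz ⟨z, hz⟩)
    change (↑v⁻¹ : C) * (Γ z * v) = (1 + w.1) * z * (1 - w.1) at e1
    rw [show (↑u⁻¹ : C) = (1 - w.1) * ↑v⁻¹ from rfl, show (u : C) = v * (1 + w.1) from rfl]
    calc (v : C) * (1 + w.1) * z * ((1 - w.1) * ↑v⁻¹) = v * ((1 + w.1) * z * (1 - w.1)) * ↑v⁻¹ := by
          simp only [mul_assoc]
      _ = v * ((↑v⁻¹ : C) * (Γ z * v)) * ↑v⁻¹ := by rw [e1]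
      _ = Γ z := by rw [← mul_assoc (v : C), Units.mul_inv, one_mul, mul_assoc, Units.mul_inv, mul_one]
  have hu : u ∈ QuadGrp.GPin' P := mem_GPin'_of_conj_global (g := g) fun z => by
    -- a vector is a combination of products of odd central and even elements
    have hl : ∀ l ∈ evenOdd P 1, (∀ v, ι P v * l = l * ι P v) →
        (u : C) * (l * (l * ι P z)) * ↑u⁻¹ = Γ (l * (l * ι P z)) := fun l hlo hlc => by
      have hcen : Commute l (u : C) :=
        commute_of_commute_ι (fun v => ((hlc v).symm : Commute l (ι P v))) _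
      rw [map_mul Γ l, show Γ l = l from map_odd_central _ hQB hg (hdet rfl) hlo hlc,
        ← hconj0 _ (h11 ▸ SetLike.mul_mem_graded hlo (ι_mem_evenOdd_one P z)), ← mul_assoc (u : C), ← hcen.eq]
      simp only [mul_assoc]
    have hJ : ∀ r ∈ Ideal.span {r : B | ∃ l ∈ evenOdd P 1, (∀ v, ι P v * l = l * ι P v) ∧ l * l = algebraMap B _ r},
        r • ((u : C) * ι P z * ↑u⁻¹ - Γ (ι P z)) = 0 := fun r hr => by
      induction hr using Submodule.span_induction with
      | mem r hr =>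
        obtain ⟨l, hlo, hlc, hll⟩ := hr
        have e : r • ι P z = l * (l * ι P z) := by rw [Algebra.smul_def, ← hll, mul_assoc]
        rw [smul_sub, show r • ((u : C) * ι P z * ↑u⁻¹) = (u : C) * (r • ι P z) * ↑u⁻¹ by
          rw [mul_smul_comm, smul_mul_assoc], ← map_smul Γ, e, hl l hlo hlc, sub_self]
      | zero => rw [zero_smul]
      | add a b _ _ ha hb => rw [add_smul, ha, hb, add_zero]
      | smul a b _ hb => rw [smul_eq_mul, mul_smul, hb, smul_zero]
    have h1 : (1 : B) ∈ Ideal.span {r : B | ∃ l ∈ evenOdd P 1, (∀ v, ι P v * l = l * ι P v) ∧ l * l = algebraMap B _ r} := by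
      by_contra h
      obtain ⟨𝔭, hP, hle⟩ := Ideal.exists_le_maximal _ ((Ideal.ne_top_iff_one _).mpr h)
      obtain ⟨l, hl', hc, r, hr, hlr⟩ := exists_odd_central_sq _ hQB 𝔭
      exact hr (hle (Ideal.subset_span ⟨l, hl', hc, hlr⟩))
    have := hJ 1 h1
    rw [one_smul, sub_eq_zero] at this
    rw [this]
    exact map_apply_ι _ _
  refine ⟨u, ⟨hu, e, he, ?_, ?_⟩, ?_⟩
  · change e • ((v : C) * (1 + w.1)) ∈ _
    rw [← smul_mul_assoc]
    exact hzz ▸ SetLike.mul_mem_graded hv0 (add_mem (SetLike.one_mem_graded _) w.2)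
  · change (1 - e) • ((v : C) * (1 + w.1)) ∈ _
    rw [← smul_mul_assoc]
    exact add_zero (1 : ZMod 2) ▸ SetLike.mul_mem_graded hv1 (add_mem (SetLike.one_mem_graded _) w.2)
  · change cRed Q I ((v : C) * (1 + w.1)) = _
    rw [map_mul, map_add, map_one, show cRed Q I w.1 = 0 from hw, add_zero, mul_one, hv, hx]

theorem span_polar_eq_top {A : Type u} [CommRing A] {M : Type u} [AddCommGroup M] [Module A M]
    {P : QuadraticForm A M} (c : Module.Basis (Fin (2 * m + 1)) A M) (hm : 1 ≤ m)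
    (hP : QuadGrp.IsSemiregular c (LinearEquiv.refl A A) P) :
    Ideal.span (Set.range fun p : M × M => QuadraticMap.polar P p.1 p.2) = ⊤ := by
  classical
  by_contra h
  obtain ⟨𝔭, h𝔭, hle⟩ := Ideal.exists_le_maximal _ h
  set a := QuadGrp.coeffs c (LinearEquiv.refl A A) P with ha
  have hn := odd_two_mul_add_one m
  have hP0 : ∀ i j, polarMat a i j ∈ 𝔭 := fun i j => by
    have : polarMat a i j = QuadraticMap.polar P (c i) (c j) := by
      rw [polarMat, Matrix.of_apply, ha, QuadGrp.coeffs_mk]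
      split_ifs with hij
      · subst hij; rw [QuadraticMap.polar_self, LinearEquiv.refl_apply, nsmul_eq_mul, Nat.cast_ofNat]
      · rfl
    rw [this]
    exact hle (Ideal.subset_span ⟨(c i, c j), rfl⟩)
  by_cases h2 : (2 : A) ∈ 𝔭
  · obtain ⟨p, hp⟩ := QuadTable.exists_diag_notMem hn a hP 𝔭 h2
    refine hp (Ideal.Quotient.eq_zero_iff_mem.mp ?_)
    have : (polarMat a).map (Ideal.Quotient.mk 𝔭) = 0 :=
      Matrix.ext fun i j => Ideal.Quotient.eq_zero_iff_mem.mpr (hP0 i j)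
    have e := congrFun (congrFun (RingHom.map_adjugate (Ideal.Quotient.mk 𝔭) (polarMat a)) p) p
    rw [RingHom.mapMatrix_apply, Matrix.map_apply, RingHom.mapMatrix_apply, this] at e
    rw [e]
    haveI : Nontrivial (Fin (2 * m + 1)) := ⟨⟨0, ⟨1, by omega⟩, by simp [Fin.ext_iff]⟩⟩
    rw [Matrix.adjugate_zero, Matrix.zero_apply]
  · have hd : (polarMat a).det ∈ 𝔭 := by
      rw [Matrix.det_apply']
      exact 𝔭.sum_mem fun σ _ => 𝔭.mul_mem_left _
        (Ideal.IsPrime.prod_mem_iff.mpr ⟨0, Finset.mem_univ _, hP0 _ _⟩)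
    rw [← two_mul_hd hn] at hd
    rcases h𝔭.isPrime.mem_or_mem hd with h' | h'
    · exact h2 h'
    · exact h𝔭.ne_top (Ideal.eq_top_of_isUnit_mem _ h' hP)

set_option maxHeartbeats 400000 in
theorem exists_pin_lift_odd (hm : 1 ≤ m)
    (hQ : QuadGrp.IsSemiregular (Pi.basisFun R (Fin (2 * m + 1))) (LinearEquiv.refl R R) Q)
    (hI : I ^ 2 = ⊥) (u₀ : (CliffordAlgebra (QuadGrp.baseChangeForm (B ⧸ I) Q))ˣ)
    (hu₀ : u₀ ∈ QuadGrp.pin Q (B ⧸ I)) :
    ∃ u ∈ QuadGrp.pin Q B, cRed Q I (u : CliffordAlgebra (QuadGrp.baseChangeForm B Q)) =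
      (u₀ : CliffordAlgebra (QuadGrp.baseChangeForm (B ⧸ I) Q)) := by
  obtain ⟨u, ⟨hu, e, he, hu0, hu1⟩, huu⟩ := exists_gpin_lift_odd hQ hI u₀ hu₀.1
  set C := CliffordAlgebra (QuadGrp.baseChangeForm B Q) with hC
  let P := QuadGrp.baseChangeForm B Q
  have hQB := isSemiregular_baseChange B (Pi.basisFun R (Fin (2 * m + 1))) hQ
  obtain ⟨g, hg, hc⟩ := exists_linearEquiv_of_conj hu
  -- the norm is a scalar
  have hcen : ∀ v, ι P v * (star (u : C) * u) = star (u : C) * u * ι P v := fun v => by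
    have h1 : (u : C) * ι P v = ι P (g v) * u := by rw [← hc v, mul_assoc, Units.inv_mul, mul_one]
    have h2 : ι P v * star (u : C) = star (u : C) * ι P (g v) := by
      have := congrArg star h1
      simpa [star_mul] using this
    rw [← mul_assoc, h2, mul_assoc, ← h1, mul_assoc]
  have hev : star (u : C) * u ∈ evenOdd P 0 := by
    have hs : ∀ (i : ZMod 2) {z : C}, z ∈ evenOdd P i → star z ∈ evenOdd P i := fun i z hz =>
      (star_def z) ▸ (reverse_mem_evenOdd_iff P).mpr ((involute_mem_evenOdd_iff P).mpr hz)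
    have h1 : star (u : C) * u = star (e • (u : C)) * (e • (u : C)) +
        star ((1 - e) • (u : C)) * ((1 - e) • (u : C)) := by
      simp only [CliffordAlgebra.star_smul, smul_mul_smul_comm, ← add_smul]
      rw [show e * e + (1 - e) * (1 - e) = 1 by linear_combination 2 * he.eq, one_smul]
    rw [h1]
    exact add_mem ((show (0 : ZMod 2) + 0 = 0 from rfl) ▸ SetLike.mul_mem_graded (hs 0 hu0) hu0)
      ((show (1 : ZMod 2) + 1 = 0 from rfl) ▸ SetLike.mul_mem_graded (hs 1 hu1) hu1)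
  obtain ⟨r, hr⟩ := even_central_scalar _ hQB hev hcen
  have hrI : 1 - r ∈ I := by
    have h := congrArg (cRed Q I) hr
    have hn0 : star (u₀ : CliffordAlgebra (QuadGrp.baseChangeForm (B ⧸ I) Q)) * u₀ = 1 := hu₀.2
    rw [map_mul, cliffMap_star, cliffMap_algebraMap, huu, hn0,
      ← map_one (algebraMap (B ⧸ I) (CliffordAlgebra (QuadGrp.baseChangeForm (B ⧸ I) Q)))] at h
    rw [← Ideal.Quotient.eq, map_one]
    exact algebraMap_injective _ h
  -- adjust by bivectors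
  have hspan : ∀ x ∈ Ideal.span (Set.range fun p : (B ⊗[R] (Fin (2 * m + 1) → R)) × (B ⊗[R] (Fin (2 * m + 1) → R)) =>
      QuadraticMap.polar P p.1 p.2), ∃ w : C, w ∈ evenOdd P 0 ∧ star w + w = algebraMap B C x ∧
        ∀ v, w * ι P v - ι P v * w ∈ LinearMap.range (ι P) := by
    intro x hx
    induction hx using Submodule.span_induction with
    | mem x hx =>
      obtain ⟨⟨p, q⟩, rfl⟩ := hx
      refine ⟨ι P p * ι P q, ι_mul_ι_mem_evenOdd_zero P p q, ?_, fun v => ?_⟩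
      · rw [star_mul, star_ι, star_ι, neg_mul_neg, ι_mul_ι_add_swap, QuadraticMap.polar_comm]
      · refine ⟨QuadraticMap.polar P q v • p - QuadraticMap.polar P p v • q, ?_⟩
        rw [map_sub, map_smul, map_smul, Algebra.smul_def, Algebra.smul_def, Algebra.commutes,
          ← ι_mul_ι_add_swap, ← ι_mul_ι_add_swap]
        noncomm_ring
    | zero => exact ⟨0, zero_mem _, by simp, fun v => by simp⟩
    | add a b _ _ ha hb =>
      obtain ⟨w, w0, ws, wc⟩ := ha
      obtain ⟨w', w0', ws', wc'⟩ := hb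
      refine ⟨w + w', add_mem w0 w0', by rw [star_add, map_add, ← ws, ← ws']; abel, fun v => ?_⟩
      rw [add_mul, mul_add, add_sub_add_comm]
      exact add_mem (wc v) (wc' v)
    | smul a b _ hb =>
      obtain ⟨w, w0, ws, wc⟩ := hb
      refine ⟨a • w, Submodule.smul_mem _ a w0, ?_, fun v => ?_⟩
      · rw [CliffordAlgebra.star_smul, ← smul_add, ws, smul_eq_mul, map_mul, Algebra.smul_def]
      · rw [smul_mul_assoc, mul_smul_comm, ← smul_sub]
        exact Submodule.smul_mem _ a (wc v)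
  obtain ⟨w₁, hw0, hws, hwc⟩ := hspan 1 (span_polar_eq_top _ hm hQB ▸ Submodule.mem_top)
  set ε := 1 - r with hε
  have hwred : cRed Q I (ε • w₁) = 0 := by
    rw [cliffMap_smul, mk_eq_mkₐ, Ideal.Quotient.eq_zero_iff_mem.mpr hrI, zero_smul]
  let t := oneAdd hI hwred
  have hww : ∀ z, (ε • w₁) * z * (ε • w₁) = 0 := fun z => by
    rw [mul_assoc]
    exact red_mul_eq_zero hI hwred (by rw [map_mul, hwred, mul_zero])
  have ht : t ∈ QuadGrp.GPin' P := by
    obtain ⟨f, hf⟩ : ∃ f : (B ⊗[R] (Fin (2 * m + 1) → R)) → (B ⊗[R] (Fin (2 * m + 1) → R)),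
        ∀ v, ι P (f v) = w₁ * ι P v - ι P v * w₁ := ⟨fun v => (hwc v).choose, fun v => (hwc v).choose_spec⟩
    have hconj : ∀ v, (t : C) * ι P v * ↑t⁻¹ = ι P (v + ε • f v) := fun v => by
      change (1 + ε • w₁) * ι P v * (1 - ε • w₁) = _
      rw [map_add, map_smul, hf, smul_sub, ← smul_mul_assoc, ← mul_smul_comm]
      calc (1 + ε • w₁) * ι P v * (1 - ε • w₁)
          = ι P v + ((ε • w₁) * ι P v - ι P v * (ε • w₁)) - (ε • w₁) * ι P v * (ε • w₁) := conj_expand _ _
        _ = _ := by rw [hww, sub_zero]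
    rw [QuadGrp.mem_GPin']
    refine le_antisymm ?_ fun z hz => ?_
    · intro z hz
      rw [Submodule.mem_smul_pointwise_iff_exists] at hz
      obtain ⟨_, ⟨v, rfl⟩, rfl⟩ := hz
      exact ⟨_, (hconj v).symm.trans (by simp [ConjAct.units_smul_def])⟩
    · obtain ⟨v, rfl⟩ := hz
      rw [Submodule.mem_smul_pointwise_iff_exists]
      refine ⟨(↑t⁻¹ : C) * ι P v * t, ⟨v - ε • f v, ?_⟩, ?_⟩
      · change _ = (1 - ε • w₁) * ι P v * (1 + ε • w₁)
        rw [map_sub, map_smul, hf, smul_sub, ← smul_mul_assoc, ← mul_smul_comm]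
        calc ι P v - ((ε • w₁) * ι P v - ι P v * (ε • w₁))
            = ι P v - ((ε • w₁) * ι P v - ι P v * (ε • w₁)) - (ε • w₁) * ι P v * (ε • w₁) := by
              rw [hww, sub_zero]
          _ = _ := conj_expand' _ _
      · simp only [ConjAct.units_smul_def, ConjAct.ofConjAct_toConjAct, ← mul_assoc, Units.mul_inv, one_mul]
        rw [mul_assoc, Units.mul_inv, mul_one]
  refine ⟨u * t, ⟨⟨mul_mem hu ht, e, he, ?_, ?_⟩, ?_⟩, ?_⟩
  · change e • ((u : C) * (1 + ε • w₁)) ∈ _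
    rw [← smul_mul_assoc]
    exact (show (0 : ZMod 2) + 0 = 0 from rfl) ▸ SetLike.mul_mem_graded hu0
      (add_mem (SetLike.one_mem_graded _) (Submodule.smul_mem _ _ hw0))
  · change (1 - e) • ((u : C) * (1 + ε • w₁)) ∈ _
    rw [← smul_mul_assoc]
    exact add_zero (1 : ZMod 2) ▸ SetLike.mul_mem_graded hu1
      (add_mem (SetLike.one_mem_graded _) (Submodule.smul_mem _ _ hw0))
  · change star ((u : C) * (1 + ε • w₁)) * ((u : C) * (1 + ε • w₁)) = 1
    rw [star_mul, mul_assoc, ← mul_assoc (star (u : C)), hr, ← mul_assoc, ← Algebra.commutes, mul_assoc,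
      star_add, star_one, CliffordAlgebra.star_smul]
    have h0 : (ε • star w₁) * (ε • w₁) = 0 := by
      rw [smul_mul_smul_comm, show ε * ε = 0 by
        have := Ideal.mul_mem_mul hrI hrI
        rwa [← pow_two, hI, Ideal.mem_bot] at this, zero_smul]
    calc algebraMap B C r * ((1 + ε • star w₁) * (1 + ε • w₁))
        = algebraMap B C r * (1 + ε • (star w₁ + w₁) + (ε • star w₁) * (ε • w₁)) := by
          rw [smul_add]; generalize ε • star w₁ = S, ε • w₁ = W; noncomm_ring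
      _ = algebraMap B C (r * (1 + ε)) := by
          rw [h0, add_zero, hws, Algebra.smul_def, ← map_mul, mul_one, map_mul, map_add, map_one]
      _ = 1 := by
          have h2 : ε * ε = 0 := by
            have := Ideal.mul_mem_mul hrI hrI
            rwa [← pow_two, hI, Ideal.mem_bot] at this
          rw [show r * (1 + ε) = 1 by linear_combination -h2 - (1 + ε) * hε, map_one]
  · change cRed Q I ((u : C) * (1 + ε • w₁)) = _
    rw [map_mul, map_add, map_one, hwred, add_zero, mul_one, huu]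

end Odd

end GrothLib.Cliff28
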