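import Groth.Agent.Lib.Cliff28.Even
import Groth.Agent.Lib.QuadGrp.Coord
import Mathlib.RingTheory.Smooth.Flat
import Mathlib.RingTheory.Localization.Away.Basic
import Mathlib.Algebra.Ring.ULift

/-!
# Specialisation from rings in which two is a non-zero-divisor

`GrothLib.Cliff28.exists_generic`: a matrix preserving a coefficient table over a local ring is the
image of one over a local ring in which `2` is a non-zero-divisor, as the scheme of such matrices is
smooth, hence flat, over a domain of characteristic zero.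
-/

set_option autoImplicit false
set_option linter.unusedSectionVars false

open CliffordAlgebra Matrix QuadGrp GrothLib.QuadHalfDisc GrothLib.QuadTable GrothLib.QuadCoord

namespace GrothLib.Cliff28

universe u v

variable {n : ℕ}

section Forms

variable {R : Type u} [CommRing R] {M : Type v} [AddCommGroup M] [Module R M]
  (b : Module.Basis (Fin n) R M) (Q : QuadraticForm R M)

theorem toMatrix_polarBilin :
    LinearMap.toMatrix b b.dualBasis (QuadraticMap.polarBilin Q) =
      polarMat (coeffs b (LinearEquiv.refl R R) Q) := by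
  ext i j
  rw [LinearMap.toMatrix_apply, Module.Basis.dualBasis_repr, QuadraticMap.polarBilin_apply_apply,
    polarMat, of_apply, coeffs_mk]
  rcases eq_or_ne i j with rfl | h
  · rw [if_pos rfl, if_pos rfl, QuadraticMap.polar_self, LinearEquiv.refl_apply, two_nsmul, two_mul]
  · rw [if_neg h, if_neg h, QuadraticMap.polar_comm]
    rfl

theorem isRegular_iff_isUnit_det :
    IsRegular Q ↔ IsUnit (polarMat (coeffs b (LinearEquiv.refl R R) Q)).det := by
  rw [← toMatrix_polarBilin]
  refine ⟨fun h => LinearEquiv.isUnit_det (LinearEquiv.ofBijective _ h) b b.dualBasis, fun h => ?_⟩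
  exact (LinearEquiv.ofIsUnitDet h).bijective

/-- The form with a given coefficient table. -/
noncomputable def formOfTable (a : Sym2 (Fin n) → R) : QuadraticForm R (Fin n → R) :=
  LinearMap.BilinMap.toQuadraticMap (Matrix.toLinearMap₂' R (triMat a))

theorem formOfTable_apply (a : Sym2 (Fin n) → R) (x : Fin n → R) :
    formOfTable a x = ∑ i, ∑ j, x i * x j * triMat a i j := by
  rw [formOfTable, LinearMap.BilinMap.toQuadraticMap_apply, Matrix.toLinearMap₂'_apply]
  simp [mul_assoc]

theorem coeffs_formOfTable (a : Sym2 (Fin n) → R) :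
    coeffs (Pi.basisFun R (Fin n)) (LinearEquiv.refl R R) (formOfTable a) = a := by
  funext p
  induction p using Sym2.ind with
  | _ i j =>
    have hT : ∀ k l, Matrix.toLinearMap₂' R (triMat a) (Pi.basisFun R (Fin n) k)
        (Pi.basisFun R (Fin n) l) = triMat a k l := fun k l => by
      simp [Matrix.toLinearMap₂'_apply, Pi.single_apply]
    rw [coeffs_mk]
    split_ifs with h
    · subst h
      rw [LinearEquiv.refl_apply, formOfTable,
        LinearMap.BilinMap.toQuadraticMap_apply, hT, triMat, of_apply, if_pos le_rfl]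
    · rw [LinearEquiv.refl_apply, formOfTable,
        LinearMap.BilinMap.polar_toQuadraticMap, hT, hT, triMat, of_apply, of_apply]
      rcases lt_or_gt_of_ne h with h' | h'
      · rw [if_pos h'.le, if_neg h'.not_ge, add_zero]
      · rw [if_neg h'.not_ge, if_pos h'.le, zero_add, Sym2.eq_swap]

theorem toBilin_sum (x : Fin n → R) :
    Q (∑ i, x i • b i) =
      ∑ i, ∑ j, x i * x j * triMat (coeffs b (LinearEquiv.refl R R) Q) i j := by
  conv_lhs => rw [← QuadraticMap.toQuadraticMap_toBilin Q b, LinearMap.BilinMap.toQuadraticMap_apply]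
  simp only [map_sum, LinearMap.sum_apply, map_smul, LinearMap.smul_apply, toBilin_basis, smul_eq_mul,
    Finset.mul_sum]
  rw [Finset.sum_comm]
  exact Finset.sum_congr rfl fun i _ => Finset.sum_congr rfl fun j _ => by ring

variable {R' : Type u} [CommRing R'] (φ : R' →+* R)

/-- The semilinear map sending the standard basis to `b`. -/
noncomputable def specMap : (Fin n → R') →ₛₗ[φ] M where
  toFun x := ∑ i, φ (x i) • b i
  map_add' x y := by simp [add_smul, Finset.sum_add_distrib]
  map_smul' r x := by simp [Finset.smul_sum, mul_smul]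

theorem specMap_single (i : Fin n) : specMap b φ (Pi.single i 1) = b i := by
  change ∑ k, φ (Pi.single (M := fun _ => R') i 1 k) • b k = b i
  rw [Finset.sum_eq_single i (fun k _ hk => by simp [hk]) (by simp)]
  simp

theorem specMap_isometry (a' : Sym2 (Fin n) → R')
    (ha : ∀ p, φ (a' p) = coeffs b (LinearEquiv.refl R R) Q p) (x : Fin n → R') :
    Q (specMap b φ x) = φ (formOfTable a' x) := by
  rw [formOfTable_apply, show specMap b φ x = ∑ i, φ (x i) • b i from rfl, toBilin_sum]
  simp only [map_sum, map_mul]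
  refine Finset.sum_congr rfl fun i _ => Finset.sum_congr rfl fun j _ => ?_
  rw [triMat, triMat, of_apply, of_apply]
  split_ifs <;> simp [ha]

theorem specMap_toLin' (g : M →ₗ[R] M) (G' : Matrix (Fin n) (Fin n) R')
    (hG : G'.map φ = LinearMap.toMatrix b b g) (x : Fin n → R') :
    g (specMap b φ x) = specMap b φ (Matrix.toLin' G' x) := by
  change g (∑ i, φ (x i) • b i) = ∑ k, φ (Matrix.toLin' G' x k) • b k
  simp only [map_sum, map_smul, Matrix.toLin'_apply, Matrix.mulVec, dotProduct, map_mul,
    Finset.sum_smul]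
  rw [Finset.sum_comm]
  refine Finset.sum_congr rfl fun i _ => ?_
  conv_lhs => rw [← b.sum_repr (g (b i)), Finset.smul_sum]
  refine Finset.sum_congr rfl fun k _ => ?_
  rw [smul_smul, mul_comm (φ (G' k i)), show φ (G' k i) = b.repr (g (b i)) k by
    rw [← LinearMap.toMatrix_apply b b g k i, ← hG, Matrix.map_apply]]

theorem span_specMap {P : M → Prop} (h0 : P 0) (hadd : ∀ v w, P v → P w → P (v + w))
    (hsmul : ∀ (c : R) v, P v → P (c • v)) (h : ∀ x, P (specMap b φ x)) (v : M) : P v := by
  rw [← b.sum_repr v]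
  exact Finset.sum_induction _ P hadd h0 fun i _ => hsmul _ _ (specMap_single b φ i ▸ h _)

end Forms

section Generic

variable {R : Type u} [CommRing R] [IsLocalRing R]

instance : IsDomain (ULift.{u} ℤ) := (ULift.ringEquiv : ULift.{u} ℤ ≃+* ℤ).toMulEquiv.isDomain ℤ

theorem table_map {A B : Type*} [CommRing A] [CommRing B] (f : A →+* B) {a : Sym2 (Fin n) → A}
    {G : Matrix (Fin n) (Fin n) A} (h : transform a G = a) :
    transform (fun p => f (a p)) (G.map f) = fun p => f (a p) :=
  funext fun p => by rw [← map_transform f a G p, h]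

/-- Coefficient ring of the generic table. -/
abbrev TableRing (n : ℕ) : Type u := MvPolynomial (Sym2 (Fin n)) (ULift.{u} ℤ)

/-- Evaluation of the generic table. -/
noncomputable def tableEval (a : Sym2 (Fin n) → R) : TableRing.{u} n →+* R :=
  MvPolynomial.eval₂Hom ((Int.castRingHom R).comp ULift.ringEquiv.toRingHom) a

theorem localize {C : Type u} [CommRing C] (φ : C →+* R) (hC : ∀ x : C, 2 * x = 0 → x = 0)
    (aC : Sym2 (Fin n) → C) (GC : Matrix (Fin n) (Fin n) C) (s : Bool) (ψ : TableRing.{u} n →+* C)
    (d : TableRing.{u} n) {a : Sym2 (Fin n) → R} {G : Matrix (Fin n) (Fin n) R}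
    (ha : ∀ p, φ (aC p) = a p) (hGC : GC.map φ = G) (hdet : IsUnit GC.det)
    (ht : transform aC GC = aC) (hs : s = true → GC.det = 1) (hd : IsUnit (ψ d))
    (hX : ∀ p, ψ (MvPolynomial.X p) = aC p) :
    ∃ (A : Type u) (_ : CommRing A) (_ : IsLocalRing A) (φ : A →+* R) (a' : Sym2 (Fin n) → A)
      (G' : Matrix (Fin n) (Fin n) A) (ψ : TableRing.{u} n →+* A),
      (∀ x : A, 2 * x = 0 → x = 0) ∧ (∀ p, φ (a' p) = a p) ∧ G'.map φ = G ∧ IsUnit G'.det ∧
        transform a' G' = a' ∧ (s = true → G'.det = 1) ∧ IsUnit (ψ d) ∧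
        (∀ p, ψ (MvPolynomial.X p) = a' p) := by
  let P := (IsLocalRing.maximalIdeal R).comap φ
  let φA : Localization.AtPrime P →+* R :=
    IsLocalization.lift (M := P.primeCompl) (g := φ) fun y => by
      by_contra h
      exact y.2 ((IsLocalRing.mem_maximalIdeal _).mpr h)
  let f := algebraMap C (Localization.AtPrime P)
  have hA : ∀ x : Localization.AtPrime P, 2 * x = 0 → x = 0 := fun x hx => by
    obtain ⟨y, t, rfl⟩ := IsLocalization.exists_mk'_eq P.primeCompl x
    rw [← map_ofNat (algebraMap C (Localization.AtPrime P)) 2, IsLocalization.mul_mk'_eq_mk'_of_mul,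
      IsLocalization.mk'_eq_zero_iff] at hx
    obtain ⟨w, hw⟩ := hx
    rw [IsLocalization.mk'_eq_zero_iff]
    exact ⟨w, hC _ (by rw [← hw]; ring)⟩
  refine ⟨_, inferInstance, inferInstance, φA, fun p => f (aC p), GC.map f, f.comp ψ, hA,
    fun p => ?_, ?_, ?_, table_map f ht, fun hs' => ?_, hd.map f, fun p => congrArg f (hX p)⟩
  · rw [IsLocalization.lift_eq, ha]
  · rw [Matrix.map_map, ← hGC]
    congr 1
    exact funext fun x => IsLocalization.lift_eq _ x
  · rw [← RingHom.mapMatrix_apply, ← RingHom.map_det]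
    exact hdet.map f
  · rw [← RingHom.mapMatrix_apply, ← RingHom.map_det, hs hs', map_one]

theorem exists_generic (a : Sym2 (Fin n) → R) (G : Matrix (Fin n) (Fin n) R) (s : Bool)
    (d : TableRing.{u} n) (hd : IsUnit (tableEval a d))
    (hsm : ∀ (U : Type u) [CommRing U] [Algebra (TableRing.{u} n) U],
      IsUnit (algebraMap (TableRing.{u} n) U d) →
        Algebra.FormallySmooth U (Coord (fun p => algebraMap (TableRing.{u} n) U (MvPolynomial.X p)) s))
    (hG : IsUnit G.det) (ht : transform a G = a) (hs : s = true → G.det = 1) :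
    ∃ (A : Type u) (_ : CommRing A) (_ : IsLocalRing A) (φ : A →+* R) (a' : Sym2 (Fin n) → A)
      (G' : Matrix (Fin n) (Fin n) A) (ψ : TableRing.{u} n →+* A),
      (∀ x : A, 2 * x = 0 → x = 0) ∧ (∀ p, φ (a' p) = a p) ∧ G'.map φ = G ∧ IsUnit G'.det ∧
        transform a' G' = a' ∧ (s = true → G'.det = 1) ∧ IsUnit (ψ d) ∧
        (∀ p, ψ (MvPolynomial.X p) = a' p) := by
  classical
  have hd0 : d ≠ 0 := fun h => not_isUnit_zero (M₀ := R) (by rwa [h, map_zero] at hd)
  let U := Localization.Away d
  haveI : IsDomain U := IsLocalization.isDomain_localization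
    (powers_le_nonZeroDivisors_of_noZeroDivisors hd0)
  let ψU : U →+* R := IsLocalization.Away.lift d hd
  letI : Algebra U R := ψU.toAlgebra
  let aU : Sym2 (Fin n) → U := fun p => algebraMap (TableRing.{u} n) U (MvPolynomial.X p)
  have haU : (fun p => algebraMap U R (aU p)) = a := funext fun p => by
    change ψU (algebraMap _ U _) = a p
    rw [IsLocalization.Away.lift_eq, tableEval, MvPolynomial.eval₂Hom_X']
  have hdU : IsUnit (algebraMap (TableRing.{u} n) U d) := IsLocalization.Away.algebraMap_isUnit d
  haveI := hsm U hdU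
  haveI : Algebra.Smooth U (Coord aU s) :=
    { formallySmooth := inferInstance, finitePresentation := finitePresentation }
  haveI : Module.Flat U (Coord aU s) := Algebra.Smooth.flat U _
  obtain ⟨φ, hφ⟩ := exists_matOf (a := aU) (s := s) (A := R) (G := G)
    ⟨hG, by rw [haU]; exact ht, hs⟩
  have h2U : (2 : U) ≠ 0 := by
    rw [show (2 : U) = algebraMap (TableRing.{u} n) U 2 from (map_ofNat _ 2).symm]
    intro h
    rw [← map_zero (algebraMap (TableRing.{u} n) U)] at h
    have h' := congrArg (MvPolynomial.constantCoeff) (IsLocalization.injective U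
      (powers_le_nonZeroDivisors_of_noZeroDivisors hd0) h)
    rw [map_ofNat, map_zero] at h'
    exact absurd (congrArg ULift.down h') (by decide)
  have hC : ∀ x : Coord aU s, 2 * x = 0 → x = 0 := fun x hx => by
    have h' : IsSMulRegular (Coord aU s) (algebraMap U (Coord aU s) 2) :=
      IsSMulRegular.of_flat (IsSMulRegular.of_ne_zero h2U)
    refine h' (?_ : algebraMap U (Coord aU s) 2 • x = algebraMap U (Coord aU s) 2 • 0)
    rw [smul_zero, smul_eq_mul, map_ofNat, hx]
  have hM0 := matOf_isPoint (AlgHom.id U (Coord aU s))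
  exact localize φ.toRingHom hC (fun p => algebraMap U (Coord aU s) (aU p))
    (matOf (AlgHom.id U (Coord aU s))) s ((algebraMap U (Coord aU s)).comp (algebraMap _ U)) d
    (fun p => (φ.commutes _).trans (congrFun haU p)) hφ hM0.isUnit_det hM0.table hM0.det_one
    (hdU.map (algebraMap U (Coord aU s))) (fun p => rfl)

end Generic

end GrothLib.Cliff28
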