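import Groth.Agent.Lib.Cliff28.Reflect
import Groth.Agent.Lib.Cliff28.Universal
import Groth.Agent.Lib.QuadGrp.Coord
import Mathlib.Algebra.Polynomial.AlgebraMap
import Mathlib.RingTheory.Localization.Away.Basic

/-!
# Products of an even number of reflections are joined to the identity
-/

set_option autoImplicit false
set_option linter.style.haveILetI false
set_option linter.unusedSectionVars false

open Matrix GrothLib.QuadHalfDisc GrothLib.QuadTable QuadGrp

namespace GrothLib.Cliff28

universe u v

section ReflMat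

variable {n : ℕ}

/-- The matrix of a reflection: `u` is the inverse of the value at `v`. -/
def reflMat {A : Type*} [CommRing A] (a : Sym2 (Fin n) → A) (v : Fin n → A) (u : A) :
    Matrix (Fin n) (Fin n) A :=
  1 + vecMulVec (-(u • v)) (polarMat a *ᵥ v)

theorem map_reflMat {A B : Type*} [CommRing A] [CommRing B] (f : A →+* B) (a : Sym2 (Fin n) → A)
    (v : Fin n → A) (u : A) :
    (reflMat a v u).map f = reflMat (fun p => f (a p)) (fun i => f (v i)) (f u) := by
  ext i j
  simp only [reflMat, Matrix.map_apply, Matrix.add_apply, vecMulVec_apply, map_add, map_mul,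
    Pi.neg_apply, Pi.smul_apply, smul_eq_mul, map_neg, mulVec, dotProduct, map_sum, ← polarMat_map,
    Matrix.one_apply]
  split_ifs <;> simp

theorem map_formOfTable {A B : Type u} [CommRing A] [CommRing B] (f : A →+* B)
    (a : Sym2 (Fin n) → A) (x : Fin n → A) :
    f (formOfTable a x) = formOfTable (fun p => f (a p)) (fun i => f (x i)) := by
  simp only [formOfTable_apply, map_sum, map_mul, ← triMat_map, Matrix.map_apply]

variable {A : Type u} [CommRing A] {M : Type v} [AddCommGroup M] [Module A M]
  (b : Module.Basis (Fin n) A M) (Q : QuadraticForm A M)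

theorem apply_eq_formOfTable (v : M) :
    Q v = formOfTable (coeffs b (LinearEquiv.refl A A) Q) (b.repr v) := by
  conv_lhs => rw [← b.sum_repr v]
  rw [toBilin_sum, formOfTable_apply]

theorem mulVec_polarMat (v : M) (j : Fin n) :
    (polarMat (coeffs b (LinearEquiv.refl A A) Q) *ᵥ ⇑(b.repr v)) j =
      QuadraticMap.polar Q v (b j) := by
  rw [← toMatrix_polarBilin]
  have e := LinearMap.congr_fun (congrArg (QuadraticMap.polarBilin Q) (b.sum_repr v)) (b j)
  conv_rhs => rw [← QuadraticMap.polarBilin_apply_apply]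
  rw [← e, map_sum, LinearMap.sum_apply, mulVec, dotProduct]
  refine Finset.sum_congr rfl fun k _ => ?_
  rw [map_smul, LinearMap.smul_apply, QuadraticMap.polarBilin_apply_apply, smul_eq_mul,
    LinearMap.toMatrix_apply, Module.Basis.dualBasis_repr, QuadraticMap.polarBilin_apply_apply,
    QuadraticMap.polar_comm, mul_comm]

theorem toMatrix_reflect (v : M) (e : Aˣ) (he : (e : A) = Q v) :
    LinearMap.toMatrix b b (reflect (Q := Q) v e he).toLinearMap =
      reflMat (coeffs b (LinearEquiv.refl A A) Q) (b.repr v) (↑e⁻¹ : A) := by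
  ext i j
  rw [LinearMap.toMatrix_apply, LinearEquiv.coe_coe, reflect_apply, map_sub, map_smul, Finsupp.sub_apply,
    Finsupp.smul_apply, reflMat, Matrix.add_apply, vecMulVec_apply, mulVec_polarMat, b.repr_self,
    Matrix.one_apply, Finsupp.single_apply, Pi.neg_apply, Pi.smul_apply, smul_eq_mul, smul_eq_mul]
  rcases eq_or_ne i j with rfl | h
  · simp; ring
  · simp [h, h.symm]; ring

theorem toMatrix_refl₀ {K : Type u} [Field K] {V : Type v} [AddCommGroup V] [Module K V]
    (c : Module.Basis (Fin n) K V) (P : QuadraticForm K V) (z : V) (hz : P z ≠ 0) :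
    LinearMap.toMatrix c c (refl₀ P z hz).toLinearMap =
      reflMat (coeffs c (LinearEquiv.refl K K) P) (c.repr z) (P z)⁻¹ :=
  (toMatrix_reflect c P z (Units.mk0 _ hz) rfl).trans (by simp)

theorem det_reflMat (a : Sym2 (Fin n) → A) (v : Fin n → A) (u : A) (hu : u * formOfTable a v = 1) :
    (reflMat a v u).det = -1 := by
  let e : Aˣ := ⟨formOfTable a v, u, by rw [mul_comm]; exact hu, hu⟩
  let c := Pi.basisFun A (Fin n)
  have hvv : v ⬝ᵥ (polarMat a *ᵥ v) = 2 * formOfTable a v := by
    have hpol : ∀ j, (polarMat a *ᵥ v) j = QuadraticMap.polar (formOfTable a) v (c j) := fun j => by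
      rw [← mulVec_polarMat c, coeffs_formOfTable]
      rfl
    calc v ⬝ᵥ (polarMat a *ᵥ v) = ∑ j, v j * QuadraticMap.polar (formOfTable a) v (c j) :=
          Finset.sum_congr rfl fun j _ => by rw [hpol]
      _ = QuadraticMap.polarBilin (formOfTable a) v (∑ j, c.repr v j • c j) := by
          simp [map_sum, c]
      _ = _ := by
          rw [c.sum_repr, QuadraticMap.polarBilin_apply_apply, QuadraticMap.polar_self, nsmul_eq_mul]
          simp
  rw [reflMat, vecMulVec_eq Unit, det_one_add_replicateCol_mul_replicateRow, dotProduct_neg,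
    dotProduct_smul, dotProduct_comm, hvv, smul_eq_mul]
  linear_combination (-2) * hu

theorem transform_reflMat (a : Sym2 (Fin n) → A) (v : Fin n → A) (u : A)
    (hu : u * formOfTable a v = 1) : transform a (reflMat a v u) = a := by
  let e : Aˣ := ⟨formOfTable a v, u, by rw [mul_comm]; exact hu, hu⟩
  let c := Pi.basisFun A (Fin n)
  let r := reflect (Q := formOfTable a) v e rfl
  have h := coeffs_comp c (formOfTable a) r.toLinearMap
  rw [show (formOfTable a).comp r.toLinearMap = formOfTable a from
    QuadraticMap.ext fun x => reflect_mem_O v e rfl x, coeffs_formOfTable,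
    toMatrix_reflect c (formOfTable a) v e rfl, coeffs_formOfTable] at h
  exact h.symm

end ReflMat

section Path

open GrothLib.QuadCoord Polynomial

variable {R : Type u} [CommRing R] {n : ℕ} {a : Sym2 (Fin n) → R} {C : Type u} [CommRing C]
  [Algebra R C] (p : Coord a false →ₐ[R] C) {K : Type u} [Field K] [Algebra R K]

/-- Points over a domain lift to `C` when one of their specialisations does. -/
def LiftsOnDomains : Prop :=
  ∀ (A : Type u) [CommRing A] [IsDomain A] [Algebra K A] [Algebra R A] [IsScalarTower R K A]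
    (φ : Coord a false →ₐ[R] A) (ev : A →ₐ[K] K),
    (∃ x : C →ₐ[R] K, x.comp p = (ev.restrictScalars R).comp φ) → ∃ X : C →ₐ[R] A, X.comp p = φ

variable {p}

/-- One step: two reflections are moved into one and the same. -/
theorem val_iff_of_pair (hepi : ∀ x y : C →ₐ[R] K, x.comp p = y.comp p → x = y)
    (hlift : LiftsOnDomains (K := K) p) (val : (C →ₐ[R] K) → Prop)
    (hval : ∀ (A : Type u) [CommRing A] [IsDomain A] [Algebra K A] [Algebra R A] [IsScalarTower R K A]
        (X : C →ₐ[R] A) (e₀ e₁ : A →ₐ[K] K),
        val ((e₀.restrictScalars R).comp X) ↔ val ((e₁.restrictScalars R).comp X))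
    {v w : Fin n → K} (hv : formOfTable (fun q => algebraMap R K (a q)) v ≠ 0)
    (hw : formOfTable (fun q => algebraMap R K (a q)) w ≠ 0) {H : Matrix (Fin n) (Fin n) K}
    (hH : IsPoint a false K H) {x : C →ₐ[R] K}
    (hx : matOf (x.comp p) =
      reflMat (fun q => algebraMap R K (a q)) v (formOfTable (fun q => algebraMap R K (a q)) v)⁻¹ *
        reflMat (fun q => algebraMap R K (a q)) w (formOfTable (fun q => algebraMap R K (a q)) w)⁻¹ * H) :
    ∃ y : C →ₐ[R] K, matOf (y.comp p) = H ∧ (val x ↔ val y) := by
  set aK : Sym2 (Fin n) → K := fun q => algebraMap R K (a q) with haK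
  let vt : Fin n → K[X] := fun i => Polynomial.C (v i) + Polynomial.X * Polynomial.C (w i - v i)
  let aT : Sym2 (Fin n) → K[X] := fun q => Polynomial.C (aK q)
  let q : K[X] := formOfTable aT vt
  have hev : ∀ t : K, q.eval t = formOfTable aK fun i => v i + t * (w i - v i) := fun t => by
    rw [← Polynomial.coe_evalRingHom, map_formOfTable]
    simp [aT, vt]
  have hq0 : q.eval 0 ≠ 0 := by rw [hev]; simpa using hv
  have hq1 : q.eval 1 ≠ 0 := by rw [hev]; simpa using hw
  have hq : q ≠ 0 := fun h => hq0 (by rw [h, eval_zero])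
  let A := Localization.Away q
  haveI : IsDomain A :=
    IsLocalization.isDomain_of_le_nonZeroDivisors A (powers_le_nonZeroDivisors_of_noZeroDivisors hq)
  have mkEv : ∀ t : K, q.eval t ≠ 0 →
      ∃ ev : A →ₐ[K] K, ∀ f : K[X], ev (algebraMap K[X] A f) = f.eval t := fun t ht => by
    refine ⟨IsLocalization.liftAlgHom (M := Submonoid.powers q) (f := Polynomial.aeval t) (fun y => ?_),
      fun f => by simp [IsLocalization.lift_eq]⟩
    obtain ⟨k, hk⟩ := y.2
    rw [← hk, map_pow, Polynomial.coe_aeval_eq_eval]
    exact (isUnit_iff_ne_zero.mpr ht).pow k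
  obtain ⟨e₀, he₀⟩ := mkEv 0 hq0
  obtain ⟨e₁, he₁⟩ := mkEv 1 hq1
  let aA : Sym2 (Fin n) → A := fun q => algebraMap R A (a q)
  have haA : aA = fun q => algebraMap K A (aK q) :=
    funext fun q => IsScalarTower.algebraMap_apply R K A _
  let vA : Fin n → A := fun i => algebraMap K[X] A (vt i)
  let wA : Fin n → A := fun i => algebraMap K A (w i)
  obtain ⟨uv, huv⟩ := (IsLocalization.Away.algebraMap_isUnit (S := A) q).exists_left_inv
  let uw : A := algebraMap K A (formOfTable aK w)⁻¹
  have hvA : formOfTable aA vA = algebraMap K[X] A q := by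
    rw [map_formOfTable, haA]
    rfl
  have huv' : uv * formOfTable aA vA = 1 := by rw [hvA]; exact huv
  have huw' : uw * formOfTable aA wA = 1 := by
    rw [haA, ← map_formOfTable, ← map_mul, inv_mul_cancel₀ hw, map_one]
  let GA := reflMat aA vA uv * reflMat aA wA uw * H.map (algebraMap K A)
  have hHA : transform aA (H.map (algebraMap K A)) = aA := by
    rw [haA]; exact table_map _ hH.table
  have hGA : IsPoint a false A GA := by
    refine ⟨?_, ?_, fun h => absurd h Bool.false_ne_true⟩
    · rw [det_mul, det_mul, det_reflMat _ _ _ huv', det_reflMat _ _ _ huw', neg_mul_neg, one_mul,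
        one_mul, ← RingHom.mapMatrix_apply, ← RingHom.map_det]
      exact hH.isUnit_det.map _
    · change transform aA GA = aA
      rw [transform_mul, transform_mul, transform_reflMat _ _ _ huv', transform_reflMat _ _ _ huw', hHA]
  obtain ⟨φ, hφ⟩ := exists_matOf hGA
  have hspec : ∀ (ev : A →ₐ[K] K) (v' : Fin n → K), (∀ i, ev (vA i) = v' i) →
      matOf ((ev.restrictScalars R).comp φ) =
        reflMat aK v' (formOfTable aK v')⁻¹ * reflMat aK w (formOfTable aK w)⁻¹ * H := by
    intro ev v' hv'
    rw [matOf_comp, hφ]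
    change GA.map (ev : A →+* K) = _
    have hev' : ∀ k, ev (algebraMap K A k) = k := fun k => by simp
    have haev : (fun q => (ev : A →+* K) (aA q)) = aK := by
      funext q; rw [haA]; exact hev' _
    rw [Matrix.map_mul, Matrix.map_mul, map_reflMat, map_reflMat, haev,
      show (fun i => (ev : A →+* K) (vA i)) = v' from funext hv',
      show (fun i => (ev : A →+* K) (wA i)) = w from funext fun i => hev' _]
    congr 1
    · congr 2
      · refine eq_inv_of_mul_eq_one_left ?_
        have := congrArg (ev : A →+* K) huv'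
        rw [map_mul, map_formOfTable, haev, show (fun i => (ev : A →+* K) (vA i)) = v' from funext hv',
          map_one] at this
        exact this
      · exact hev' _
    · ext i j
      exact hev' _
  have h0 := hspec e₀ v fun i => by rw [he₀]; simp [vt]
  have h1 := hspec e₁ w fun i => by rw [he₁]; simp [vt]
  obtain ⟨X, hX⟩ := hlift A φ e₀ ⟨x, matOf_injective (hx.trans h0.symm)⟩
  have hx' : x = (e₀.restrictScalars R).comp X := hepi _ _ <| by
    rw [AlgHom.comp_assoc, hX]; exact matOf_injective (hx.trans h0.symm)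
  refine ⟨(e₁.restrictScalars R).comp X, ?_, hx' ▸ hval A X e₀ e₁⟩
  rw [AlgHom.comp_assoc, hX, h1]
  -- the reflection is an involution
  let c := Pi.basisFun K (Fin n)
  have hr := toMatrix_refl₀ c (formOfTable aK) w hw
  rw [coeffs_formOfTable] at hr
  rw [show reflMat aK w (formOfTable aK w)⁻¹ =
    LinearMap.toMatrix c c (reflect (Q := formOfTable aK) w (Units.mk0 _ hw) rfl).toLinearMap from hr.symm,
    ← LinearMap.toMatrix_comp, ← LinearEquiv.coe_trans]
  have e : (reflect (Q := formOfTable aK) w (Units.mk0 _ hw) rfl).trans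
      (reflect (Q := formOfTable aK) w (Units.mk0 _ hw) rfl) = LinearEquiv.refl K _ :=
    refl₀_refl₀ (formOfTable aK) w hw
  rw [e, LinearEquiv.refl_toLinearMap, LinearMap.toMatrix_id, Matrix.one_mul]

variable [Algebra.FiniteType R C]

/-- Products of an even number of reflections are joined to the identity. -/
theorem val_iff_of_reflProd (hepi : ∀ x y : C →ₐ[R] K, x.comp p = y.comp p → x = y)
    (hlift : LiftsOnDomains (K := K) p) (val : (C →ₐ[R] K) → Prop)
    (hval : ∀ (A : Type u) [CommRing A] [IsDomain A] [Algebra K A] [Algebra R A] [IsScalarTower R K A]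
        (X : C →ₐ[R] A) (e₀ e₁ : A →ₐ[K] K),
        val ((e₀.restrictScalars R).comp X) ↔ val ((e₁.restrictScalars R).comp X))
    {V : Type v} [AddCommGroup V] [Module K V] (b : Module.Basis (Fin n) K V) {Q : QuadraticForm K V}
    (hb : coeffs b (LinearEquiv.refl K K) Q = fun q => algebraMap R K (a q))
    {x₀ : C →ₐ[R] K} (hx₀ : matOf (x₀.comp p) = 1) :
    ∀ (k : ℕ) (g : V ≃ₗ[K] V), ReflProd Q g k → Even k → ∀ x : C →ₐ[R] K,
      matOf (x.comp p) = LinearMap.toMatrix b b g.toLinearMap → (val x ↔ val x₀) := by
  intro k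
  induction k using Nat.strong_induction_on with
  | _ k ih =>
  intro g hg hk x hx
  cases hg with
  | one =>
    rw [LinearEquiv.refl_toLinearMap, LinearMap.toMatrix_id, ← hx₀] at hx
    rw [hepi x x₀ (matOf_injective hx)]
  | cons v hv g₁ k₁ hg₁ =>
    cases hg₁ with
    | one => exact absurd hk Nat.not_even_one
    | cons w hw h j hh =>
      have key : ∀ (z : V) (hz : Q z ≠ 0), LinearMap.toMatrix b b (refl₀ Q z hz).toLinearMap =
          reflMat (fun q => algebraMap R K (a q)) (b.repr z)
            (formOfTable (fun q => algebraMap R K (a q)) (b.repr z))⁻¹ := fun z hz => by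
        rw [toMatrix_refl₀, hb, apply_eq_formOfTable b Q z, hb]
      have hne : ∀ (z : V), Q z ≠ 0 → formOfTable (fun q => algebraMap R K (a q)) (b.repr z) ≠ 0 :=
        fun z hz => by rwa [← hb, ← apply_eq_formOfTable b]
      have hH : IsPoint a false K (LinearMap.toMatrix b b h.toLinearMap) := by
        refine ⟨by rw [LinearMap.det_toMatrix]; exact LinearEquiv.isUnit_det' h, ?_,
          fun h' => absurd h' Bool.false_ne_true⟩
        rw [← hb, ← coeffs_comp, show Q.comp h.toLinearMap = Q from QuadraticMap.ext hh.mem_O]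
      rw [LinearEquiv.coe_trans, LinearEquiv.coe_trans, LinearMap.toMatrix_comp b b b,
        LinearMap.toMatrix_comp b b b, key v hv, key w hw, ← Matrix.mul_assoc] at hx
      obtain ⟨y, hy, hiff⟩ := val_iff_of_pair hepi hlift val hval (hne v hv) (hne w hw) hH hx
      refine hiff.trans (ih j (by omega) h hh ?_ y hy)
      obtain ⟨r, hr⟩ := hk
      exact ⟨r - 1, by omega⟩

theorem det_of_reflProd {V : Type v} [AddCommGroup V] [Module K V] (b : Module.Basis (Fin n) K V)
    {Q : QuadraticForm K V} {g : V ≃ₗ[K] V} {k : ℕ} (hg : ReflProd Q g k) :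
    LinearMap.det g.toLinearMap = (-1) ^ k := by
  induction hg with
  | one => simp
  | cons v hv g k _ ih =>
    rw [LinearEquiv.coe_trans, LinearMap.det_comp, ih, pow_succ', ← LinearMap.det_toMatrix b,
      toMatrix_refl₀, det_reflMat]
    rw [← apply_eq_formOfTable b, inv_mul_cancel₀ hv]

end Path

end GrothLib.Cliff28
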