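import Groth.Agent.Lib.Cliff28.EvenLocal
import Mathlib.FieldTheory.IsAlgClosed.Basic
import Mathlib.LinearAlgebra.FiniteDimensional.Lemmas

/-!
# Isometries are products of reflections over an algebraically closed field
-/

set_option autoImplicit false
set_option linter.unusedSectionVars false

open QuadraticMap

namespace GrothLib.Cliff28

universe u v

variable {K : Type u} [Field K]

/-- The reflection in a vector of non-zero value. -/
noncomputable def refl₀ {V : Type v} [AddCommGroup V] [Module K V] (Q : QuadraticForm K V) (a : V)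
    (h : Q a ≠ 0) : V ≃ₗ[K] V :=
  reflect (Q := Q) a (Units.mk0 (Q a) h) rfl

section Basic

variable {V : Type v} [AddCommGroup V] [Module K V] (Q : QuadraticForm K V)

theorem refl₀_apply (a : V) (h : Q a ≠ 0) (v : V) :
    refl₀ Q a h v = v - ((Q a)⁻¹ * polar Q a v) • a := by
  rw [show refl₀ Q a h v = _ from reflect_apply (Q := Q) a (Units.mk0 (Q a) h) rfl v,
    Units.val_inv_eq_inv_val, Units.val_mk0]

theorem refl₀_mem_O (a : V) (h : Q a ≠ 0) : refl₀ Q a h ∈ QuadGrp.O Q := reflect_mem_O _ _ _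

theorem refl₀_refl₀ (a : V) (h : Q a ≠ 0) : (refl₀ Q a h).trans (refl₀ Q a h) = LinearEquiv.refl K V :=
  LinearEquiv.ext fun v => (refl₀ Q a h).apply_eq_iff_eq_symm_apply.mpr rfl

/-- Products of reflections, with their number. -/
inductive ReflProd : (V ≃ₗ[K] V) → ℕ → Prop
  | one : ReflProd (LinearEquiv.refl K V) 0
  | cons (a : V) (h : Q a ≠ 0) (g : V ≃ₗ[K] V) (k : ℕ) :
      ReflProd g k → ReflProd (g.trans (refl₀ Q a h)) (k + 1)

variable {Q}

theorem ReflProd.mem_O {g : V ≃ₗ[K] V} {k : ℕ} (hg : ReflProd Q g k) : g ∈ QuadGrp.O Q := by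
  induction hg with
  | one => exact fun v => rfl
  | cons a h g k _ ih => exact fun v => (refl₀_mem_O Q a h (g v)).trans (ih v)

theorem exists_reflProd_of_trans (a : V) (h : Q a ≠ 0) {g : V ≃ₗ[K] V}
    (hg : ∃ k, ReflProd Q (g.trans (refl₀ Q a h)) k) : ∃ k, ReflProd Q g k := by
  obtain ⟨k, hk⟩ := hg
  have := ReflProd.cons a h _ k hk
  rw [LinearEquiv.trans_assoc, refl₀_refl₀, LinearEquiv.trans_refl] at this
  exact ⟨k + 1, this⟩

theorem trans_mem_O (a : V) (h : Q a ≠ 0) {g : V ≃ₗ[K] V} (hg : g ∈ QuadGrp.O Q) :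
    g.trans (refl₀ Q a h) ∈ QuadGrp.O Q := fun v => (refl₀_mem_O Q a h (g v)).trans (hg v)

theorem polar_map_of_mem_O {g : V ≃ₗ[K] V} (hg : g ∈ QuadGrp.O Q) (v w : V) :
    polar Q (g v) (g w) = polar Q v w := by
  simp only [QuadraticMap.polar, ← map_add, hg v, hg w, hg (v + w)]

/-- No non-zero singular vector is orthogonal to everything. -/
def NoSingRadical (Q : QuadraticForm K V) : Prop :=
  ∀ v, (∀ w, polar Q v w = 0) → Q v = 0 → v = 0

end Basic

variable [IsAlgClosed K]

section Choice

variable {V : Type v} [AddCommGroup V] [Module K V] {Q : QuadraticForm K V}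

theorem exists_nonzero_two (f f' : V →ₗ[K] K) (hf : f ≠ 0) (hf' : f' ≠ 0) :
    ∃ x, f x ≠ 0 ∧ f' x ≠ 0 := by
  obtain ⟨x, hx⟩ : ∃ x, f x ≠ 0 := by
    by_contra h; push Not at h; exact hf (LinearMap.ext h)
  obtain ⟨y, hy⟩ : ∃ y, f' y ≠ 0 := by
    by_contra h; push Not at h; exact hf' (LinearMap.ext h)
  by_cases h1 : f' x ≠ 0
  · exact ⟨x, hx, h1⟩
  by_cases h2 : f y ≠ 0
  · exact ⟨y, h2, hy⟩
  push Not at h1 h2
  exact ⟨x + y, by rw [map_add, h2, add_zero]; exact hx, by rw [map_add, h1, zero_add]; exact hy⟩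

theorem exists_anisotropic (f f' : V →ₗ[K] K) {c d : V} (hc : f c ≠ 0) (hc' : f' c ≠ 0) (hd : Q d ≠ 0) :
    ∃ t : K, Q (c + t • d) ≠ 0 ∧ f (c + t • d) ≠ 0 ∧ f' (c + t • d) ≠ 0 := by
  classical
  haveI : Infinite K := IsAlgClosed.instInfinite
  let p : Polynomial K := Polynomial.C (Q d) * Polynomial.X ^ 2 + Polynomial.C (polar Q c d) * Polynomial.X +
    Polynomial.C (Q c)
  let l : Polynomial K := Polynomial.C (f d) * Polynomial.X + Polynomial.C (f c)
  let l' : Polynomial K := Polynomial.C (f' d) * Polynomial.X + Polynomial.C (f' c)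
  have hp : p ≠ 0 := fun h => hd (by simpa [p] using congrArg (fun q => Polynomial.coeff q 2) h)
  have hl : l ≠ 0 := fun h => hc (by simpa [l] using congrArg (fun q => Polynomial.coeff q 0) h)
  have hl' : l' ≠ 0 := fun h => hc' (by simpa [l'] using congrArg (fun q => Polynomial.coeff q 0) h)
  obtain ⟨t, ht⟩ : ∃ t, Polynomial.eval t (p * (l * l')) ≠ 0 := by
    by_contra h
    push Not at h
    exact mul_ne_zero hp (mul_ne_zero hl hl')
      (Polynomial.funext fun t => by rw [h t, Polynomial.eval_zero])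
  simp only [Polynomial.eval_mul, mul_ne_zero_iff] at ht
  obtain ⟨h1, h2, h3⟩ := ht
  refine ⟨t, ?_, ?_, ?_⟩
  · intro h0
    refine h1 ?_
    rw [QuadraticMap.map_add Q, QuadraticMap.map_smul, polar_smul_right, smul_eq_mul, smul_eq_mul] at h0
    simp [p]
    linear_combination h0
  · intro h0; refine h2 ?_; simp [l]; rw [map_add, map_smul, smul_eq_mul] at h0; linear_combination h0
  · intro h0; refine h3 ?_; simp [l']; rw [map_add, map_smul, smul_eq_mul] at h0; linear_combination h0

theorem exists_pair [Module.Finite K V] (hN : NoSingRadical Q) (hV : 2 ≤ Module.finrank K V) :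
    ∃ a b, Q a = 1 ∧ Q b = 0 ∧ polar Q a b = 1 := by
  obtain ⟨x, y, hxy⟩ : ∃ x y : V, LinearIndependent K ![x, y] := by
    let e := Module.finBasis K V
    refine ⟨e ⟨0, by omega⟩, e ⟨1, by omega⟩, ?_⟩
    have := e.linearIndependent.comp ![(⟨0, by omega⟩ : Fin (Module.finrank K V)), ⟨1, by omega⟩]
      (by intro i j h; fin_cases i <;> fin_cases j <;> simp_all)
    convert this using 1
    ext i; fin_cases i <;> rfl
  obtain ⟨u, hu0, hu⟩ : ∃ u, u ≠ 0 ∧ Q u = 0 := by
    by_cases hx : Q x = 0
    · exact ⟨x, hxy.ne_zero 0, hx⟩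
    obtain ⟨t, ht⟩ := IsAlgClosed.exists_root
      (Polynomial.C (Q x) * Polynomial.X ^ 2 + Polynomial.C (polar Q x y) * Polynomial.X + Polynomial.C (Q y))
      (by rw [Polynomial.degree_quadratic hx]; decide)
    simp only [Polynomial.IsRoot.def, Polynomial.eval_add, Polynomial.eval_mul, Polynomial.eval_C,
      Polynomial.eval_pow, Polynomial.eval_X] at ht
    refine ⟨t • x + y, fun h => ?_, ?_⟩
    · have := LinearIndependent.pair_iff.mp hxy t 1 (by rwa [one_smul])
      exact one_ne_zero this.2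
    · rw [QuadraticMap.map_add Q, QuadraticMap.map_smul, polar_smul_left, smul_eq_mul, smul_eq_mul]
      linear_combination ht
  obtain ⟨w, hw⟩ : ∃ w, polar Q u w ≠ 0 := by
    by_contra h; push Not at h; exact hu0 (hN u h hu)
  let w₁ := (polar Q u w)⁻¹ • w
  have hw₁ : polar Q u w₁ = 1 := by simp [w₁, polar_smul_right, inv_mul_cancel₀ hw]
  let w₂ := w₁ + (-Q w₁) • u
  have hw₂ : polar Q u w₂ = 1 := by simp [w₂, polar_add_right, polar_smul_right, hu, hw₁]
  have hQw₂ : Q w₂ = 0 := by
    simp [w₂, QuadraticMap.map_add Q, QuadraticMap.map_smul, polar_smul_right, hu, polar_comm Q w₁ u, hw₁]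
  refine ⟨u + w₂, w₂, ?_, hQw₂, ?_⟩
  · rw [QuadraticMap.map_add Q, hu, hQw₂, hw₂]; simp
  · rw [polar_add_left, hw₂, QuadraticMap.polar_self, hQw₂]; simp

theorem exists_fix_pair {a b : V} (hNa : Q a = 1) (hb : Q b = 0) (hab : polar Q a b = 1)
    {g : V ≃ₗ[K] V} (hg : g ∈ QuadGrp.O Q)
    (H : ∀ g' : V ≃ₗ[K] V, g' ∈ QuadGrp.O Q → g' a = a → g' b = b → ∃ k, ReflProd Q g' k) :
    ∃ k, ReflProd Q g k := by
  have haa : polar Q a a = 2 := by rw [QuadraticMap.polar_self, hNa]; simp
  have hbb : polar Q b b = 0 := by rw [QuadraticMap.polar_self, hb]; simp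
  have hba : polar Q b a = 1 := by rw [polar_comm, hab]
  -- second step
  have step2 : ∀ g' : V ≃ₗ[K] V, g' ∈ QuadGrp.O Q → g' a = a → ∃ k, ReflProd Q g' k := by
    intro g' hg' hga
    have hw1 : polar Q a (g' b) = 1 := by
      calc polar Q a (g' b) = polar Q (g' a) (g' b) := by rw [hga]
        _ = 1 := by rw [polar_map_of_mem_O hg', hab]
    have hQw : Q (g' b) = 0 := by rw [hg', hb]
    have hQc : Q (g' b - b) = -polar Q (g' b) b := by
      rw [sub_eq_add_neg, QuadraticMap.map_add Q, QuadraticMap.map_neg, QuadraticMap.polar_neg_right, hQw, hb]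
      ring
    have fix_a : ∀ c (hc : Q c ≠ 0), polar Q c a = 0 → refl₀ Q c hc a = a := fun c hc h => by
      rw [refl₀_apply, h, mul_zero, zero_smul, sub_zero]
    have step3 : ∀ g'' : V ≃ₗ[K] V, g'' ∈ QuadGrp.O Q → g'' a = a → polar Q (g'' b) b ≠ 0 →
        ∃ k, ReflProd Q g'' k := by
      intro g'' hg'' hga' hne
      have hQw' : Q (g'' b) = 0 := by rw [hg'', hb]
      have hQc' : Q (g'' b - b) = -polar Q (g'' b) b := by
        rw [sub_eq_add_neg, QuadraticMap.map_add Q, QuadraticMap.map_neg, QuadraticMap.polar_neg_right, hQw', hb]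
        ring
      have hca : polar Q (g'' b - b) a = 0 := by
        calc polar Q (g'' b - b) a = polar Q (g'' b) (g'' a) - polar Q b a := by
              rw [polar_sub_left, hga']
          _ = 0 := by rw [polar_map_of_mem_O hg'', sub_self]
      have hc0 : Q (g'' b - b) ≠ 0 := by rw [hQc']; exact neg_ne_zero.mpr hne
      have hcw : polar Q (g'' b - b) (g'' b) = Q (g'' b - b) := by
        rw [hQc', polar_sub_left, QuadraticMap.polar_self, hQw', polar_comm Q b (g'' b)]
        simp
      refine exists_reflProd_of_trans _ hc0 (H _ (trans_mem_O _ hc0 hg'') ?_ ?_)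
      · rw [LinearEquiv.trans_apply, hga', fix_a _ hc0 hca]
      · rw [LinearEquiv.trans_apply, refl₀_apply, hcw, inv_mul_cancel₀ hc0, one_smul, sub_sub_cancel]
    by_cases hwb : g' b = b
    · exact H g' hg' hga hwb
    by_cases h0 : polar Q (g' b) b = 0
    swap
    · exact step3 g' hg' hga h0
    -- move by an auxiliary reflection fixing `a`
    let P := LinearMap.ker (Q.polarBilin a)
    have nz : ∀ x, polar Q a x = 1 → Q x = 0 → (Q.polarBilin x).comp P.subtype ≠ 0 := by
      intro x hax hQx h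
      have key : ∀ v, polar Q x v = polar Q a v * polar Q x x := fun v => by
        have hmem : v - polar Q a v • x ∈ P := by
          simp [P, polar_sub_right, polar_smul_right, hax]
        have := LinearMap.congr_fun h ⟨_, hmem⟩
        simp only [LinearMap.comp_apply, Submodule.subtype_apply, LinearMap.zero_apply,
          polarBilin_apply_apply, polar_sub_right, polar_smul_right, smul_eq_mul, sub_eq_zero] at this
        exact this
      have h1 := key a
      rw [polar_comm Q x a, hax, QuadraticMap.polar_self Q x, hQx] at h1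
      simp at h1
    obtain ⟨⟨c₁, hc₁⟩, hc1, hc1'⟩ := exists_nonzero_two _ _ (nz b hab hb) (nz (g' b) hw1 hQw)
    have hd : polar Q a (a - (2 : K) • b) = 0 := by
      rw [polar_sub_right, polar_smul_right, haa, hab]; simp
    have hQd : Q (a - (2 : K) • b) ≠ 0 := by
      rw [sub_eq_add_neg, ← neg_smul, QuadraticMap.map_add Q, QuadraticMap.map_smul, polar_smul_right, hNa, hb, hab]
      norm_num
    obtain ⟨t, ht0, ht1, ht2⟩ := exists_anisotropic (Q.polarBilin b) (Q.polarBilin (g' b)) (c := c₁)
      (d := a - (2 : K) • b) hc1 hc1' hQd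
    set c := c₁ + t • (a - (2 : K) • b) with hcdef
    have hca : polar Q c a = 0 := by
      have h1 : polar Q a c₁ = 0 := hc₁
      rw [hcdef, polar_comm, polar_add_right, polar_smul_right, h1, hd]; simp
    refine exists_reflProd_of_trans c ht0 (step3 _ (trans_mem_O _ ht0 hg') ?_ ?_)
    · rw [LinearEquiv.trans_apply, hga, fix_a c ht0 hca]
    · rw [LinearEquiv.trans_apply, refl₀_apply, polar_sub_left, polar_smul_left, h0, zero_sub, neg_ne_zero,
        smul_eq_mul]
      simp only [polarBilin_apply_apply] at ht1 ht2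
      exact mul_ne_zero (mul_ne_zero (inv_ne_zero ht0) (by rwa [polar_comm])) (by rwa [polar_comm])
  -- first step
  have step1 : ∀ g' : V ≃ₗ[K] V, g' ∈ QuadGrp.O Q → Q (g' a - a) ≠ 0 → ∃ k, ReflProd Q g' k := by
    intro g' hg' hc0
    have hQga : Q (g' a) = 1 := by rw [hg', hNa]
    have hcw : polar Q (g' a - a) (g' a) = Q (g' a - a) := by
      rw [polar_sub_left, QuadraticMap.polar_self, hQga, sub_eq_add_neg (g' a) a, QuadraticMap.map_add Q,
        QuadraticMap.map_neg, QuadraticMap.polar_neg_right, hQga, hNa, polar_comm Q (g' a) a]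
      simp
      ring
    refine exists_reflProd_of_trans _ hc0 (step2 _ (trans_mem_O _ hc0 hg') ?_)
    rw [LinearEquiv.trans_apply, refl₀_apply, hcw, inv_mul_cancel₀ hc0, one_smul, sub_sub_cancel]
  by_cases hga : g a = a
  · exact step2 g hg hga
  by_cases h0 : Q (g a - a) = 0
  swap
  · exact step1 g hg h0
  have hgab : polar Q (g a) (g b) = 1 := by rw [polar_map_of_mem_O hg, hab]
  obtain ⟨c₁, hc1, hc1'⟩ := exists_nonzero_two (Q.polarBilin a) (Q.polarBilin (g a))
    (fun h => one_ne_zero (hab.symm.trans (LinearMap.congr_fun h b)))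
    (fun h => one_ne_zero (hgab.symm.trans (LinearMap.congr_fun h (g b))))
  obtain ⟨t, ht0, ht1, ht2⟩ := exists_anisotropic (Q.polarBilin a) (Q.polarBilin (g a)) (c := c₁) (d := a)
    hc1 hc1' (by rw [hNa]; exact one_ne_zero)
  refine exists_reflProd_of_trans (c₁ + t • a) ht0 (step1 _ (trans_mem_O _ ht0 hg) ?_)
  simp only [polarBilin_apply_apply] at ht1 ht2
  set c := c₁ + t • a
  have hpa : polar Q (g a) a = 2 := by
    rw [sub_eq_add_neg, QuadraticMap.map_add Q, QuadraticMap.map_neg, QuadraticMap.polar_neg_right, hg, hNa] at h0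
    linear_combination -h0
  rw [LinearEquiv.trans_apply, refl₀_apply, sub_right_comm, sub_eq_add_neg, ← neg_smul,
    QuadraticMap.map_add Q, QuadraticMap.map_smul, polar_smul_right, h0, polar_sub_left, polar_comm Q a c,
    polar_comm Q (g a) c]
  have key : (-((Q c)⁻¹ * polar Q c (g a)) * -((Q c)⁻¹ * polar Q c (g a))) • Q c + 0 +
      0 = ((Q c)⁻¹ * polar Q c (g a)) * polar Q c (g a) := by
    rw [smul_eq_mul, add_zero, add_zero]
    field_simp
  intro hz
  refine mul_ne_zero (mul_ne_zero (inv_ne_zero ht0)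
    (show polar Q c (g a) ≠ 0 by rwa [polar_comm])) (show polar Q c a ≠ 0 by rwa [polar_comm]) ?_
  simp only [smul_eq_mul] at hz key
  linear_combination hz - key

end Choice

/-- Every isometry is a product of reflections. -/
theorem exists_reflProd : ∀ (n : ℕ) {V : Type v} [AddCommGroup V] [Module K V] [Module.Finite K V]
    (Q : QuadraticForm K V), Module.finrank K V = n → NoSingRadical Q →
    ∀ g ∈ QuadGrp.O Q, ∃ k, ReflProd Q g k := by
  intro n
  induction n using Nat.strong_induction_on with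
  | _ n ih =>
  intro V _ _ _ Q hV hN g hg
  rcases Nat.lt_or_ge n 2 with hn | hn
  · interval_cases n
    · haveI : Subsingleton V := Module.finrank_zero_iff.mp hV
      exact ⟨0, by rw [show g = LinearEquiv.refl K V from LinearEquiv.ext fun v => Subsingleton.elim _ _]; exact .one⟩
    · obtain ⟨e, he0, he⟩ := finrank_eq_one_iff'.mp hV
      have hQe : Q e ≠ 0 := fun h => he0 (hN e (fun w => by
        obtain ⟨c, rfl⟩ := he w
        rw [polar_smul_right, QuadraticMap.polar_self, h, nsmul_zero, smul_zero]) h)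
      obtain ⟨l, hl⟩ := he (g e)
      have hl2 : l * l = 1 := by
        have := hg e
        rw [← hl, QuadraticMap.map_smul, smul_eq_mul] at this
        exact mul_right_cancel₀ hQe (this.trans (one_mul _).symm)
      rcases mul_self_eq_one_iff.mp hl2 with rfl | rfl
      · refine ⟨0, ?_⟩
        rw [show g = LinearEquiv.refl K V from LinearEquiv.ext fun v => ?_]
        · exact .one
        obtain ⟨c, rfl⟩ := he v
        rw [map_smul, ← hl, one_smul]; rfl
      · refine ⟨1, ?_⟩
        rw [show g = (LinearEquiv.refl K V).trans (refl₀ Q e hQe) from LinearEquiv.ext fun v => ?_]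
        · exact .cons e hQe _ 0 .one
        obtain ⟨c, rfl⟩ := he v
        rw [LinearEquiv.trans_apply, LinearEquiv.refl_apply, map_smul, ← hl, refl₀_apply, polar_smul_right,
          QuadraticMap.polar_self, nsmul_eq_mul, Nat.cast_ofNat, smul_eq_mul, neg_one_smul, smul_neg,
          show (Q e)⁻¹ * (c * (2 * Q e)) = 2 * c by field_simp]
        module
  · obtain ⟨a, b, ha, hb, hab⟩ := exists_pair hN (hV ▸ hn)
    refine exists_fix_pair ha hb hab hg fun g' hg' hga hgb => ?_
    let W : Submodule K V := LinearMap.ker (Q.polarBilin a) ⊓ LinearMap.ker (Q.polarBilin b)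
    let p : V → V := fun v => v - polar Q b v • a - (polar Q a v - 2 * polar Q b v) • b
    have hp : ∀ v, p v ∈ W := fun v => by
      refine ⟨?_, ?_⟩ <;>
        simp [p, polar_sub_right, polar_smul_right, QuadraticMap.polar_self, ha, hb, hab, polar_comm Q b a] <;>
        ring
    have hW : Module.finrank K W < n := by
      rw [← hV]
      refine Submodule.finrank_lt fun h => ?_
      have h' : a ∈ W := h ▸ Submodule.mem_top
      have h2 : polar Q b a = 0 := h'.2
      rw [polar_comm, hab] at h2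
      exact one_ne_zero h2
    have hNW : NoSingRadical (Q.comp W.subtype) := fun k hk hQk => Subtype.ext (hN k (fun v => by
      have h1 : polar Q (k : V) (p v) = 0 := hk ⟨p v, hp v⟩
      have h2 : polar Q (k : V) a = 0 := (polar_comm Q _ _).trans k.2.1
      have h3 : polar Q (k : V) b = 0 := (polar_comm Q _ _).trans k.2.2
      simpa [p, polar_sub_right, polar_smul_right, h2, h3] using h1) hQk)
    have hmem : ∀ (f : V ≃ₗ[K] V), f ∈ QuadGrp.O Q → f a = a → f b = b → ∀ k ∈ W, f k ∈ W := by
      intro f hf hfa hfb k hk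
      refine ⟨?_, ?_⟩
      · calc polar Q a (f k) = polar Q (f a) (f k) := by rw [hfa]
          _ = 0 := by rw [polar_map_of_mem_O hf]; exact hk.1
      · calc polar Q b (f k) = polar Q (f b) (f k) := by rw [hfb]
          _ = 0 := by rw [polar_map_of_mem_O hf]; exact hk.2
    let gW : W ≃ₗ[K] W :=
      { toFun := fun k => ⟨g' k, hmem g' hg' hga hgb k k.2⟩
        invFun := fun k => ⟨g'.symm k, hmem g'.symm ((QuadGrp.O Q).inv_mem hg')
          (by rw [LinearEquiv.symm_apply_eq, hga]) (by rw [LinearEquiv.symm_apply_eq, hgb]) k k.2⟩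
        map_add' := fun x y => Subtype.ext (map_add g' _ _)
        map_smul' := fun c x => Subtype.ext (map_smul g' _ _)
        left_inv := fun x => Subtype.ext (g'.symm_apply_apply _)
        right_inv := fun x => Subtype.ext (g'.apply_symm_apply _) }
    obtain ⟨k, hk⟩ := ih _ hW (Q.comp W.subtype) rfl hNW gW fun x => hg' x
    have hext : ∀ {f : W ≃ₗ[K] W} {j : ℕ}, ReflProd (Q.comp W.subtype) f j →
        ∃ F, ReflProd Q F j ∧ F a = a ∧ F b = b ∧ ∀ x : W, F x = (f x : V) := by
      intro f j hf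
      induction hf with
      | one => exact ⟨_, .one, rfl, rfl, fun x => rfl⟩
      | cons c hc f j _ ihf =>
        obtain ⟨F, hF, hFa, hFb, hFx⟩ := ihf
        have hc' : Q (c : V) ≠ 0 := hc
        refine ⟨F.trans (refl₀ Q (c : V) hc'), ReflProd.cons (c : V) hc' F j hF, ?_, ?_, fun x => ?_⟩
        · rw [LinearEquiv.trans_apply, hFa, refl₀_apply, show polar Q (c : V) a = 0 from (polar_comm Q _ _).trans c.2.1,
            mul_zero, zero_smul, sub_zero]
        · rw [LinearEquiv.trans_apply, hFb, refl₀_apply, show polar Q (c : V) b = 0 from (polar_comm Q _ _).trans c.2.2,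
            mul_zero, zero_smul, sub_zero]
        · rw [LinearEquiv.trans_apply, hFx, LinearEquiv.trans_apply, refl₀_apply, refl₀_apply]
          rfl
    obtain ⟨F, hF, hFa, hFb, hFx⟩ := hext hk
    refine ⟨k, ?_⟩
    rw [show g' = F from LinearEquiv.ext fun v => ?_]
    · exact hF
    have hv : v = polar Q b v • a + (polar Q a v - 2 * polar Q b v) • b + ((⟨p v, hp v⟩ : W) : V) := by
      simp [p]
    rw [hv]
    simp only [map_add, map_smul, hga, hgb, hFa, hFb]
    congr 1
    exact (hFx ⟨p v, hp v⟩).symm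

end GrothLib.Cliff28
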