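import Groth.Agent.Lib.Cliff28.Odd
import Mathlib.LinearAlgebra.QuadraticForm.Radical
import Mathlib.RingTheory.LocalRing.ResidueField.Ideal

/-!
# Semiregularity over a field is non-degeneracy
-/

set_option autoImplicit false
set_option linter.unusedSectionVars false

open QuadraticMap QuadGrp GrothLib.QuadHalfDisc Matrix

namespace GrothLib.Cliff28

universe u v

theorem hd_ne_zero_iff {k : Type u} [Field k] {V : Type v} [AddCommGroup V] [Module k V] (m : ℕ)
    (b : Module.Basis (Fin (2 * m + 1)) k V) (Q : QuadraticForm k V) :
    IsUnit (halfDisc b (LinearEquiv.refl k k) Q) ↔ Q.Nondegenerate := by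
  classical
  have hn : Odd (2 * m + 1) := odd_two_mul_add_one m
  haveI : Module.Finite k V := Module.Finite.of_basis b
  by_cases hker : LinearMap.ker Q.polarBilin = ⊥
  · have hbij : Function.Bijective Q.polarBilin := by
      have hinj := LinearMap.ker_eq_bot.mp hker
      exact ⟨hinj, (LinearMap.injective_iff_surjective_of_finrank_eq_finrank
        Subspace.dual_finrank_eq.symm).mp hinj⟩
    have hdet := (isRegular_iff_isUnit_det b Q).mp hbij
    rw [← two_mul_hd hn] at hdet
    refine iff_of_true (isUnit_of_mul_isUnit_right hdet) ⟨?_, ?_⟩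
    · exact le_bot_iff.mp (hker ▸ radical_le_ker_polarBilin)
    · rw [hker]; simp
  · obtain ⟨x, hxk, hx0⟩ := Submodule.exists_mem_ne_zero_of_ne_bot hker
    obtain ⟨p, hp⟩ : ∃ p, b.coord p x ≠ 0 := by
      by_contra! h
      exact hx0 (b.forall_coord_eq_zero_iff.mp h)
    obtain ⟨c₁, hc₁, -⟩ := exists_basis_update b p x (isUnit_iff_ne_zero.mpr hp)
    let c := c₁.reindex (Equiv.swap p 0)
    have hc0 : c 0 = x := by simp [c, hc₁]
    have hx : ∀ v, polar Q x v = 0 := LinearMap.congr_fun (LinearMap.mem_ker.mp hxk)
    have hbc : IsUnit (halfDisc b (LinearEquiv.refl k k) Q) ↔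
        IsUnit (halfDisc c (LinearEquiv.refl k k) Q) :=
      ⟨isSemiregular_of_basis hn b c Q, isSemiregular_of_basis hn c b Q⟩
    rw [hbc]
    set a := coeffs c (LinearEquiv.refl k k) Q with ha
    have hblock : halfDisc c (LinearEquiv.refl k k) Q =
        Q x * (polarMat fun q => a (q.map Fin.succ)).det := by
      change hd a = _
      rw [hd_block _ (even_two_mul m) fun j => by
        rw [ha, coeffs_mk, if_neg (Fin.succ_ne_zero j).symm, LinearEquiv.refl_apply, hc0, hx],
        ha, coeffs_mk, if_pos rfl, LinearEquiv.refl_apply, hc0]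
    rw [hblock, isUnit_iff_ne_zero]
    set T := polarMat fun q => a (q.map Fin.succ) with hT
    have hmv : ∀ (w : Fin (2 * m) → k) i,
        T.mulVec w i = polar Q (∑ l, w l • c l.succ) (c i.succ) := by
      intro w i
      rw [← polarBilin_apply_apply, map_sum]
      simp only [LinearMap.sum_apply, map_smul, LinearMap.smul_apply, smul_eq_mul, Matrix.mulVec,
        dotProduct, polarBilin_apply_apply]
      refine Finset.sum_congr rfl fun l _ => ?_
      rw [hT, polarMat, of_apply, ha, Sym2.map_mk, coeffs_mk]
      rcases eq_or_ne i l with rfl | h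
      · rw [if_pos rfl, if_pos rfl, LinearEquiv.refl_apply, polar_self', mul_comm]
      · rw [if_neg h, if_neg fun e => h (Fin.succ_inj.mp e), LinearEquiv.refl_apply,
          polar_comm, mul_comm]
    constructor
    · intro h
      have hdec : ∀ y ∈ LinearMap.ker Q.polarBilin, y = c.repr y 0 • x := by
        intro y hy
        have hy' := LinearMap.congr_fun (LinearMap.mem_ker.mp hy)
        have hw : T.mulVec (fun l => c.repr y l.succ) = 0 := funext fun i => by
          rw [hmv]
          have e := c.sum_repr y
          rw [Fin.sum_univ_succ, hc0] at e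
          have h2 : polar Q (c.repr y 0 • x + ∑ l : Fin (2 * m), c.repr y l.succ • c l.succ) (c i.succ) = 0 :=
            e.symm ▸ hy' (c i.succ)
          rw [polar_add_left, polar_smul_left, hx, smul_zero, zero_add] at h2
          exact h2
        have hinj := Matrix.mulVec_injective_iff_isUnit.mpr
          ((Matrix.isUnit_iff_isUnit_det T).mpr (isUnit_iff_ne_zero.mpr (mul_ne_zero_iff.mp h).2))
        have h0 := hinj (hw.trans (Matrix.mulVec_zero T).symm)
        conv_lhs => rw [← c.sum_repr y, Fin.sum_univ_succ, hc0]
        simp [show ∀ l : Fin (2 * m), c.repr y l.succ = 0 from fun l => congrFun h0 l]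
      refine ⟨(Submodule.eq_bot_iff _).mpr fun y hy => ?_, ?_⟩
      · have e := hdec y (radical_le_ker_polarBilin hy)
        have hQy : Q y = 0 := (mem_radical_iff'.mp hy).1
        rw [e, QuadraticMap.map_smul, smul_eq_mul, mul_eq_zero] at hQy
        rcases hQy with hQy | hQy
        · rw [e, mul_self_eq_zero.mp hQy, zero_smul]
        · exact absurd hQy (mul_ne_zero_iff.mp h).1
      · calc Module.rank k (LinearMap.ker Q.polarBilin) ≤ Module.rank k (k ∙ x) :=
              Submodule.rank_mono fun y hy => Submodule.mem_span_singleton.mpr ⟨_, (hdec y hy).symm⟩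
          _ ≤ 1 := (rank_span_le _).trans (by simp)
    · intro hN h
      rcases mul_eq_zero.mp h with h | h
      · have : x ∈ Q.radical := (⟨h, LinearMap.mem_ker.mp hxk⟩ : Q x = 0 ∧ Q.polarBilin x = 0)
        rw [hN.radical_eq_bot, Submodule.mem_bot] at this
        exact hx0 this
      · obtain ⟨w, hw0, hw⟩ := Matrix.exists_mulVec_eq_zero_iff.mpr h
        set y := ∑ l, w l • c l.succ with hy
        have hyk : y ∈ LinearMap.ker Q.polarBilin := LinearMap.mem_ker.mpr <| c.ext fun i => by
          refine Fin.cases ?_ (fun i' => ?_) i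
          · rw [polarBilin_apply_apply, polar_comm, hc0, hx, LinearMap.zero_apply]
          · rw [polarBilin_apply_apply, LinearMap.zero_apply, ← hmv, hw]; rfl
        have hli : LinearIndependent k (![(⟨x, hxk⟩ : LinearMap.ker Q.polarBilin), ⟨y, hyk⟩]) := by
          rw [LinearIndependent.pair_iff]
          intro s t hst
          have e : s • x + t • y = 0 := congrArg Subtype.val hst
          have e0 := congrArg (fun v => c.repr v 0) e
          simp [hy, ← hc0] at e0
          subst e0
          refine ⟨rfl, ?_⟩
          by_contra ht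
          refine hw0 (funext fun l => ?_)
          have el := congrArg (fun v => c.repr v l.succ) e
          simp [hy, Finsupp.single_apply, Fin.succ_inj, ht] at el
          exact el
        have h2 := hli.cardinal_lift_le_rank
        have h1 := hN.rank_rad_polar_le
        simp at h2
        exact absurd (h2.trans h1) (by norm_num)

theorem isUnit_halfDisc_iff {R : Type u} [CommRing R] {M : Type v} [AddCommGroup M] [Module R M]
    [Module.Free R M] (m : ℕ) (b : Module.Basis (Fin (2 * m + 1)) R M) (Q : QuadraticForm R M) :
    IsUnit (halfDisc b (LinearEquiv.refl R R) Q) ↔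
      ∀ (p : Ideal R) [p.IsPrime], (baseChangeForm p.ResidueField Q).Nondegenerate := by
  haveI : Module.Finite R M := Module.Finite.of_basis b
  have key : ∀ (p : Ideal R) [p.IsPrime],
      halfDisc (b.baseChange p.ResidueField) (LinearEquiv.refl _ _) (baseChangeForm p.ResidueField Q) =
        algebraMap R p.ResidueField (halfDisc b (LinearEquiv.refl R R) Q) := by
    intro p _
    change hd _ = _
    rw [coeffs_baseChange, ← map_hd]
    rfl
  constructor
  · intro h p _
    rw [← hd_ne_zero_iff m (b.baseChange p.ResidueField), key]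
    exact h.map _
  · intro h
    by_contra hu
    obtain ⟨P, hP, hle⟩ := Ideal.exists_le_maximal _
      (show Ideal.span {halfDisc b (LinearEquiv.refl R R) Q} ≠ ⊤ by
        rwa [Ne, Ideal.span_singleton_eq_top])
    have h0 := (hd_ne_zero_iff m (b.baseChange P.ResidueField) _).mpr (h P)
    rw [key, isUnit_iff_ne_zero] at h0
    exact h0 (by
      rw [Ideal.algebraMap_residueField_eq_zero]
      exact hle (Ideal.mem_span_singleton_self _))

end GrothLib.Cliff28
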