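import Groth.Agent.Lib.Cliff28.SOrthScheme
import Groth.Agent.Lib.Cliff28.ConnFibre
import Groth.Agent.Lib.Cliff28.ReflPath
import Groth.Agent.Lib.Cliff28.SemiField

/-!
# Connectedness of the fibres of special orthogonal groups
-/

set_option autoImplicit false
set_option linter.style.haveILetI false
set_option linter.unusedSectionVars false

open Matrix GrothLib.QuadHalfDisc GrothLib.QuadTable QuadGrp TensorProduct CliffordAlgebra

namespace GrothLib.Cliff28

universe u v

open GrothLib.QuadCoord

section Parity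

variable {K : Type u} [Field K] {V : Type v} [AddCommGroup V] [Module K V] [Module.Finite K V]
  {Q : QuadraticForm K V}

theorem map_ζ_of_reflProd {m : ℕ} {ζ : CliffordAlgebra Q} (Z : IsArf Q m ζ) {g : V ≃ₗ[K] V} {k : ℕ}
    (hg : ReflProd Q g k) :
    map (QuadGrp.isometryOfMem Q g hg.mem_O) ζ = if Even k then ζ else 1 - ζ := by
  induction hg with
  | one =>
    rw [if_pos ⟨0, rfl⟩]
    have : map (QuadGrp.isometryOfMem Q (LinearEquiv.refl K V) (ReflProd.one (Q := Q)).mem_O) =
        AlgHom.id K _ := hom_ext (by ext v; simp [QuadGrp.isometryOfMem_apply])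
    rw [this]
    rfl
  | cons v hv g k hk ih =>
    have hc : map (QuadGrp.isometryOfMem Q _ (ReflProd.cons v hv g k hk).mem_O) =
        (map (QuadGrp.isometryOfMem Q _ (refl₀_mem_O Q v hv))).comp
          (map (QuadGrp.isometryOfMem Q g hk.mem_O)) :=
      hom_ext (by ext w; simp [QuadGrp.isometryOfMem_apply])
    have hr : map (QuadGrp.isometryOfMem Q _ (refl₀_mem_O Q v hv)) ζ = 1 - ζ := by
      refine (map_reflect v (Units.mk0 _ hv) rfl ζ).trans ?_
      rw [involute_eq_of_mem_even Z.even, Z.twist, mul_assoc, mul_smul_comm, ι_sq_scalar,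
        Algebra.smul_def, ← map_mul, Units.val_inv_eq_inv_val, Units.val_mk0, inv_mul_cancel₀ hv,
        map_one, mul_one]
    rw [hc, AlgHom.comp_apply, ih]
    by_cases h : Even k
    · rw [if_pos h, if_neg (by simpa [Nat.even_add_one] using h), hr]
    · rw [if_neg h, if_pos (by simpa [Nat.even_add_one] using h), map_sub, map_one, hr, sub_sub_cancel]

theorem even_of_mem_SOeven {m : ℕ} (hm : 1 ≤ m) (hM : Module.finrank K V = 2 * m)
    (hQ : QuadGrp.IsRegular Q) {g : V ≃ₗ[K] V} {k : ℕ} (hg : ReflProd Q g k)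
    (h : g ∈ QuadGrp.SOeven Q) : Even k := by
  obtain ⟨ζ, Z⟩ := exists_arf m Q hM hQ
  by_contra hk
  have h1 := map_ζ_of_reflProd Z hg
  rw [if_neg hk, (Z.mem_SOeven_iff hQ hm hM hg.mem_O).mp h] at h1
  exact Z.ne_one_sub hQ hm hM h1

theorem noSingRadical_of_isRegular (hQ : QuadGrp.IsRegular Q) : NoSingRadical Q := fun v hv _ =>
  hQ.1 ((LinearMap.ext fun w => hv w).trans (map_zero _).symm)

theorem noSingRadical_of_semiregular {m : ℕ} (b : Module.Basis (Fin (2 * m + 1)) K V)
    (hb : IsUnit (hd (coeffs b (LinearEquiv.refl K K) Q))) : NoSingRadical Q := fun v hv h0 => by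
  have h : v ∈ Q.radical := ⟨h0, LinearMap.ext fun w => hv w⟩
  rwa [((hd_ne_zero_iff m b Q).mp hb).radical_eq_bot, Submodule.mem_bot] at h

theorem exists_even_reflProd_odd {m : ℕ} (b : Module.Basis (Fin (2 * m + 1)) K V)
    (hb : IsUnit (hd (coeffs b (LinearEquiv.refl K K) Q))) {g : V ≃ₗ[K] V} {k : ℕ}
    (hg : ReflProd Q g k) (hdet : LinearMap.det g.toLinearMap = 1) :
    ∃ k', Even k' ∧ ReflProd Q g k' := by
  rcases Nat.even_or_odd k with hk | hk
  · exact ⟨k, hk, hg⟩
  have h2 : (2 : K) = 0 := by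
    have e := det_of_reflProd b hg
    rw [hdet, hk.neg_one_pow] at e
    linear_combination e
  have hnr : ¬ QuadGrp.IsRegular Q := fun h => by
    have := (isRegular_iff_isUnit_det b Q).mp h
    rw [← two_mul_hd (odd_two_mul_add_one m), h2, zero_mul] at this
    exact not_isUnit_zero this
  obtain ⟨e, he, he0⟩ : ∃ e, Q.polarBilin e = 0 ∧ e ≠ 0 := by
    by_contra! h
    have hinj : Function.Injective Q.polarBilin :=
      (injective_iff_map_eq_zero _).mpr h
    exact hnr ⟨hinj, (LinearMap.injective_iff_surjective_of_finrank_eq_finrank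
      Subspace.dual_finrank_eq.symm).mp hinj⟩
  have hQe : Q e ≠ 0 := fun h0 => he0 (noSingRadical_of_semiregular b hb e (LinearMap.congr_fun he) h0)
  refine ⟨k + 1, Odd.add_one hk, ?_⟩
  have := ReflProd.cons e hQe g k hg
  rwa [show g.trans (refl₀ Q e hQe) = g from LinearEquiv.ext fun w => by
    rw [LinearEquiv.trans_apply, refl₀_apply, show QuadraticMap.polar Q e (g w) = 0 from
      LinearMap.congr_fun he (g w), mul_zero, zero_smul, sub_zero]] at this

end Parity

section Points

variable {R : Type u} [CommRing R] {n : ℕ} (Q : QuadraticForm R (Fin n → R)) {A : Type u} [CommRing A]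
  [Algebra R A]

theorem exists_linearEquiv_toMatrix (φ : Coord (table Q) false →ₐ[R] A) :
    ∃ g : (A ⊗[R] (Fin n → R)) ≃ₗ[A] (A ⊗[R] (Fin n → R)),
      LinearMap.toMatrix (GrothLib.QuadCoord.stdBasis A) (GrothLib.QuadCoord.stdBasis A) g.toLinearMap = matOf φ ∧
        g ∈ QuadGrp.O (QuadGrp.baseChangeForm A Q) := by
  let b := GrothLib.QuadCoord.stdBasis (n := n) (R := R) A
  have hu : IsUnit (LinearMap.toMatrix b b ((LinearMap.toMatrix b b).symm (matOf φ))).det := by
    rw [LinearEquiv.apply_symm_apply]; exact (matOf_isPoint φ).isUnit_det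
  let g := LinearEquiv.ofIsUnitDet hu
  have hg : LinearMap.toMatrix b b g.toLinearMap = matOf φ := by
    rw [show g.toLinearMap = (LinearMap.toMatrix b b).symm (matOf φ) from
      LinearEquiv.coe_ofIsUnitDet hu, LinearEquiv.apply_symm_apply]
  exact ⟨g, hg, fun v => congrArg (AlgebraTensorModule.rid R A A)
    ((mem_orth_iff Q g).mpr (hg ▸ (matOf_isPoint φ).table) v)⟩

theorem exists_algHom_one : ∃ φ : Coord (table Q) false →ₐ[R] A, matOf φ = 1 := by
  refine exists_matOf ⟨by simp, ?_, fun h => absurd h Bool.false_ne_true⟩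
  have h := (mem_orth_iff (A := A) Q 1).mp (one_mem _)
  rwa [show LinearMap.toMatrix (GrothLib.QuadCoord.stdBasis (n := n) (R := R) A) (GrothLib.QuadCoord.stdBasis A)
    (1 : (A ⊗[R] (Fin n → R)) ≃ₗ[A] (A ⊗[R] (Fin n → R))).toLinearMap = 1 from
      LinearMap.toMatrix_id _] at h

end Points

section Main

variable {R : Type u} [CommRing R] {m : ℕ}

theorem joined_even (hm : 1 ≤ m) (Q : QuadraticForm R (Fin (2 * m) → R)) (hQ : QuadGrp.IsRegular Q)
    {e : Coord (table Q) false} (he : IsIdempotentElem e)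
    (H : ∀ (A : Type u) [CommRing A] [Algebra R A]
        (g : (A ⊗[R] (Fin (2 * m) → R)) ≃ₗ[A] (A ⊗[R] (Fin (2 * m) → R))) (φ : Coord (table Q) false →ₐ[R] A),
        LinearMap.toMatrix (GrothLib.QuadCoord.stdBasis A) (GrothLib.QuadCoord.stdBasis A) g.toLinearMap =
            matOf φ → (g ∈ sorth Q A ↔ φ e = 1))
    (K : Type u) [Field K] [IsAlgClosed K] [Algebra R K] :
    ∃ x₀ : Localization.Away e →ₐ[R] K, ∀ val : (Localization.Away e →ₐ[R] K) → Prop,
      (∀ (A : Type u) [CommRing A] [IsDomain A] [Algebra K A] [Algebra R A] [IsScalarTower R K A]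
          (X : Localization.Away e →ₐ[R] A) (e₀ e₁ : A →ₐ[K] K),
          val ((e₀.restrictScalars R).comp X) ↔ val ((e₁.restrictScalars R).comp X)) →
        ∀ x, (val x ↔ val x₀) := by
  classical
  haveI : Nontrivial R := (algebraMap R K).domain_nontrivial
  set p := IsScalarTower.toAlgHom R (Coord (table Q) false) (Localization.Away e) with hp
  have hpu : IsUnit (p e) := IsLocalization.Away.algebraMap_isUnit (S := Localization.Away e) e
  have lift1 : ∀ {A : Type u} [CommRing A] [Algebra R A] (φ : Coord (table Q) false →ₐ[R] A), φ e = 1 →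
      ∃ X : Localization.Away e →ₐ[R] A, X.comp p = φ := fun {A} _ _ φ h1 => by
    have hu : ∀ y : Submonoid.powers e, IsUnit (φ y) := fun y => by
      obtain ⟨k, hk⟩ := y.2
      rw [← hk, map_pow, h1, one_pow]
      exact isUnit_one
    refine ⟨IsLocalization.liftAlgHom (M := Submonoid.powers e) hu, ?_⟩
    ext x
    simp [p]
  have hepi : ∀ x y : Localization.Away e →ₐ[R] K, x.comp p = y.comp p → x = y := fun x y h =>
    IsLocalization.algHom_ext (Submonoid.powers e) h
  have hone : ∀ x : Localization.Away e →ₐ[R] K, (x.comp p) e = 1 := fun x =>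
    (hpu.map x).mul_left_cancel (((he.map (x.comp p)).eq).trans (mul_one _).symm)
  have hlift : LiftsOnDomains (K := K) p := by
    intro A _ _ _ _ _ φ ev ⟨x, hx⟩
    refine lift1 φ ((IsIdempotentElem.iff_eq_zero_or_one.mp (he.map φ)).resolve_left fun h0 => ?_)
    have := hone x
    rw [hx, AlgHom.comp_apply, h0, map_zero] at this
    exact zero_ne_one this
  obtain ⟨φ₁, hφ₁⟩ := exists_algHom_one (A := K) Q
  obtain ⟨x₀, hx₀⟩ := lift1 φ₁ ((H K 1 φ₁ (by rw [hφ₁]; exact LinearMap.toMatrix_id _)).mp (one_mem _))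
  refine ⟨x₀, fun val hval x => ?_⟩
  obtain ⟨g, hg, hgO⟩ := exists_linearEquiv_toMatrix Q (x.comp p)
  have hgS := (H K g _ hg).mpr (hone x)
  have hM : Module.finrank K (K ⊗[R] (Fin (2 * m) → R)) = 2 * m := by
    rw [Module.finrank_baseChange]; simp
  rw [sorth, SO, if_pos (by rw [hM]; exact even_two_mul m)] at hgS
  have hQK := isRegular_baseChange K Q hQ
  obtain ⟨k, hk⟩ := exists_reflProd _ _ hM (noSingRadical_of_isRegular hQK) g hgO
  exact val_iff_of_reflProd hepi hlift val hval (GrothLib.QuadCoord.stdBasis K) (coeffs_baseChangeForm Q)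
    (by rw [hx₀, hφ₁]) k g hk (even_of_mem_SOeven hm hM hQK hk hgS) x hg.symm

theorem joined_odd (Q : QuadraticForm R (Fin (2 * m + 1) → R)) (hQ : IsUnit (hd (table Q)))
    (K : Type u) [Field K] [IsAlgClosed K] [Algebra R K] :
    ∃ x₀ : Coord (table Q) true →ₐ[R] K, ∀ val : (Coord (table Q) true →ₐ[R] K) → Prop,
      (∀ (A : Type u) [CommRing A] [IsDomain A] [Algebra K A] [Algebra R A] [IsScalarTower R K A]
          (X : Coord (table Q) true →ₐ[R] A) (e₀ e₁ : A →ₐ[K] K),
          val ((e₀.restrictScalars R).comp X) ↔ val ((e₁.restrictScalars R).comp X)) →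
        ∀ x, (val x ↔ val x₀) := by
  classical
  have hu := matOf_isPoint (AlgHom.id R (Coord (table Q) true))
  obtain ⟨p, hp⟩ := exists_matOf (a := table Q) (s := false)
    (G := matOf (AlgHom.id R (Coord (table Q) true)))
    ⟨hu.isUnit_det, hu.table, fun h => absurd h Bool.false_ne_true⟩
  have hcomp : ∀ {A : Type u} [CommRing A] [Algebra R A] (x : Coord (table Q) true →ₐ[R] A),
      matOf (x.comp p) = matOf x := fun {A} _ _ x => by
    rw [matOf_comp, hp, ← matOf_comp, AlgHom.comp_id]
  have hepi : ∀ x y : Coord (table Q) true →ₐ[R] K, x.comp p = y.comp p → x = y := fun x y h =>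
    matOf_injective (by rw [← hcomp, h, hcomp])
  have hlift : LiftsOnDomains (K := K) p := by
    intro A _ _ _ _ _ φ ev ⟨x, hx⟩
    have hpt := matOf_isPoint φ
    have hd1 : (matOf φ).det = 1 := by
      set aA : Sym2 (Fin (2 * m + 1)) → A := fun q => algebraMap R A (table Q q) with haA
      have h := hd_transform (odd_two_mul_add_one m) aA (matOf φ)
      rw [hpt.table] at h
      have hu' : IsUnit (hd aA) := by rw [haA, ← map_hd]; exact hQ.map _
      have hsq : (matOf φ).det * (matOf φ).det = 1 :=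
        hu'.mul_right_cancel (by rw [← pow_two, ← h, one_mul])
      rcases mul_self_eq_one_iff.mp hsq with h1 | h1
      · exact h1
      have e : (ev.restrictScalars R) (matOf φ).det = 1 := by
        rw [AlgHom.map_det, AlgHom.mapMatrix_apply, ← matOf_comp, ← hx, hcomp]
        exact (matOf_isPoint x).det_one rfl
      rw [h1, map_neg, map_one] at e
      rw [h1, ← map_one (algebraMap K A), ← map_neg, e]
    obtain ⟨X, hX⟩ := exists_matOf (a := table Q) (s := true) ⟨hpt.isUnit_det, hpt.table, fun _ => hd1⟩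
    exact ⟨X, matOf_injective (by rw [hcomp, hX])⟩
  obtain ⟨φ₁, hφ₁⟩ := exists_algHom_one (A := K) Q
  obtain ⟨x₀, hx₀⟩ := exists_matOf (a := table Q) (s := true) (A := K) (G := 1)
    ⟨by simp, hφ₁ ▸ (matOf_isPoint φ₁).table, fun _ => det_one⟩
  refine ⟨x₀, fun val hval x => ?_⟩
  haveI : Nontrivial R := (algebraMap R K).domain_nontrivial
  obtain ⟨g, hg, hgO⟩ := exists_linearEquiv_toMatrix Q (x.comp p)
  have hdet : LinearMap.det g.toLinearMap = 1 := by
    rw [← LinearMap.det_toMatrix (GrothLib.QuadCoord.stdBasis K), hg, hcomp]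
    exact (matOf_isPoint x).det_one rfl
  have hb : IsUnit (hd (coeffs (GrothLib.QuadCoord.stdBasis K) (LinearEquiv.refl K K)
      (baseChangeForm K Q))) := by
    rw [coeffs_baseChangeForm, ← map_hd]; exact hQ.map _
  obtain ⟨k, hk⟩ := exists_reflProd _ _ rfl (noSingRadical_of_semiregular _ hb) g hgO
  obtain ⟨k', hk', hkg⟩ := exists_even_reflProd_odd _ hb hk hdet
  exact val_iff_of_reflProd hepi hlift val hval (GrothLib.QuadCoord.stdBasis K) (coeffs_baseChangeForm Q)
    (by rw [hcomp, hx₀]) k' g hkg hk' x hg.symm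

end Main

section Final

open AlgebraicGeometry CategoryTheory

variable {R : Type u} [CommRing R] {m : ℕ}

theorem sorth_even_smooth_connected (hm : 1 ≤ m) (Q : QuadraticForm R (Fin (2 * m) → R))
    (hQ : QuadGrp.IsRegular Q) (G : Over (Spec (CommRingCat.of R))) [GrpObj G]
    (D : QuadGrp.SOrthRep Q G) :
    SmoothOfRelativeDimension (m * (2 * m - 1)) G.hom ∧
      ∀ s : ↥(Spec (CommRingCat.of R)), ConnectedSpace ↥(G.hom.fiber s) := by
  obtain ⟨e, he, H, u, hu, huG⟩ := exists_iso_spec_sorth_even hm Q hQ G D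
  refine ⟨smoothOfRelativeDimension_of_iso u huG (smoothOfRelativeDimension_localization e
    (smoothOfRelativeDimension_coord_even (isUnit_det_polarMat Q hQ))),
    connectedSpace_fiber_of_iso u huG fun s => ?_⟩
  haveI : Algebra.FinitePresentation R (Coord (table Q) false) := finitePresentation
  haveI : Algebra.FiniteType (Coord (table Q) false) (Localization.Away e) :=
    IsLocalization.finiteType_of_monoid_fg (Submonoid.powers e) _
  haveI : Algebra.FiniteType R (Localization.Away e) :=
    Algebra.FiniteType.trans (S := Coord (table Q) false) inferInstance inferInstance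
  exact isConnected_preimage_singleton (joined_even hm Q hQ he H) s

theorem sorth_odd_smooth_connected (Q : QuadraticForm R (Fin (2 * m + 1) → R))
    (hQ : IsUnit (hd (table Q))) (G : Over (Spec (CommRingCat.of R))) [GrpObj G]
    (D : QuadGrp.SOrthRep Q G) :
    SmoothOfRelativeDimension (m * (2 * m + 1)) G.hom ∧
      ∀ s : ↥(Spec (CommRingCat.of R)), ConnectedSpace ↥(G.hom.fiber s) := by
  obtain ⟨u, hu, huG⟩ := exists_iso_spec_coord (fun A _ _ => sorth Q A)
    (fun A _ _ g => mem_sorth_odd_iff Q A g) G D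
  refine ⟨smoothOfRelativeDimension_of_iso u huG (smoothOfRelativeDimension_coord_odd hQ),
    connectedSpace_fiber_of_iso u huG fun s => ?_⟩
  haveI : Algebra.FinitePresentation R (Coord (table Q) true) := finitePresentation
  exact isConnected_preimage_singleton (joined_odd Q hQ) s

end Final

end GrothLib.Cliff28
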