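import Groth.Agent.Lib.Cliff28.Dickson
import Groth.Agent.Lib.Cliff28.CoordTangent

/-!
# The special orthogonal group schemes as spectra, and their smoothness
-/

set_option autoImplicit false
set_option linter.style.haveILetI false

universe u

namespace GrothLib.Cliff28

open GrothLib.QuadCoord GrothLib.QuadHalfDisc TensorProduct QuadGrp AlgebraicGeometry CategoryTheory MonObj

variable {R : Type u} [CommRing R] {n : ℕ}

/-- A group scheme pinned by a universal matrix is the spectrum of the ring of that matrix. -/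
theorem exists_iso_spec_of_universal (S : ∀ (A : Type u) [CommRing A] [Algebra R A],
      Subgroup ((A ⊗[R] (Fin n → R)) ≃ₗ[A] (A ⊗[R] (Fin n → R))))
    (C : Type u) [CommRing C] [Algebra R C] (mC : Matrix (Fin n) (Fin n) C) (hdet : IsUnit mC.det)
    (hinj : ∀ (A : Type u) [CommRing A] [Algebra R A] (ψ ψ' : C →ₐ[R] A),
      mC.map ψ = mC.map ψ' → ψ = ψ')
    (hS : ∀ (A : Type u) [CommRing A] [Algebra R A] (g : (A ⊗[R] (Fin n → R)) ≃ₗ[A] (A ⊗[R] (Fin n → R))),
      g ∈ S A ↔ ∃ ψ : C →ₐ[R] A,
        mC.map ψ = LinearMap.toMatrix (GrothLib.QuadCoord.stdBasis A) (GrothLib.QuadCoord.stdBasis A) g.toLinearMap)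
    (G : Over (Spec (CommRingCat.of R))) [CategoryTheory.GrpObj G] (D : LinRep R (Fin n → R) S G) :
    ∃ u : Spec (CommRingCat.of C) ⟶ G.left, IsIso u ∧
      u ≫ G.hom = Spec.map (CommRingCat.ofHom (algebraMap R C)) := by
  let mat : ∀ (A : Type u) [CommRing A] [Algebra R A], (specOver R A ⟶ G) → Matrix (Fin n) (Fin n) A :=
    fun A _ _ y => LinearMap.toMatrix (stdBasis A) (stdBasis A) (D.pts A y).1.toLinearMap
  have inj : ∀ (A : Type u) [CommRing A] [Algebra R A], Function.Injective (mat A) := fun A _ _ y y' h =>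
    (D.pts A).injective (Subtype.ext (LinearEquiv.toLinearMap_injective
      ((LinearMap.toMatrix (stdBasis A) (stdBasis A)).injective h)))
  have nat : ∀ (A B : Type u) [CommRing A] [Algebra R A] [CommRing B] [Algebra R B] (f : A →ₐ[R] B)
      (y : specOver R A ⟶ G), mat B (specOverMap R f ≫ y) = (mat A y).map f := by
    intro A B _ _ _ _ f y
    ext i j
    simp only [mat, LinearMap.toMatrix_apply, Matrix.map_apply, stdBasis,
      Algebra.TensorProduct.basis_apply, LinearEquiv.coe_coe]
    rw [D.natural A B f y]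
    exact repr_rTensor f _ i
  obtain ⟨u, hu⟩ : ∃ u, mat C u = mC := by
    let f : (C ⊗[R] (Fin n → R)) →ₗ[C] (C ⊗[R] (Fin n → R)) :=
      (LinearMap.toMatrix (stdBasis C) (stdBasis C)).symm mC
    have hf : LinearMap.toMatrix (stdBasis C) (stdBasis C) f = mC := LinearEquiv.apply_symm_apply _ _
    have hdet : IsUnit (LinearMap.toMatrix (stdBasis C) (stdBasis C) f).det := by rwa [hf]
    obtain ⟨g, hg⟩ : ∃ g : (C ⊗[R] (Fin n → R)) ≃ₗ[C] (C ⊗[R] (Fin n → R)), g.toLinearMap = f :=
      ⟨LinearEquiv.ofIsUnitDet (f := f) hdet, LinearEquiv.coe_ofIsUnitDet (f := f) hdet⟩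
    refine ⟨(D.pts _).symm ⟨g, (hS _ g).2 ⟨AlgHom.id R C, ?_⟩⟩, ?_⟩
    · rw [hg, hf]; exact Matrix.map_id mC
    · simp only [mat, MulEquiv.apply_symm_apply]
      rw [hg, hf]
  have hbij : ∀ (A : Type u) [CommRing A] [Algebra R A],
      Function.Bijective fun φ : C →ₐ[R] A => specOverMap R φ ≫ u := by
    intro A _ _
    have key : ∀ φ : C →ₐ[R] A, mat A (specOverMap R φ ≫ u) = mC.map φ := fun φ => by
      rw [nat, hu]
    refine ⟨fun φ ψ h => hinj A φ ψ (by rw [← key, ← key]; exact congrArg _ h), fun y => ?_⟩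
    obtain ⟨φ, hφ⟩ := (hS A _).1 (D.pts A y).2
    exact ⟨φ, inj A ((key φ).trans hφ)⟩
  exact ⟨u.left, RepIso.isIso_left u hbij, Over.w u⟩

/-- In odd rank `SO` is cut out by the equations with determinant one. -/
theorem mem_sorth_odd_iff {m : ℕ} (Q : QuadraticForm R (Fin (2 * m + 1) → R)) (A : Type u) [CommRing A]
    [Algebra R A] (g : (A ⊗[R] (Fin (2 * m + 1) → R)) ≃ₗ[A] (A ⊗[R] (Fin (2 * m + 1) → R))) :
    g ∈ sorth Q A ↔ IsPoint (table Q) true A
      (LinearMap.toMatrix (GrothLib.QuadCoord.stdBasis A) (GrothLib.QuadCoord.stdBasis A) g.toLinearMap) := by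
  rw [← mem_sorth'_iff_isPoint]
  rcases subsingleton_or_nontrivial A with hA | hA
  · haveI : Subsingleton (A ⊗[R] (Fin (2 * m + 1) → R)) := Module.subsingleton A _
    rw [show g = 1 from LinearEquiv.ext fun v => Subsingleton.elim _ _]
    exact iff_of_true (one_mem _) (one_mem _)
  haveI : Nontrivial R := (algebraMap R A).domain_nontrivial
  rw [sorth, SO, if_neg (by rw [Module.finrank_baseChange]; simp), sorth', SO', SO', Subgroup.mem_inf,
    Subgroup.mem_inf]
  exact and_congr_left' ⟨fun h => QuadInf.baseChange_mem Q A h,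
    fun h v => congrArg (AlgebraTensorModule.rid R A A) (h v)⟩

/-- The even special orthogonal group as a spectrum. -/
theorem exists_iso_spec_sorth_even {m : ℕ} (hm : 1 ≤ m) (Q : QuadraticForm R (Fin (2 * m) → R))
    (hQ : QuadGrp.IsRegular Q) (G : Over (Spec (CommRingCat.of R))) [GrpObj G] (D : SOrthRep Q G) :
    ∃ e : Coord (table Q) false, IsIdempotentElem e ∧
      (∀ (A : Type u) [CommRing A] [Algebra R A]
        (g : (A ⊗[R] (Fin (2 * m) → R)) ≃ₗ[A] (A ⊗[R] (Fin (2 * m) → R))) (φ : Coord (table Q) false →ₐ[R] A),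
        LinearMap.toMatrix (GrothLib.QuadCoord.stdBasis A) (GrothLib.QuadCoord.stdBasis A) g.toLinearMap =
            matOf φ →
          (g ∈ sorth Q A ↔ φ e = 1)) ∧
      ∃ u : Spec (CommRingCat.of (Localization.Away e)) ⟶ G.left, IsIso u ∧
        u ≫ G.hom = Spec.map (CommRingCat.ofHom (algebraMap R (Localization.Away e))) := by
  obtain ⟨e, he, H⟩ := exists_dickson_idempotent Q hQ hm
  let loc := IsScalarTower.toAlgHom R (Coord (table Q) false) (Localization.Away e)
  have hloc : ∀ (A : Type u) [CommRing A] [Algebra R A] (ψ : Localization.Away e →ₐ[R] A),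
      (matOf loc).map ψ = matOf (ψ.comp loc) := fun A _ _ ψ => (matOf_comp loc ψ).symm
  refine ⟨e, he, H, exists_iso_spec_of_universal (fun A _ _ => sorth Q A) _ (matOf loc)
    (matOf_isPoint loc).isUnit_det (fun A _ _ ψ ψ' h => ?_) (fun A _ _ g => ⟨fun hg => ?_, ?_⟩) G D⟩
  · rw [hloc, hloc] at h
    exact IsLocalization.algHom_ext (Submonoid.powers e) (matOf_injective h)
  · have hgo : g ∈ orth Q A := by
      rcases subsingleton_or_nontrivial A with hA | hA
      · haveI : Subsingleton (A ⊗[R] (Fin (2 * m) → R)) := Module.subsingleton A _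
        rw [show g = 1 from LinearEquiv.ext fun v => Subsingleton.elim _ _]
        exact one_mem _
      haveI : Nontrivial R := (algebraMap R A).domain_nontrivial
      rw [sorth, SO, if_pos (by rw [Module.finrank_baseChange]; simp)] at hg
      obtain ⟨hgO, -⟩ := hg
      exact QuadInf.baseChange_mem Q A hgO
    obtain ⟨φ, hφ⟩ := exists_matOf ((mem_orth_iff_isPoint Q g).mp hgo)
    have h1 := (H A g φ hφ.symm).mp hg
    have hu : ∀ y : Submonoid.powers e, IsUnit (φ y) := fun y => by
      obtain ⟨k, hk⟩ := y.2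
      rw [← hk, map_pow, h1, one_pow]
      exact isUnit_one
    refine ⟨IsLocalization.liftAlgHom (M := Submonoid.powers e) hu, ?_⟩
    rw [hloc, ← hφ]
    congr 1
    ext x
    simp [loc]
  · rintro ⟨ψ, hψ⟩
    rw [hloc] at hψ
    refine (H A g (ψ.comp loc) hψ.symm).mpr ?_
    exact ((IsLocalization.Away.algebraMap_isUnit (S := Localization.Away e) e).map ψ).mul_left_cancel
      (((he.map (ψ.comp loc)).eq).trans (_root_.mul_one _).symm)

theorem smoothOfRelativeDimension_of_iso {N : ℕ} {C : Type u} [CommRing C] [Algebra R C]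
    {G : Over (Spec (CommRingCat.of R))} (u : Spec (CommRingCat.of C) ⟶ G.left) [IsIso u]
    (hu : u ≫ G.hom = Spec.map (CommRingCat.ofHom (algebraMap R C)))
    (h : SmoothOfRelativeDimension N (Spec.map (CommRingCat.ofHom (algebraMap R C)))) :
    SmoothOfRelativeDimension N G.hom := by
  have : MorphismProperty.RespectsIso (@SmoothOfRelativeDimension.{u} N) :=
    HasRingHomProperty.instIsZariskiLocalAtSource.toRespects
  rw [← MorphismProperty.cancel_left_of_respectsIso (P := @SmoothOfRelativeDimension.{u} N) u G.hom, hu]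
  exact h

theorem smoothOfRelativeDimension_localization {N : ℕ} {C : Type u} [CommRing C] [Algebra R C] (e : C)
    (h : SmoothOfRelativeDimension N (Spec.map (CommRingCat.ofHom (algebraMap R C)))) :
    SmoothOfRelativeDimension N
      (Spec.map (CommRingCat.ofHom (algebraMap R (Localization.Away e)))) := by
  rw [IsScalarTower.algebraMap_eq R C (Localization.Away e), CommRingCat.ofHom_comp, Spec.map_comp]
  have := smoothOfRelativeDimension_comp (n := 0) (m := N)
    (Spec.map (CommRingCat.ofHom (algebraMap C (Localization.Away e))))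
    (Spec.map (CommRingCat.ofHom (algebraMap R C)))
  rwa [zero_add] at this

end GrothLib.Cliff28
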