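import Groth.Agent.Lib.Cliff28.Odd
import Mathlib.FieldTheory.IsAlgClosed.Basic

/-!
# Non-degenerate forms over an algebraically closed field are split
-/

set_option autoImplicit false
set_option linter.unusedSectionVars false

open QuadraticMap QuadGrp

namespace GrothLib.Cliff28

universe u v

variable {K : Type u} [Field K] [IsAlgClosed K]

omit [IsAlgClosed K] in
theorem expand_plane {V : Type v} [AddCommGroup V] [Module K V] (Q : QuadraticForm K V) (x y : K)
    (u w p : V) (hu : Q u = 0) (hw : Q w = 0) (huw : polar Q u w = 1) (h1 : polar Q u p = 0)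
    (h2 : polar Q w p = 0) : Q (x • u + y • w + p) = x * y + Q p := by
  rw [QuadraticMap.map_add Q, QuadraticMap.map_add Q, polar_add_left, QuadraticMap.map_smul,
    QuadraticMap.map_smul, polar_smul_left, polar_smul_left, polar_smul_left, polar_smul_right, hu, hw,
    h1, h2, huw]
  simp

theorem exists_hyperbolic : ∀ (m : ℕ) {V : Type v} [AddCommGroup V] [Module K V] [Module.Finite K V]
    (Q : QuadraticForm K V), Module.finrank K V = 2 * m → IsRegular Q →
    ∃ e : V ≃ₗ[K] (Fin m → K) × (Fin m → K), ∀ v, Q v = ∑ i, (e v).1 i * (e v).2 i := by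
  intro m
  induction m with
  | zero =>
    intro V _ _ _ Q hV _
    refine ⟨LinearEquiv.ofFinrankEq _ _ (by simp [hV]), fun v => ?_⟩
    haveI : Subsingleton V := Module.finrank_zero_iff.mp hV
    simp [Subsingleton.elim v 0]
  | succ m ih =>
    intro V _ _ _ Q hV hQ
    obtain ⟨a, b, hab, hδ⟩ := exists_plane Q hQ (by omega)
    obtain ⟨u, w, hu, hw, huw⟩ : ∃ u w, Q u = 0 ∧ Q w = 0 ∧ polar Q u w = 1 := by
      by_cases hp : Q a = 0
      · refine ⟨a, b - Q b • a, hp, ?_, ?_⟩
        · rw [sub_eq_add_neg, ← neg_smul, QuadraticMap.map_add Q, QuadraticMap.map_smul,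
            polar_smul_right, polar_comm, hab, hp]
          simp
        · rw [polar_sub_right, polar_smul_right, polar_self', hp, hab]
          simp
      · obtain ⟨t, ht⟩ := IsAlgClosed.exists_root
          (Polynomial.C (Q a) * Polynomial.X ^ 2 + Polynomial.C 1 * Polynomial.X + Polynomial.C (Q b))
          (by rw [Polynomial.degree_quadratic hp]; decide)
        simp only [Polynomial.IsRoot.def, Polynomial.eval_add, Polynomial.eval_mul, Polynomial.eval_C,
          Polynomial.eval_pow, Polynomial.eval_X, one_mul] at ht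
        obtain ⟨u, hu⟩ : ∃ u, u = t • a + b := ⟨_, rfl⟩
        have hQu : Q u = 0 := by
          rw [hu, QuadraticMap.map_add Q, QuadraticMap.map_smul, polar_smul_left, hab, smul_eq_mul,
            smul_eq_mul]
          linear_combination ht
        have hne : polar Q u a ≠ 0 := fun h => by
          rw [hu, polar_add_left, polar_smul_left, polar_self', polar_comm Q b a, hab, smul_eq_mul] at h
          refine hδ.ne_zero ?_
          linear_combination (2 * t * Q a + 1) * h - 4 * Q a * ht
        obtain ⟨w₀, hw₀⟩ : ∃ w₀, w₀ = (polar Q u a)⁻¹ • a := ⟨_, rfl⟩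
        have h₀ : polar Q u w₀ = 1 := by
          rw [hw₀, polar_smul_right, smul_eq_mul, inv_mul_cancel₀ hne]
        refine ⟨u, w₀ - Q w₀ • u, hQu, ?_, ?_⟩
        · rw [sub_eq_add_neg, ← neg_smul, QuadraticMap.map_add Q, QuadraticMap.map_smul,
            polar_smul_right, polar_comm Q w₀ u, h₀, hQu]
          simp
        · rw [polar_sub_right, polar_smul_right]
          simp [polar_self', hQu, h₀]
    let α : V →ₗ[K] K := Q.polarBilin w
    let β : V →ₗ[K] K := Q.polarBilin u
    have hwu : polar Q w u = 1 := by rw [polar_comm, huw]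
    let W : Submodule K V := LinearMap.ker β ⊓ LinearMap.ker α
    let π : V →ₗ[K] W := (LinearMap.id - α.smulRight u - β.smulRight w).codRestrict W fun v => by
      refine ⟨?_, ?_⟩ <;>
        simp [α, β, hu, hw, huw, hwu, polar_self']
    have hαW : ∀ k : W, α k = 0 := fun k => k.2.2
    have hβW : ∀ k : W, β k = 0 := fun k => k.2.1
    have hπc : ∀ v, (π v : V) = v - α v • u - β v • w := fun v => rfl
    have hπW : ∀ k : W, π k = k := fun k => Subtype.ext (by rw [hπc, hαW, hβW]; simp)
    have hπ : ∀ v, v = α v • u + β v • w + (π v : V) := fun v => by rw [hπc]; abel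
    have hαu : α u = 1 := hwu
    have hαw : α w = 0 := by simp [α, polar_self', hw]
    have hβu : β u = 0 := by simp [β, polar_self', hu]
    have hβw : β w = 1 := huw
    have hπu : π u = 0 := Subtype.ext (by rw [hπc, hαu, hβu]; simp)
    have hπw : π w = 0 := Subtype.ext (by rw [hπc, hαw, hβw]; simp)
    let e₀ : V ≃ₗ[K] (K × K) × W := LinearEquiv.ofLinearMap ((α.prod β).prod π)
      (((LinearMap.toSpanSingleton K V u).coprod (LinearMap.toSpanSingleton K V w)).coprod W.subtype)
      (by ext <;> simp [hαu, hαw, hβu, hβw, hαW, hβW, hπu, hπw, hπW, LinearMap.toSpanSingleton])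
      (LinearMap.ext fun v => (hπ v).symm)
    have hW : Module.finrank K W = 2 * m := by
      have := e₀.finrank_eq
      rw [Module.finrank_prod, Module.finrank_prod, Module.finrank_self, hV] at this
      omega
    have hreg : IsRegular (Q.comp W.subtype) := by
      have hinj : Function.Injective (polarBilin (Q.comp W.subtype)) := fun k k' h => by
        refine Subtype.ext (hQ.1 (LinearMap.ext fun v => ?_))
        have h' := LinearMap.congr_fun h (π v)
        change polar Q (k : V) (π v : V) = polar Q (k' : V) (π v : V) at h'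
        change polar Q (k : V) v = polar Q (k' : V) v
        have h1 : ∀ k : W, polar Q (k : V) u = 0 ∧ polar Q (k : V) w = 0 := fun k =>
          ⟨(polar_comm Q _ _).trans (hβW k), (polar_comm Q _ _).trans (hαW k)⟩
        rw [hπ v]
        simp only [polar_add_right, polar_smul_right, (h1 k).1, (h1 k).2, (h1 k').1, (h1 k').2, h']
      exact ⟨hinj, (LinearMap.injective_iff_surjective_of_finrank_eq_finrank
        Subspace.dual_finrank_eq.symm).mp hinj⟩
    obtain ⟨e', he'⟩ := ih (Q.comp W.subtype) hW hreg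
    let F : V →ₗ[K] (Fin (m + 1) → K) × (Fin (m + 1) → K) :=
      { toFun := fun v => (Fin.cons (α v) (e' (π v)).1, Fin.cons (β v) (e' (π v)).2)
        map_add' := fun x y => by
          simp only [map_add, Prod.fst_add, Prod.snd_add]
          ext i <;> refine Fin.cases ?_ (fun _ => ?_) i <;> simp
        map_smul' := fun c x => by
          simp only [map_smul, Prod.smul_fst, Prod.smul_snd, RingHom.id_apply]
          ext i <;> refine Fin.cases ?_ (fun _ => ?_) i <;> simp }
    have hF : Function.Injective F := fun x y h => by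
      simp only [F, LinearMap.coe_mk, AddHom.coe_mk, Prod.mk.injEq, Fin.cons_inj] at h
      have := e'.injective (Prod.ext h.1.2 h.2.2)
      rw [hπ x, hπ y, h.1.1, h.2.1, this]
    refine ⟨LinearEquiv.ofBijective F ⟨hF, (LinearMap.injective_iff_surjective_of_finrank_eq_finrank
      (by simp [hV]; omega)).mp hF⟩, fun v => ?_⟩
    have he := he' (π v)
    rw [QuadraticMap.comp_apply, Submodule.subtype_apply] at he
    change Q v = ∑ i, (F v).1 i * (F v).2 i
    simp only [F, LinearMap.coe_mk, AddHom.coe_mk, Fin.sum_univ_succ,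
      Fin.cons_zero, Fin.cons_succ, ← he]
    conv_lhs => rw [hπ v]
    have h1 : polar Q u (π v : V) = 0 := hβW (π v)
    have h2 : polar Q w (π v : V) = 0 := hαW (π v)
    exact expand_plane Q _ _ u w _ hu hw huw h1 h2

omit [IsAlgClosed K] in
/-- The coordinates in which the split form is hyperbolic. -/
theorem exists_split_even (m : ℕ) :
    ∃ φ : (Fin (2 * m) → K) ≃ₗ[K] (Fin m → K) × (Fin m → K),
      ∀ x, splitForm K (2 * m) x = ∑ i, (φ x).1 i * (φ x).2 i := by
  let f : (Fin (2 * m) → K) →ₗ[K] (Fin m → K) × (Fin m → K) :=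
    (LinearMap.funLeft K K fun i : Fin m => (⟨2 * i, by omega⟩ : Fin (2 * m))).prod
      (LinearMap.funLeft K K fun i : Fin m => (⟨2 * i + 1, by omega⟩ : Fin (2 * m)))
  have hf : Function.Injective f := fun x y h => funext fun j => by
    rcases Nat.even_or_odd j.val with ⟨i, hi⟩ | ⟨i, hi⟩
    · convert congrFun (congrArg Prod.fst h) ⟨i, by omega⟩ using 2 <;> simp [f, LinearMap.funLeft] <;>
        congr 1 <;> ext <;> simp <;> omega
    · convert congrFun (congrArg Prod.snd h) ⟨i, by omega⟩ using 2 <;> simp [f, LinearMap.funLeft] <;>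
        congr 1 <;> ext <;> simp <;> omega
  refine ⟨LinearEquiv.ofBijective f ⟨hf, (LinearMap.injective_iff_surjective_of_finrank_eq_finrank
    (by simp; omega)).mp hf⟩, fun x => ?_⟩
  simp only [splitForm, Nat.mul_mod_right, zero_ne_one, dite_false, add_zero, QuadraticMap.sum_apply,
    QuadraticMap.linMulLin_apply, LinearMap.proj_apply, LinearEquiv.ofBijective_apply]
  exact Fintype.sum_equiv (finCongr (by omega)) _ _ fun i => rfl

omit [IsAlgClosed K] in
theorem exists_split_odd (m : ℕ) :
    ∃ φ : (Fin (2 * m + 1) → K) ≃ₗ[K] K × ((Fin m → K) × (Fin m → K)),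
      ∀ x, splitForm K (2 * m + 1) x = (φ x).1 * (φ x).1 + ∑ i, (φ x).2.1 i * (φ x).2.2 i := by
  let f : (Fin (2 * m + 1) → K) →ₗ[K] K × ((Fin m → K) × (Fin m → K)) :=
    (LinearMap.proj (0 : Fin (2 * m + 1))).prod
    ((LinearMap.funLeft K K fun i : Fin m => (⟨2 * i + 1, by omega⟩ : Fin (2 * m + 1))).prod
      (LinearMap.funLeft K K fun i : Fin m => (⟨2 * i + 2, by omega⟩ : Fin (2 * m + 1))))
  have hf : Function.Injective f := fun x y h => funext fun j => by
    by_cases hj : j = 0
    · subst hj; exact congrArg Prod.fst h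
    have hj' : j.val ≠ 0 := fun e => hj (Fin.ext e)
    have hj2 := j.isLt
    rcases Nat.even_or_odd (j.val - 1) with ⟨i, hi⟩ | ⟨i, hi⟩
    · rw [show j = ⟨2 * i + 1, by omega⟩ from Fin.ext (show j.val = 2 * i + 1 by omega)]
      exact congrFun (congrArg (fun p => p.2.1) h) ⟨i, by omega⟩
    · rw [show j = ⟨2 * i + 2, by omega⟩ from Fin.ext (show j.val = 2 * i + 2 by omega)]
      exact congrFun (congrArg (fun p => p.2.2) h) ⟨i, by omega⟩
  refine ⟨LinearEquiv.ofBijective f ⟨hf, (LinearMap.injective_iff_surjective_of_finrank_eq_finrank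
    (by simp; omega)).mp hf⟩, fun x => ?_⟩
  have hmod : (2 * m + 1) % 2 = 1 := by omega
  simp only [splitForm, dif_pos hmod, QuadraticMap.add_apply, QuadraticMap.sum_apply,
    QuadraticMap.linMulLin_apply, LinearMap.proj_apply, QuadraticMap.comp_apply, QuadraticMap.sq_apply,
    LinearEquiv.ofBijective_apply]
  rw [add_comm]
  congr 1
  refine Fintype.sum_equiv (finCongr (by omega)) _ _ fun i => ?_
  simp [f, LinearMap.funLeft]

open GrothLib.QuadHalfDisc in
theorem exists_split_matrix_even (m : ℕ) (a : Sym2 (Fin (2 * m)) → K)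
    (h : IsUnit (polarMat a).det) :
    ∃ G : Matrix (Fin (2 * m)) (Fin (2 * m)) K, IsUnit G.det ∧
      transform a G = coeffs (Pi.basisFun K _) (LinearEquiv.refl K K) (splitForm K (2 * m)) := by
  obtain ⟨e, he⟩ := exists_hyperbolic m (formOfTable a) (by simp)
    ((isRegular_iff_isUnit_det (Pi.basisFun K _) _).mpr (by rwa [coeffs_formOfTable]))
  obtain ⟨φ, hφ⟩ := exists_split_even (K := K) m
  let g := φ.trans e.symm
  refine ⟨LinearMap.toMatrix (Pi.basisFun K _) (Pi.basisFun K _) g.toLinearMap,
    by rw [LinearMap.det_toMatrix]; exact LinearEquiv.isUnit_det' g, ?_⟩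
  conv_lhs => rw [← coeffs_formOfTable a]
  rw [← coeffs_comp]
  congr 1
  refine QuadraticMap.ext fun x => ?_
  rw [QuadraticMap.comp_apply, hφ, he]
  simp [g]

open GrothLib.QuadHalfDisc in
theorem exists_split_matrix_odd (m : ℕ) (a : Sym2 (Fin (2 * m + 1)) → K) (h : IsUnit (hd a)) :
    ∃ G : Matrix (Fin (2 * m + 1)) (Fin (2 * m + 1)) K, IsUnit G.det ∧
      transform a G = coeffs (Pi.basisFun K _) (LinearEquiv.refl K K) (splitForm K (2 * m + 1)) := by
  classical
  set Q := formOfTable a with hQ
  have hss : IsSemiregular (Pi.basisFun K (Fin (2 * m + 1))) (LinearEquiv.refl K K) Q := by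
    change IsUnit (hd _)
    rwa [hQ, coeffs_formOfTable]
  obtain ⟨S⟩ := exists_oddSplit m (Pi.basisFun K (Fin (2 * m + 1))) Q hss
  obtain ⟨e, he⟩ := exists_hyperbolic m S.P (by simp) S.regular
  obtain ⟨φ, hφ⟩ := exists_split_odd (K := K) m
  obtain ⟨s, hs⟩ := IsAlgClosed.exists_pow_nat_eq (Q S.e)⁻¹ (n := 2) two_pos
  let f : (Fin (2 * m + 1) → K) →ₗ[K] (Fin (2 * m + 1) → K) :=
    (LinearMap.toSpanSingleton K _ (s • S.e)).comp ((LinearMap.fst K K _).comp φ.toLinearMap) +
      S.j.toLinearMap ∘ₗ e.symm.toLinearMap ∘ₗ (LinearMap.snd K K _).comp φ.toLinearMap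
  have hQf : ∀ x, Q (f x) = splitForm K (2 * m + 1) x := fun x => by
    have hfx : f x = ((φ x).1 * s) • S.e + S.j (e.symm (φ x).2) := by simp [f, smul_smul]
    rw [hφ, hfx, QuadraticMap.map_add Q, QuadraticMap.map_smul, polar_smul_left, S.orth, S.j.map_app, he,
      LinearEquiv.apply_symm_apply, smul_eq_mul, smul_zero, add_zero]
    congr 1
    have hse : s * s * Q S.e = 1 := by rw [← pow_two, hs, inv_mul_cancel₀ S.unit.ne_zero]
    linear_combination ((φ x).1 * (φ x).1) * hse
  refine ⟨LinearMap.toMatrix (Pi.basisFun K _) (Pi.basisFun K _) f, ?_, ?_⟩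
  · rw [LinearMap.det_toMatrix]
    refine LinearEquiv.isUnit_det' (LinearEquiv.ofInjectiveEndo f ?_)
    intro x y hxy
    have h0 : f (x - y) = 0 := by rw [map_sub, hxy, sub_self]
    set z := x - y
    have hfz : f z = ((φ z).1 * s) • S.e + S.j (e.symm (φ z).2) := by simp [f, smul_smul]
    have hs0 : s ≠ 0 := fun h0' => by
      rw [h0', zero_pow two_ne_zero, eq_comm, inv_eq_zero] at hs
      exact S.unit.ne_zero hs
    have hj : ∀ k, S.c.repr (S.j k) 0 = 0 := fun k => by
      rw [pi_eq_sum_univ k, map_sum, map_sum, Finsupp.coe_finsetSum, Finset.sum_apply]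
      refine Finset.sum_eq_zero fun i _ => ?_
      rw [map_smul, map_smul, show (fun j => if i = j then (1 : K) else 0) = Pi.single i 1 by
        ext j; simp [Pi.single_apply, eq_comm], ← S.c_succ]
      simp
    rw [hfz] at h0
    have h1 := congrArg (fun v => S.c.repr v 0) h0
    simp [hj, ← S.c_zero] at h1
    have hz1 : (φ z).1 = 0 := by simpa [hs0] using h1
    rw [hz1, zero_mul, zero_smul, zero_add] at h0
    have hz2 : e.symm (φ z).2 = 0 := by
      refine S.regular.1 (LinearMap.ext fun k => ?_)
      rw [map_zero, LinearMap.zero_apply, polarBilin_apply_apply]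
      have e1 := congrArg (fun v => polar Q v (S.j k)) h0
      simpa [QuadraticMap.polar, ← map_add] using e1
    have : φ z = 0 := Prod.ext hz1 (e.symm.injective (hz2.trans (map_zero _).symm))
    exact sub_eq_zero.mp (φ.injective (this.trans (map_zero _).symm))
  · conv_lhs => rw [← coeffs_formOfTable a, ← hQ]
    rw [← coeffs_comp]
    congr 1
    exact QuadraticMap.ext hQf

end GrothLib.Cliff28
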