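import Groth.Agent.Lib.Cliff28.Contract
import Groth.Prelude.Def_QuadGrp
import Mathlib.Tactic

/-!
# The Clifford algebra of the split form `x₀² + x₁ x₂`

`GrothLib.Cliff28.Three.unit_mem_GPin'`: every even unit normalises the vectors.
-/

set_option autoImplicit false
set_option linter.unusedSectionVars false

open CliffordAlgebra QuadGrp

namespace GrothLib.Cliff28.Three

variable {k : Type*} [Field k]

variable (k) in
/-- The split form. -/
noncomputable abbrev Q3 : QuadraticForm k (Fin 3 → k) := splitForm k 3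

variable (k) in
/-- The standard vectors in the Clifford algebra. -/
noncomputable def e (i : Fin 3) : CliffordAlgebra (Q3 k) := ι (Q3 k) (Pi.single i 1)

theorem Q3_apply (x : Fin 3 → k) : Q3 k x = x 1 * x 2 + x 0 * x 0 := by
  simp [Q3, splitForm, QuadraticMap.linMulLin_apply, QuadraticMap.sq_apply]

theorem sq (i : Fin 3) : e k i * e k i = algebraMap k _ (if i = 0 then 1 else 0) := by
  rw [e, ι_sq_scalar, Q3_apply]
  fin_cases i <;> simp

theorem e00 : e k 0 * e k 0 = 1 := by simpa using sq (k := k) 0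
theorem e11 : e k 1 * e k 1 = 0 := by simpa using sq (k := k) 1
theorem e22 : e k 2 * e k 2 = 0 := by simpa using sq (k := k) 2

theorem e10 : e k 1 * e k 0 = -(e k 0 * e k 1) := by
  rw [eq_neg_iff_add_eq_zero, e, e, ι_mul_ι_add_swap, QuadraticMap.polar, Q3_apply, Q3_apply, Q3_apply]
  simp

theorem e20 : e k 2 * e k 0 = -(e k 0 * e k 2) := by
  rw [eq_neg_iff_add_eq_zero, e, e, ι_mul_ι_add_swap, QuadraticMap.polar, Q3_apply, Q3_apply, Q3_apply]
  simp

theorem e21 : e k 2 * e k 1 = 1 - e k 1 * e k 2 := by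
  rw [eq_sub_iff_add_eq, e, e, ι_mul_ι_add_swap, QuadraticMap.polar, Q3_apply, Q3_apply, Q3_apply]
  simp

theorem c00 (t : CliffordAlgebra (Q3 k)) : e k 0 * (e k 0 * t) = t := by
  rw [← mul_assoc, e00, one_mul]
theorem c11 (t : CliffordAlgebra (Q3 k)) : e k 1 * (e k 1 * t) = 0 := by
  rw [← mul_assoc, e11, zero_mul]
theorem c22 (t : CliffordAlgebra (Q3 k)) : e k 2 * (e k 2 * t) = 0 := by
  rw [← mul_assoc, e22, zero_mul]
theorem c10 (t : CliffordAlgebra (Q3 k)) : e k 1 * (e k 0 * t) = -(e k 0 * (e k 1 * t)) := by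
  rw [← mul_assoc, e10, neg_mul, mul_assoc]
theorem c20 (t : CliffordAlgebra (Q3 k)) : e k 2 * (e k 0 * t) = -(e k 0 * (e k 2 * t)) := by
  rw [← mul_assoc, e20, neg_mul, mul_assoc]
theorem c21 (t : CliffordAlgebra (Q3 k)) : e k 2 * (e k 1 * t) = t - e k 1 * (e k 2 * t) := by
  rw [← mul_assoc, e21, sub_mul, one_mul, mul_assoc]

theorem star_e (i : Fin 3) : star (e k i) = -e k i := star_ι _

/-- A general even element. -/
noncomputable def ev (a b c d : k) : CliffordAlgebra (Q3 k) :=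
  a • 1 + b • (e k 0 * e k 1) + c • (e k 0 * e k 2) + d • (e k 1 * e k 2)

/-- A general odd element. -/
noncomputable def od (a b c d : k) : CliffordAlgebra (Q3 k) :=
  a • e k 0 + b • e k 1 + c • e k 2 + d • (e k 0 * (e k 1 * e k 2))

macro "nf3" : tactic => `(tactic| simp only [ev, od, mul_add, add_mul, mul_sub, sub_mul, smul_mul_assoc,
  mul_smul_comm, mul_assoc, smul_add, smul_sub, smul_neg, smul_smul, one_mul, mul_one, mul_neg, neg_mul,
  neg_neg, e00, e11, e22, e10, e20, e21, c00, c11, c22, c10, c20, c21, mul_zero, zero_mul, smul_zero])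

theorem mul_ev (i : Fin 3) (a b c d : k) : ∃ a' b' c' d', e k i * ev a b c d = od a' b' c' d' := by
  match i with
  | 0 => exact ⟨a, b, c, d, by nf3⟩
  | 1 => exact ⟨0, a, 0, -c, by nf3; module⟩
  | 2 => exact ⟨-b, 0, a + d, b, by nf3; module⟩

theorem mul_od (i : Fin 3) (a b c d : k) : ∃ a' b' c' d', e k i * od a b c d = ev a' b' c' d' := by
  match i with
  | 0 => exact ⟨a, b, c, d, by nf3⟩
  | 1 => exact ⟨0, -a, 0, c, by nf3; module⟩
  | 2 => exact ⟨b, 0, -a - d, -b, by nf3; module⟩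

theorem mem_ev {x : CliffordAlgebra (Q3 k)} (hx : x ∈ evenOdd (Q3 k) 0) :
    ∃ a b c d, x = ev a b c d := by
  let S : Submodule k (CliffordAlgebra (Q3 k)) :=
    Submodule.span k {1, e k 0 * e k 1, e k 0 * e k 2, e k 1 * e k 2}
  let T : Submodule k (CliffordAlgebra (Q3 k)) :=
    Submodule.span k {e k 0, e k 1, e k 2, e k 0 * (e k 1 * e k 2)}
  have hS : ∀ y, y ∈ S → ∃ a b c d, y = ev a b c d := by
    intro y hy
    simp only [S, Submodule.mem_span_insert, Submodule.mem_span_singleton] at hy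
    obtain ⟨a, _, ⟨b, _, ⟨c, _, ⟨d, rfl⟩, rfl⟩, rfl⟩, rfl⟩ := hy
    exact ⟨a, b, c, d, by simp only [ev, add_assoc]⟩
  have hev : ∀ a b c d, ev a b c d ∈ S := fun a b c d =>
    add_mem (add_mem (add_mem (S.smul_mem _ (Submodule.subset_span (by simp)))
      (S.smul_mem _ (Submodule.subset_span (by simp)))) (S.smul_mem _ (Submodule.subset_span (by simp))))
      (S.smul_mem _ (Submodule.subset_span (by simp)))
  have hod : ∀ a b c d, od a b c d ∈ T := fun a b c d =>
    add_mem (add_mem (add_mem (T.smul_mem _ (Submodule.subset_span (by simp)))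
      (T.smul_mem _ (Submodule.subset_span (by simp)))) (T.smul_mem _ (Submodule.subset_span (by simp))))
      (T.smul_mem _ (Submodule.subset_span (by simp)))
  have hT : ∀ y, y ∈ T → ∃ a b c d, y = od a b c d := by
    intro y hy
    simp only [T, Submodule.mem_span_insert, Submodule.mem_span_singleton] at hy
    obtain ⟨a, _, ⟨b, _, ⟨c, _, ⟨d, rfl⟩, rfl⟩, rfl⟩, rfl⟩ := hy
    exact ⟨a, b, c, d, by simp only [od, add_assoc]⟩
  have hdec : ∀ v : Fin 3 → k, ι (Q3 k) v = v 0 • e k 0 + v 1 • e k 1 + v 2 • e k 2 := fun v => by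
    simp only [e, ← map_smul, ← map_add]
    congr 1
    ext i; fin_cases i <;> simp
  have h1 : ∀ v, ∀ y ∈ S, ι (Q3 k) v * y ∈ T := by
    intro v y hy
    obtain ⟨a, b, c, d, rfl⟩ := hS y hy
    rw [hdec, add_mul, add_mul, smul_mul_assoc, smul_mul_assoc, smul_mul_assoc]
    refine add_mem (add_mem (T.smul_mem _ ?_) (T.smul_mem _ ?_)) (T.smul_mem _ ?_)
    all_goals
      first
      | (obtain ⟨_, _, _, _, h⟩ := mul_ev (k := k) 0 a b c d; rw [h]; exact hod _ _ _ _)
      | (obtain ⟨_, _, _, _, h⟩ := mul_ev (k := k) 1 a b c d; rw [h]; exact hod _ _ _ _)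
      | (obtain ⟨_, _, _, _, h⟩ := mul_ev (k := k) 2 a b c d; rw [h]; exact hod _ _ _ _)
  have h2 : ∀ v, ∀ y ∈ T, ι (Q3 k) v * y ∈ S := by
    intro v y hy
    obtain ⟨a, b, c, d, rfl⟩ := hT y hy
    rw [hdec, add_mul, add_mul, smul_mul_assoc, smul_mul_assoc, smul_mul_assoc]
    refine add_mem (add_mem (S.smul_mem _ ?_) (S.smul_mem _ ?_)) (S.smul_mem _ ?_)
    all_goals
      first
      | (obtain ⟨_, _, _, _, h⟩ := mul_od (k := k) 0 a b c d; rw [h]; exact hev _ _ _ _)
      | (obtain ⟨_, _, _, _, h⟩ := mul_od (k := k) 1 a b c d; rw [h]; exact hev _ _ _ _)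
      | (obtain ⟨_, _, _, _, h⟩ := mul_od (k := k) 2 a b c d; rw [h]; exact hev _ _ _ _)
  refine hS x ?_
  induction x, hx using even_induction with
  | algebraMap r =>
    rw [Algebra.algebraMap_eq_smul_one]
    exact S.smul_mem _ (Submodule.subset_span (by simp))
  | add s t hs ht ihs iht => exact add_mem ihs iht
  | ι_mul_ι_mul v w y hy ih => rw [mul_assoc]; exact h2 v _ (h1 w _ ih)

theorem mem_od {x : CliffordAlgebra (Q3 k)} (hx : x ∈ evenOdd (Q3 k) 1) :
    ∃ a b c d, x = od a b c d := by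
  have h0 : e k 0 * x ∈ evenOdd (Q3 k) 0 :=
    (show (1 : ZMod 2) + 1 = 0 from rfl) ▸ SetLike.mul_mem_graded (ι_mem_evenOdd_one _ _) hx
  obtain ⟨a, b, c, d, h⟩ := mem_ev h0
  refine ⟨a, b, c, d, ?_⟩
  rw [← c00 x, h]
  nf3

theorem star_ev (a b c d : k) : star (ev a b c d) = ev (a + d) (-b) (-c) (-d) := by
  simp only [ev, star_add, CliffordAlgebra.star_smul, star_one, star_mul, star_e, neg_mul_neg]
  nf3
  module

theorem ev_mul_star (a b c d : k) :
    ev a b c d * star (ev a b c d) = (a * a + a * d + b * c) • (1 : CliffordAlgebra (Q3 k)) := by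
  rw [star_ev]
  nf3
  module

theorem vec_of_star {w : CliffordAlgebra (Q3 k)} (hw : w ∈ evenOdd (Q3 k) 1) (hs : star w = -w) :
    w ∈ LinearMap.range (ι (Q3 k)) := by
  obtain ⟨a, b, c, d, rfl⟩ := mem_od hw
  have h : d • ((e k 0) * (2 * (e k 1 * e k 2) - 1)) = (0 : CliffordAlgebra (Q3 k)) := by
    rw [eq_neg_iff_add_eq_zero] at hs
    rw [← hs]
    simp only [od, star_add, CliffordAlgebra.star_smul, star_mul, star_e, neg_mul_neg, two_mul]
    nf3
    module
  have hu : IsUnit (e k 0 * (2 * (e k 1 * e k 2) - 1)) := by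
    refine (isUnit_pow_iff two_ne_zero).mp ?_
    rw [pow_two, show e k 0 * (2 * (e k 1 * e k 2) - 1) * (e k 0 * (2 * (e k 1 * e k 2) - 1)) = 1 by
      rw [two_mul]; nf3; abel]
    exact isUnit_one
  rw [smul_eq_zero_of_isUnit _ hu h]
  refine ⟨a • Pi.single 0 1 + b • Pi.single 1 1 + c • Pi.single 2 1, ?_⟩
  simp [od, e]

theorem unit_mem_GPin' {u : (CliffordAlgebra (Q3 k))ˣ} (hu : (u : CliffordAlgebra (Q3 k)) ∈ evenOdd (Q3 k) 0) :
    u ∈ GPin' (Q3 k) := by
  have H : ∀ w : (CliffordAlgebra (Q3 k))ˣ, (w : CliffordAlgebra (Q3 k)) ∈ evenOdd (Q3 k) 0 →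
      ∀ v, (w : CliffordAlgebra (Q3 k)) * ι (Q3 k) v * ↑w⁻¹ ∈ LinearMap.range (ι (Q3 k)) := by
    intro w hw v
    obtain ⟨a, b, c, d, hwe⟩ := mem_ev hw
    set n := a * a + a * d + b * c with hn
    have hws : (w : CliffordAlgebra (Q3 k)) * star (w : CliffordAlgebra (Q3 k)) = n • 1 := by
      rw [hwe]; exact ev_mul_star a b c d
    haveI : Nontrivial (CliffordAlgebra (Q3 k)) := (algebraMap_injective (Q3 k)).nontrivial
    have hn0 : n ≠ 0 := fun h => by
      have hsu : IsUnit (star (w : CliffordAlgebra (Q3 k))) := w.isUnit.star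
      exact not_isUnit_zero (M₀ := CliffordAlgebra (Q3 k))
        (by have := w.isUnit.mul hsu; rwa [hws, h, zero_smul] at this)
    have hinv : (↑w⁻¹ : CliffordAlgebra (Q3 k)) = n⁻¹ • star (w : CliffordAlgebra (Q3 k)) :=
      Units.inv_eq_of_mul_eq_one_right (by rw [mul_smul_comm, hws, smul_smul, inv_mul_cancel₀ hn0, one_smul])
    rw [hinv, mul_smul_comm]
    refine Submodule.smul_mem _ _ (vec_of_star ?_ ?_)
    · have hse : star (w : CliffordAlgebra (Q3 k)) ∈ evenOdd (Q3 k) 0 := by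
        rw [star_def]
        exact (reverse_mem_evenOdd_iff (Q := Q3 k)).mpr ((involute_mem_evenOdd_iff (Q := Q3 k)).mpr hw)
      simpa using SetLike.mul_mem_graded (SetLike.mul_mem_graded hw (ι_mem_evenOdd_one (Q3 k) v)) hse
    · rw [star_mul, star_mul, star_star, star_ι, neg_mul, mul_neg, mul_assoc]
  have hinvmem := (evenUnits (Q3 k)).inv_mem (x := u) hu
  rw [mem_GPin']
  ext x
  constructor
  · intro hx
    obtain ⟨y, ⟨v, rfl⟩, rfl⟩ : ∃ y ∈ LinearMap.range (ι (Q3 k)), ConjAct.toConjAct u • y = x := hx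
    rw [ConjAct.units_smul_def, ConjAct.ofConjAct_toConjAct]
    exact H u hu v
  · rintro ⟨v, rfl⟩
    refine ⟨(↑u⁻¹ : CliffordAlgebra (Q3 k)) * ι (Q3 k) v * ↑(u⁻¹)⁻¹, H u⁻¹ hinvmem v, ?_⟩
    change ConjAct.toConjAct u • ((↑u⁻¹ : CliffordAlgebra (Q3 k)) * ι (Q3 k) v * ↑(u⁻¹)⁻¹) = ι (Q3 k) v
    rw [ConjAct.units_smul_def, ConjAct.ofConjAct_toConjAct, inv_inv]
    simp only [← mul_assoc, Units.mul_inv, one_mul]
    simp only [mul_assoc, Units.mul_inv, mul_one]

end GrothLib.Cliff28.Three
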