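import Groth.Agent.Lib.QuadGrp.Coord
import Mathlib.Algebra.DualNumber
import Mathlib.RingTheory.Smooth.StandardSmoothOfFree
import Mathlib.RingTheory.RingHom.LocallyStandardSmooth
import Mathlib.FieldTheory.IsAlgClosed.AlgebraicClosure
import Mathlib.Data.Sym.Card

/-!
# The relative dimension of a smooth coordinate ring from its tangent spaces
-/

set_option autoImplicit false
set_option linter.style.haveILetI false

universe u v

namespace GrothLib.Cliff28

open AlgebraicGeometry KaehlerDifferential

section General

variable {R C : Type u} [CommRing R] [CommRing C] [Algebra R C]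

/-- The tangent space at a point is identified with `T` by the coordinates `E`. -/
structure TangentChart {K : Type u} [Field K] [Algebra R K] (x : C →ₐ[R] K) {V : Type v}
    [AddCommGroup V] [Module K V] (E : (C → K) →ₗ[K] V) (T : Submodule K V) : Prop where
  mem : ∀ ψ : C →ₐ[R] DualNumber K, (∀ c, (ψ c).fst = x c) → E (fun c => (ψ c).snd) ∈ T
  inj : ∀ ψ ψ' : C →ₐ[R] DualNumber K, (∀ c, (ψ c).fst = x c) → (∀ c, (ψ' c).fst = x c) →
    E (fun c => (ψ c).snd) = E (fun c => (ψ' c).snd) → ψ = ψ'
  surj : ∀ t ∈ T, ∃ ψ : C →ₐ[R] DualNumber K, (∀ c, (ψ c).fst = x c) ∧ E (fun c => (ψ c).snd) = t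

section Lift

variable {S K : Type u} [CommRing S] [Algebra R S] [Field K] [Algebra R K] [Algebra S K]
  [IsScalarTower R S K]

/-- The lift to the dual numbers of a functional on the differentials. -/
noncomputable def dualLift (L : Ω[S⁄R] →ₗ[S] K) : S →ₐ[R] DualNumber K where
  toFun s := TrivSqZeroExt.inl (algebraMap S K s) + TrivSqZeroExt.inr (L (D R S s))
  map_one' := by simp
  map_mul' a b := by
    refine TrivSqZeroExt.ext ?_ ?_
    · simp
    · simp only [TrivSqZeroExt.snd_mul, TrivSqZeroExt.snd_add, TrivSqZeroExt.snd_inl,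
        TrivSqZeroExt.snd_inr, TrivSqZeroExt.fst_add, TrivSqZeroExt.fst_inl, TrivSqZeroExt.fst_inr,
        zero_add, add_zero, Derivation.leibniz, map_add, map_smul, op_smul_eq_smul, smul_eq_mul,
        Algebra.smul_def]
  map_zero' := by simp
  map_add' a b := by
    refine TrivSqZeroExt.ext ?_ ?_ <;> simp
  commutes' r := by
    rw [← IsScalarTower.algebraMap_apply R S K, Derivation.map_algebraMap, map_zero,
      TrivSqZeroExt.inr_zero, add_zero]
    rfl

theorem fst_dualLift (L : Ω[S⁄R] →ₗ[S] K) (s : S) : (dualLift L s).fst = algebraMap S K s := by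
  simp [dualLift]

theorem snd_dualLift (L : Ω[S⁄R] →ₗ[S] K) (s : S) : (dualLift L s).snd = L (D R S s) := by
  simp [dualLift]

end Lift

/-- A smooth algebra all of whose tangent spaces at geometric points have dimension `N`. -/
theorem smoothOfRelativeDimension_of_tangent [Algebra.Smooth R C] (N : ℕ)
    (H : ∀ (K : Type u) [Field K] [IsAlgClosed K] [Algebra R K] (x : C →ₐ[R] K),
      ∃ (V : Type u) (_ : AddCommGroup V) (_ : Module K V) (E : (C → K) →ₗ[K] V) (T : Submodule K V),
        Module.finrank K T = N ∧ TangentChart x E T) :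
    SmoothOfRelativeDimension N (Spec.map (CommRingCat.ofHom (algebraMap R C))) := by
  refine (HasRingHomProperty.Spec_iff (P := @SmoothOfRelativeDimension.{u} N)).mpr ?_
  rw [CommRingCat.hom_ofHom, RingHom.locally_iff_span_eq_top]
  by_contra htop
  obtain ⟨p, hp, hle⟩ := Ideal.exists_le_maximal _ htop
  obtain ⟨f, hf, hfs⟩ := Algebra.IsSmoothAt.exists_notMem_isStandardSmooth R p
  refine hf (hle (Ideal.subset_span ?_))
  show RingHom.IsStandardSmoothOfRelativeDimension N _
  rw [← IsScalarTower.algebraMap_eq R C (Localization.Away f),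
    RingHom.isStandardSmoothOfRelativeDimension_algebraMap]
  obtain ⟨K, _, _, π, hπ⟩ : ∃ (K : Type u) (_ : Field K) (_ : IsAlgClosed K) (π : C →+* K),
      π f ≠ 0 := by
    letI : Field (C ⧸ p) := Ideal.Quotient.field p
    refine ⟨AlgebraicClosure (C ⧸ p), inferInstance, inferInstance,
      (algebraMap (C ⧸ p) _).comp (Ideal.Quotient.mk p), ?_⟩
    exact (map_ne_zero_iff _ (algebraMap (C ⧸ p) _).injective).mpr
      fun h => hf (Ideal.Quotient.eq_zero_iff_mem.mp h)
  let S := Localization.Away f
  let χ : S →+* K := IsLocalization.Away.lift f (g := π) (by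
    rw [isUnit_iff_ne_zero]
    exact hπ)
  letI : Algebra S K := χ.toAlgebra
  letI : Algebra R K := (χ.comp (algebraMap R S)).toAlgebra
  haveI : IsScalarTower R S K := IsScalarTower.of_algebraMap_eq' rfl
  haveI : Nontrivial S := χ.domain_nontrivial
  rw [Algebra.IsStandardSmoothOfRelativeDimension.iff_of_isStandardSmooth]
  let b := Module.Free.chooseBasis S (Ω[S⁄R])
  rw [← b.mk_eq_rank'', Cardinal.mk_fintype, Nat.cast_inj]
  let toC : C →ₐ[R] S := IsScalarTower.toAlgHom R C S
  let x : C →ₐ[R] K := (IsScalarTower.toAlgHom R S K).comp toC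
  obtain ⟨V, _, _, E, T, hT, hc⟩ := H K x
  let res : (Ω[S⁄R] →ₗ[S] K) →ₗ[K] (C → K) :=
    { toFun := fun L c => L (D R S (toC c))
      map_add' := fun L L' => rfl
      map_smul' := fun k L => rfl }
  have hx : ∀ L c, ((dualLift L).comp toC c).fst = x c := fun L c => fst_dualLift L _
  have hres : ∀ L, res L = fun c => ((dualLift L).comp toC c).snd := fun L =>
    funext fun c => (snd_dualLift L _).symm
  have hinj : Function.Injective (E.comp res) := by
    intro L L' h
    rw [LinearMap.comp_apply, LinearMap.comp_apply, hres, hres] at h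
    have h1 := hc.inj _ _ (hx L) (hx L') h
    have h2 : dualLift L = dualLift L' := IsLocalization.algHom_ext (Submonoid.powers f) h1
    refine Derivation.liftKaehlerDifferential_unique L L' (Derivation.ext fun s => ?_)
    change L (D R S s) = L' (D R S s)
    rw [← snd_dualLift L, h2, snd_dualLift]
  have hrange : LinearMap.range (E.comp res) = T := by
    refine le_antisymm ?_ fun t ht => ?_
    · rintro _ ⟨L, rfl⟩
      rw [LinearMap.comp_apply, hres]
      exact hc.mem _ (hx L)
    obtain ⟨ψ, hψ, rfl⟩ := hc.surj t ht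
    have hu : IsUnit (ψ f) := by
      rw [TrivSqZeroExt.isUnit_iff_isUnit_fst, hψ]
      exact (IsLocalization.Away.algebraMap_isUnit (S := S) f).map χ
    let ψS : S →ₐ[R] DualNumber K := IsLocalization.liftAlgHom (M := Submonoid.powers f) (f := ψ)
      fun y => by
        obtain ⟨k, hk⟩ := y.2
        rw [← hk, map_pow]
        exact hu.pow k
    have hψS : ∀ c, ψS (toC c) = ψ c := fun c => by
      simp only [ψS, IsLocalization.coe_liftAlgHom, toC, IsScalarTower.coe_toAlgHom',
        IsLocalization.lift_eq]
      rfl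
    have hfst : ∀ s, (ψS s).fst = algebraMap S K s := by
      have h1 : (TrivSqZeroExt.fstHom R K K).comp ψS = IsScalarTower.toAlgHom R S K :=
        IsLocalization.algHom_ext (Submonoid.powers f) (AlgHom.ext fun c => by
          change (ψS (toC c)).fst = x c
          rw [hψS, hψ])
      exact fun s => DFunLike.congr_fun h1 s
    let d : Derivation R S K := Derivation.mk'
      { toFun := fun s => (ψS s).snd
        map_add' := fun a b => by simp
        map_smul' := fun r a => by
          rw [map_smul, TrivSqZeroExt.snd_smul]; rfl }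
      fun a b => by
        simp only [LinearMap.coe_mk, AddHom.coe_mk, map_mul, TrivSqZeroExt.snd_mul, hfst,
          Algebra.smul_def, op_smul_eq_smul]
        rfl
    refine ⟨d.liftKaehlerDifferential, congrArg E (funext fun c => ?_)⟩
    change d.liftKaehlerDifferential (D R S (toC c)) = _
    rw [Derivation.liftKaehlerDifferential_comp_D]
    change (ψS (toC c)).snd = _
    rw [hψS]
  have h1 : Module.finrank K (Ω[S⁄R] →ₗ[S] K) = Fintype.card (Module.Free.ChooseBasisIndex S Ω[S⁄R]) := by
    rw [← (b.constr K (M' := K)).finrank_eq, Module.finrank_pi]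
  rw [← h1, ← LinearMap.finrank_range_of_inj hinj, hrange, hT]

end General

end GrothLib.Cliff28
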