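import Groth.Agent.Lib.Cliff28.BaseChange
import Mathlib.LinearAlgebra.Determinant

/-!
# The top coefficient of an element of a Clifford algebra

`GrothLib.Cliff28.iter l x`: the iterated contraction along a list of linear forms; along the
coordinates of a basis it is a scalar, and an isometry multiplies it by its determinant.
-/

set_option autoImplicit false
set_option linter.unusedSectionVars false

open CliffordAlgebra

namespace GrothLib.Cliff28

variable {R : Type*} [CommRing R] {M : Type*} [AddCommGroup M] [Module R M]

/-- Iterated contraction, the head of the list acting first. -/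
noncomputable def iter (Q : QuadraticForm R M) :
    List (Module.Dual R M) → CliffordAlgebra Q →ₗ[R] CliffordAlgebra Q
  | [] => LinearMap.id
  | d :: l => iter Q l ∘ₗ contractLeft d

variable (Q : QuadraticForm R M)

theorem iter_nil (x : CliffordAlgebra Q) : iter Q [] x = x := rfl

theorem iter_cons (d : Module.Dual R M) (l : List (Module.Dual R M)) (x : CliffordAlgebra Q) :
    iter Q (d :: l) x = iter Q l (contractLeft d x) := rfl

theorem iter_append (l l' : List (Module.Dual R M)) (x : CliffordAlgebra Q) :
    iter Q (l ++ l') x = iter Q l' (iter Q l x) := by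
  induction l generalizing x with
  | nil => rfl
  | cons d l ih => rw [List.cons_append, iter_cons, iter_cons, ih]

theorem contract_iter (d : Module.Dual R M) :
    ∀ (l : List (Module.Dual R M)) (x : CliffordAlgebra Q),
      contractLeft d (iter Q l x) = ((-1 : R) ^ l.length) • iter Q l (contractLeft d x)
  | [], x => by simp [iter_nil]
  | e :: l, x => by
    rw [iter_cons, contract_iter d l, iter_cons, contractLeft_comm, map_neg, List.length_cons,
      pow_succ, mul_neg_one, neg_smul, smul_neg]

theorem contract_iter_self (d : Module.Dual R M) :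
    ∀ (l : List (Module.Dual R M)) (x : CliffordAlgebra Q), d ∈ l →
      contractLeft d (iter Q l x) = 0
  | [], _, h => by simp at h
  | e :: l, x, h => by
    rcases List.mem_cons.mp h with rfl | h
    · rw [iter_cons, contract_iter, contractLeft_contractLeft, map_zero, smul_zero]
    · rw [iter_cons, contract_iter_self d l _ h]

theorem iter_scalar {I : Type*} [Finite I] (b : Module.Basis I R M) (L : List I) (hL : ∀ i, i ∈ L)
    (x : CliffordAlgebra Q) : ∃ r, iter Q (L.map b.coord) x = algebraMap R _ r :=
  scalar_of_forall_contract b Q fun i =>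
    contract_iter_self Q _ _ _ (List.mem_map_of_mem (hL i))

theorem contract_mem_pow (d : Module.Dual R M) (k : ℕ) {x : CliffordAlgebra Q}
    (hx : x ∈ LinearMap.range (ι Q) ^ (k + 1)) :
    contractLeft d x ∈ LinearMap.range (ι Q) ^ k := by
  induction k generalizing x with
  | zero =>
    rw [zero_add, pow_one] at hx
    obtain ⟨v, rfl⟩ := hx
    rw [pow_zero, contractLeft_ι]
    exact Submodule.mem_one.mpr ⟨_, rfl⟩
  | succ k ih =>
    rw [pow_succ'] at hx
    induction hx using Submodule.mul_induction_on' with
    | mem_mul_mem a ha y hy =>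
      obtain ⟨v, rfl⟩ := ha
      rw [contractLeft_ι_mul]
      refine sub_mem (Submodule.smul_mem _ _ hy) ?_
      rw [pow_succ']
      exact Submodule.mul_mem_mul ⟨v, rfl⟩ (ih hy)
    | add a ha c hc iha ihc => rw [map_add]; exact add_mem iha ihc

theorem iter_eq_zero_of_mem_pow (l : List (Module.Dual R M)) (k : ℕ) {x : CliffordAlgebra Q}
    (hk : k < l.length) (hx : x ∈ LinearMap.range (ι Q) ^ k) : iter Q l x = 0 := by
  induction l generalizing k x with
  | nil => simp at hk
  | cons d l ih =>
    rw [iter_cons]
    rcases k with _ | k
    · rw [pow_zero] at hx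
      obtain ⟨r, rfl⟩ := Submodule.mem_one.mp hx
      rw [contractLeft_algebraMap, map_zero]
    · exact ih k (by simpa using hk) (contract_mem_pow Q d k hx)

theorem changeForm_iter {Q' : QuadraticForm R M} {B : LinearMap.BilinForm R M}
    (h : B.toQuadraticMap = Q' - Q) :
    ∀ (l : List (Module.Dual R M)) (x : CliffordAlgebra Q),
      changeForm h (iter Q l x) = iter Q' l (changeForm h x)
  | [], _ => rfl
  | d :: l, x => by rw [iter_cons, changeForm_iter h l, changeForm_contractLeft, iter_cons]

/-- A linear map as an isometry of zero forms. -/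
def zeroIso (g : M →ₗ[R] M) : (0 : QuadraticForm R M) →qᵢ (0 : QuadraticForm R M) :=
  { g with map_app' := fun _ => rfl }

theorem top_map_zero {I : Type*} [Finite I] (b : Module.Basis I R M) (L : List I)
    (hL : ∀ i, i ∈ L) (g : M →ₗ[R] M) (x : CliffordAlgebra (0 : QuadraticForm R M)) :
    iter 0 (L.map b.coord) (map (zeroIso g) x) =
      LinearMap.det g • iter 0 (L.map b.coord) x := by
  classical
  haveI := Fintype.ofFinite I
  letI : LinearOrder I := LinearOrder.lift' (Fintype.equivFin I) (Equiv.injective _)
  suffices iter 0 (L.map b.coord) ∘ₗ (map (zeroIso g)).toLinearMap =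
      LinearMap.det g • iter 0 (L.map b.coord) from LinearMap.congr_fun this x
  refine (b.ExteriorAlgebra).ext fun s => ?_
  rw [LinearMap.comp_apply, LinearMap.smul_apply, AlgHom.toLinearMap_apply]
  have hmap : map (zeroIso g) = ExteriorAlgebra.map g := hom_ext (by ext; rfl)
  rw [hmap, ExteriorAlgebra.basis_apply, ExteriorAlgebra.ιMulti_family,
    ExteriorAlgebra.map_apply_ιMulti]
  generalize hv : b ∘ _ = v
  rcases Nat.lt_or_ge s.card L.length with hlt | hge
  · rw [iter_eq_zero_of_mem_pow _ _ s.card (by simpa using hlt)
      (ExteriorAlgebra.ιMulti_range R s.card ⟨_, rfl⟩),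
      iter_eq_zero_of_mem_pow _ _ s.card (by simpa using hlt)
      (ExteriorAlgebra.ιMulti_range R s.card ⟨_, rfl⟩), smul_zero]
  · have hcard : s.card = Fintype.card I := le_antisymm s.card_le_univ <| by
      refine le_trans ?_ hge
      rw [← Finset.card_univ]
      exact (Finset.card_le_card fun i _ => List.mem_toFinset.mpr (hL i)).trans L.toFinset_card_le
    let b' : Module.Basis (Fin s.card) R M :=
      b.reindex ((Fintype.equivFin I).trans (finCongr hcard.symm))
    let F := (iter (0 : QuadraticForm R M) (L.map b.coord)).compAlternatingMap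
      (ExteriorAlgebra.ιMulti R s.card)
    obtain ⟨r, hr⟩ := iter_scalar (0 : QuadraticForm R M) b L hL (ExteriorAlgebra.ιMulti R s.card b')
    have hF : ∀ w, F w = b'.det w • algebraMap R _ r := fun w => by
      refine congrFun (congrArg DFunLike.coe (Module.Basis.ext_alternating b'
        (f := F) (g := b'.det.smulRight (algebraMap R _ r)) fun i hi => ?_)) w
      have hb := Finite.injective_iff_bijective.mp hi
      let σ : Equiv.Perm (Fin s.card) := Equiv.ofBijective i hb
      change F (b' ∘ σ) = b'.det.smulRight (algebraMap R _ r) (b' ∘ σ)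
      rw [AlternatingMap.map_perm, AlternatingMap.map_perm, AlternatingMap.smulRight_apply,
        b'.det_self, one_smul]
      exact congrArg _ hr
    have := hF (g ∘ v)
    rw [Module.Basis.det_comp, mul_smul, ← hF v] at this
    exact this

theorem map_changeForm (g : Q →qᵢ Q) {B : LinearMap.BilinForm R M}
    (h : B.toQuadraticMap = (0 : QuadraticForm R M) - Q) (x : CliffordAlgebra Q) :
    changeForm h (map g x) = map (zeroIso g.toLinearMap)
      (changeForm (B := B.compl₁₂ g.toLinearMap g.toLinearMap) (Q' := (0 : QuadraticForm R M))
        (by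
          ext v
          have := congrArg (fun F : QuadraticMap R M R => F (g v)) h
          simpa using this) x) := by
  induction x using CliffordAlgebra.left_induction with
  | algebraMap r => simp
  | add x y hx hy => simp only [map_add, hx, hy]
  | ι_mul x w hx =>
    rw [map_mul, map_apply_ι, changeForm_ι_mul, hx, changeForm_ι_mul, map_sub, map_mul, map_apply_ι,
      map_contractLeft]
    rfl

theorem top_map {I : Type*} [Finite I] (b : Module.Basis I R M) (L : List I) (hL : ∀ i, i ∈ L)
    (g : Q →qᵢ Q) (x : CliffordAlgebra Q) :
    iter Q (L.map b.coord) (map g x) = LinearMap.det g.toLinearMap • iter Q (L.map b.coord) x := by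
  haveI : Module.Free R M := Module.Free.of_basis b
  obtain ⟨B, hB⟩ := exists_changeForm Q
  obtain ⟨r, hr⟩ := iter_scalar Q b L hL x
  refine (changeFormEquiv hB).injective ?_
  rw [changeFormEquiv_apply, changeFormEquiv_apply, changeForm_iter, map_changeForm, top_map_zero b L hL,
    ← changeForm_iter, map_smul, hr, changeForm_algebraMap, changeForm_algebraMap]

end GrothLib.Cliff28
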